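import Cfsg.Agent.Omega.NO1.TH.K.LocBound

/-!
# N1-ONE, (B) of #19584, natural type (helper247 #20646): `W = V₀ + ∑ W_j^++`

* `KNat.smul_pp` : `R` permutes the `PP j`;
* `KNat.acts_add` : `h w + w ∈ ⨆ PP j` for `h` acting by matrices;
* `KNat.le_pp` : `W ≤ fx V R ⊔ ⨆ j, PP j`;
* `KNat.exists_off` : if `fx V R ≤ E`, `W ≰ E` there is `v ∈ PP j`, `v ∉ E`, not in the fixed line.
-/

set_option autoImplicit false
set_option linter.unusedSectionVars false

namespace Cfsg.Agent.Omega.NO1.TH.K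

open Subgroup Cfsg.Agent.Omega.NO1.AB Cfsg.Agent.Lib.SL2Mat
open Cfsg.Agent.Omega.NatPair (ap)
open scoped Pointwise

universe u

variable {Y : Type u} [Group Y] {V : Type u} [AddCommGroup V] [DistribMulAction Y V] {H R : Subgroup Y}
  {F : Type} [Field F] {k : ℕ} {co : V → Fin k → Fin 2 → F}

namespace KNat

variable (N : KNat V H R F k co)
include N

/-- `H` permutes the `PP j` -/
theorem smul_pp [CharP F 2] {r : Y} (hr : r ∈ H) (j : Fin k) :
    ∃ j', ∀ v ∈ PP V H R co j, r • v ∈ PP V H R co j' := by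
  obtain ⟨σ, hσ⟩ := N.perm r hr
  refine ⟨σ j, fun v hv => ?_⟩
  refine AddSubgroup.closure_induction ?_ ?_ ?_ ?_ hv
  · rintro _ ⟨g, hg, A, hA, hAi, w, hw, rfl⟩
    have hr' : r⁻¹ ∈ H := H.inv_mem hr
    have hgr : r * g * r⁻¹ ∈ H := H.mul_mem (H.mul_mem hr hg) hr'
    obtain ⟨B, hB⟩ := N.norm r hr g hg A hA.1
    have hsm : ∀ v : V, (r * g * r⁻¹) • v = r • g • r⁻¹ • v := fun v => by rw [mul_smul, mul_smul]
    refine AddSubgroup.subset_closure ⟨r * g * r⁻¹, hgr, B, ⟨hB, ?_⟩, ?_, r • w, smul_mem_WW hr hw, ?_⟩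
    · intro d hd hd0
      rw [hsm, hA.2 _ (smul_mem_WW hr' hd) ((N.co_smul_zero hr' hd).2 hd0), smul_inv_smul]
    · intro i hi
      apply NatPair.ap_inj
      intro x
      obtain ⟨v, hv, hvx⟩ := N.exists_sgl i x
      have hx : co v i = x := by rw [hvx, Pi.single_eq_same]
      rw [NatPair.ap_one, ← hx, ← hB v hv, ← N.sub_ad (smul_mem_WW hgr hv) hv]
      obtain ⟨i', rfl⟩ := σ.surjective i
      have hi' : i' ≠ j := fun e => hi (by rw [e])
      have hv' := smul_mem_WW hr' hv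
      have e : (r * g * r⁻¹) • v + v = r • (g • r⁻¹ • v + r⁻¹ • v) := by
        rw [hsm, smul_add, smul_inv_smul]
      rw [e, hσ _ (add_mem (smul_mem_WW hg hv') hv'), N.sub_ad (smul_mem_WW hg hv') hv', hA.1 _ hv', hAi i' hi',
        NatPair.ap_one]
    · rw [hsm, inv_smul_smul, smul_add]
  · rw [smul_zero]; exact zero_mem _
  · intro a b _ _ ha hb
    rw [smul_add]
    exact add_mem ha hb
  · intro a _ ha
    rw [smul_neg]
    exact neg_mem ha

/-- `h w + w ∈ ⨆ PP j` for `h` acting by matrices -/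
theorem acts_add [CharP F 2] (h2 : ∀ v : V, v + v = 0) {h : Y} (hh : h ∈ H)
    {A : Fin k → Matrix.SpecialLinearGroup (Fin 2) F} (hA : Acts V H R co h A) {w : V} (hw : w ∈ WW V H R) :
    h • w + w ∈ ⨆ j, PP V H R co j := by
  classical
  have key : ∀ s : Finset (Fin k), ∀ h ∈ H, ∀ A, Acts V H R co h A → (∀ i, i ∉ s → A i = 1) →
      ∀ w ∈ WW V H R, h • w + w ∈ ⨆ j, PP V H R co j := by
    intro s
    induction s using Finset.induction_on with
    | empty =>
      intro h hh A hA hAi w hw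
      have h1 := N.trivH h hh (fun w hw => by
        funext i
        rw [hA.1 w hw, hAi i (by simp), NatPair.ap_one]) w hw
      rw [h1, h2]
      exact zero_mem _
    | insert j s hj ih =>
      intro h hh A hA hAi w hw
      obtain ⟨g, hg, hgA⟩ := N.lift (Pi.mulSingle j (A j))
      obtain ⟨h', hh', hA'⟩ := N.lift (Function.update A j 1)
      have h1 : h • w = h' • g • w := by
        rw [← mul_smul]
        refine N.eqOn hh (H.mul_mem hh' hg) ?_ hw
        intro w hw
        rw [mul_smul]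
        funext i
        rw [hA.1 w hw, hA'.1 _ (smul_mem_WW hg hw), hgA.1 w hw]
        by_cases hi : i = j
        · subst hi
          rw [Function.update_self, NatPair.ap_one, Pi.mulSingle_eq_same]
        · rw [Function.update_of_ne hi, Pi.mulSingle_eq_of_ne hi, NatPair.ap_one]
      have h3 := ih h' hh' _ hA' (by
        intro i hi
        by_cases hij : i = j
        · subst hij
          rw [Function.update_self]
        · rw [Function.update_of_ne hij]
          exact hAi i (by simp [hij, hi])) (g • w) (smul_mem_WW hg hw)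
      have h4 : g • w + w ∈ PP V H R co j := AddSubgroup.subset_closure
        ⟨g, hg, _, hgA, fun i hi => Pi.mulSingle_eq_of_ne hi _, w, hw, rfl⟩
      have e : h • w + w = (h' • g • w + g • w) + (g • w + w) := by
        rw [h1]
        have : h' • g • w + g • w + (g • w + w) = h' • g • w + w + (g • w + g • w) := by abel
        rw [this, h2, add_zero]
      rw [e]
      exact add_mem h3 ((le_iSup (fun j => PP V H R co j) j) h4)
  exact key Finset.univ h hh A hA (fun i hi => absurd (Finset.mem_univ i) hi) w hw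

/-- **`W = V₀ + ∑ W_j^++`** -/
theorem le_pp [CharP F 2] (h2 : ∀ v : V, v + v = 0) (hRH : R ≤ H) :
    WW V H R ≤ fx V R ⊔ ⨆ j, PP V H R co j := by
  set S := fx V R ⊔ ⨆ j, PP V H R co j with hS
  have hSW : S ≤ WW V H R := sup_le fx_le_WW (iSup_le fun j => PP_le_WW j)
  have hRS : ∀ r ∈ R, ∀ v ∈ S, r • v ∈ S := by
    intro r hr v hv
    obtain ⟨x, hx, y, hy, rfl⟩ := AddSubgroup.mem_sup.1 hv
    rw [smul_add, hx r hr]
    refine add_mem (AddSubgroup.mem_sup_left hx) ?_
    refine AddSubgroup.mem_sup_right ?_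
    refine AddSubgroup.iSup_induction (fun j => PP V H R co j) (C := fun y => r • y ∈ ⨆ j, PP V H R co j) hy
      ?_ ?_ ?_
    · intro j v hv
      obtain ⟨j', hj'⟩ := N.smul_pp (hRH hr) j
      exact (le_iSup (fun j => PP V H R co j) j') (hj' v hv)
    · rw [smul_zero]; exact zero_mem _
    · intro a b ha hb
      rw [smul_add]
      exact add_mem ha hb
  have hAS : ∀ h ∈ H, ∀ A, Acts V H R co h A → ∀ v ∈ S, h • v ∈ S := by
    intro h hh A hA v hv
    have h1 := N.acts_add h2 hh hA (hSW hv)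
    have e : h • v = (h • v + v) + v := by rw [add_assoc, h2, add_zero]
    rw [e]
    exact add_mem (AddSubgroup.mem_sup_right h1) hv
  let K : Subgroup Y :=
    { carrier := {h | h ∈ H ∧ (∀ v ∈ S, h • v ∈ S) ∧ ∀ v ∈ S, h⁻¹ • v ∈ S}
      one_mem' := ⟨H.one_mem, fun v hv => by rwa [one_smul], fun v hv => by rwa [inv_one, one_smul]⟩
      mul_mem' := fun {a b} ha hb => ⟨H.mul_mem ha.1 hb.1, fun v hv => by
        rw [mul_smul]; exact ha.2.1 _ (hb.2.1 v hv), fun v hv => by
        rw [mul_inv_rev, mul_smul]; exact hb.2.2 _ (ha.2.2 v hv)⟩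
      inv_mem' := fun {a} ha => ⟨H.inv_mem ha.1, ha.2.2, fun v hv => by rw [inv_inv]; exact ha.2.1 v hv⟩ }
  have hK : K = H := by
    apply N.gen
    · intro r hr
      exact ⟨hRH hr, hRS r hr, hRS r⁻¹ (R.inv_mem hr)⟩
    · intro h hh
      exact hh.1
    · intro h hh A hA
      refine ⟨hh, hAS h hh A hA, ?_⟩
      refine hAS h⁻¹ (H.inv_mem hh) (fun i => (A i)⁻¹) ⟨?_, ?_⟩
      · intro v hv i
        have h1 := hA.1 _ (smul_mem_WW (H.inv_mem hh) hv) i
        rw [smul_inv_smul] at h1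
        rw [h1, NatPair.ap_inv_ap]
      · intro d hd hd0
        rw [inv_smul_eq_iff]
        exact (hA.2 d hd hd0).symm
  refine WW_le fun x hx w hw => ?_
  have hx' : x ∈ K := by rw [hK]; exact hx
  exact hx'.2.1 w (AddSubgroup.mem_sup_left hw)

/-- a vector of `PP j` outside `E`, not in the fixed line -/
theorem exists_off [CharP F 2] (h2 : ∀ v : V, v + v = 0) (hRH : R ≤ H) (E : AddSubgroup V) (hfx : fx V R ≤ E)
    (h : ¬ WW V H R ≤ E) : ∃ j, ∃ v ∈ PP V H R co j, v ∉ E ∧ co v j 1 ≠ 0 := by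
  have h1 : ∃ j, ¬ PP V H R co j ≤ E := by
    by_contra hc
    push Not at hc
    exact h ((N.le_pp h2 hRH).trans (sup_le hfx (iSup_le hc)))
  obtain ⟨j, hj⟩ := h1
  obtain ⟨v₁, hv₁, hv₁E⟩ := SetLike.not_le_iff_exists.1 hj
  by_cases hc : co v₁ j 1 = 0
  · obtain ⟨v₂, hv₂, hco⟩ := N.pp_onto j (![0, 1] : Fin 2 → F)
    have h3 : co v₂ j 1 = 1 := by rw [hco, Pi.single_eq_same]; simp
    by_cases hE : v₂ ∈ E
    · refine ⟨j, v₁ + v₂, add_mem hv₁ hv₂, fun h4 => ?_, ?_⟩
      · apply hv₁E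
        have h5 := add_mem h4 hE
        rwa [add_assoc, h2, add_zero] at h5
      · rw [N.add _ (PP_le_WW j hv₁) _ (PP_le_WW j hv₂), Pi.add_apply, Pi.add_apply, hc, h3, zero_add]
        exact one_ne_zero
    · exact ⟨j, v₂, hv₂, hE, by rw [h3]; exact one_ne_zero⟩
  · exact ⟨j, v₁, hv₁, hv₁E, hc⟩

end KNat

end Cfsg.Agent.Omega.NO1.TH.K
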