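import Cfsg.Agent.Omega.NO1.TH.K.L2A
import Cfsg.Agent.Omega.NO1.TH.K.Off

/-!
# N1, natural type, `k` factors: (g) and (d) of bb OMEGA 20646 (helper247)

`A ≤ H` a fully opposite member, `W' = WW V H' R`, `Q = QQ H R`.
* `TwoN.g_fix'` : `S_W` centralises `W' ∩ E_A`;
* `TwoN.d_card` : `W' ≰ E_A` implies `|A ∩ Q| ≤ |F|`;
* `TwoN.d_all` : then `|B| = |F|²`, `|V : E_B| = |F|` for all members;
* `TwoN.not_le`, `TwoN.inf_fx`, `TwoN.supp'`, `TwoN.d_top` : the outputs of (d) for all opposite members.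
-/

set_option autoImplicit false
set_option linter.unusedSectionVars false
set_option linter.dupNamespace false

namespace Cfsg.Agent.Omega.NO1.TH.K

open Subgroup Cfsg.Agent.Omega.NO1.AB Cfsg.Agent.Omega.FFBr Cfsg.Agent.Lib.SL2Mat
open Cfsg.Agent.Omega.NatPair (ap)
open scoped Pointwise

universe u

variable {Y : Type u} [Group Y] {V : Type u} [AddCommGroup V] [DistribMulAction Y V]

namespace TwoN

variable [Finite Y] [Finite V] {U : Set (Subgroup Y)} {T : Sylow 2 Y} {M H H' R : Subgroup Y} {F : Type} [Field F]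
  [Finite F] {k : ℕ} {co co' : V → Fin k → Fin 2 → F} {t : Y} (h : TwoN V U T M H H' R F k co co' t)
include h

/-- **(g)** of #20646 -/
theorem g_fix' {A : Subgroup Y} (hA : A ∈ U) (hAH : A ≤ H) {I : Set (Fin k)} (hO : Opp V H R co A I) {w : V}
    (hw : w ∉ Ee V A) {x : V} (hx : x ∈ WW V H R) {s : Y} (hs : s ∈ A) (hsx : s • w + w + x ∈ fx V A) {y : V}
    (hy : y ∈ WW V H' R) (hyE : y ∈ Ee V A) : s • y = y := by
  have hm := h.amb.cls.mem A hA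
  obtain ⟨r, hr, hry⟩ := hm.surj w hw y hyE
  -- `[x', r] = [y, s_{x'}] ∈ W ∩ W' ∩ F_A` has coordinates `0`
  have key : ∀ x' ∈ WW V H R, ∀ s' ∈ A, s' • w + w + x' ∈ fx V A → co (r • x' + x') = 0 := by
    intro x' hx' s' hs' hsx'
    have h1 := s_symm h.two hm hs' hr hsx' hry
    have hsQ := mem_Q_of_shift h.K h.amb h.a h.we hA hAH hw hx' hs' hsx'
    have hW : r • x' + x' ∈ WW V H R := add_mem (smul_mem_WW (hAH hr) hx') hx'
    have hW' : r • x' + x' ∈ WW V H' R := by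
      rw [h1]
      exact add_mem (smul_mem_WW (h.a'.RH (QQ_le hsQ)) hy) hy
    have hF : r • x' + x' ∈ fx V A := by
      rw [h1]
      exact hm.EB s' hs' y hyE
    funext i
    by_cases hi : i ∈ I
    · exact hO.inf hW hF (fun j => h.inf_le hW hW' j) hi
    · exact hO.comm h.K hAH h.two hx' hr hi
  have hrW : ∀ x' ∈ WW V H R, co (r • x') = co x' := by
    intro x' hx'
    obtain ⟨s', hs', hsx'⟩ := hm.surj w hw x' (Amal.WW_le_Ee h.a h.amb h.we hA hAH hx')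
    exact h.K.co_eq_of_add h.two (smul_mem_WW (hAH hr) hx') hx' (key x' hx' s' hs' hsx')
  have h1 := h.K.trivH r (hAH hr) hrW x hx
  have h2 := s_symm h.two hm hs hr hsx hry
  rw [h1, h.two] at h2
  exact ((HE.add_eq_zero' h.two).1 h2.symm)

/-- an opposite member is active -/
theorem opp_not_Q {A : Subgroup Y} (hAM : ¬ A ≤ M) : ¬ A ≤ QQ H R :=
  fun h1 => hAM (h1.trans (QQ_le.trans (h.a.RT.trans h.amb.TM)))

/-- `|S_W| ≥ |F|` for active members -/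
theorem card_S_ge {A : Subgroup Y} (hA : A ∈ U) (hAH : A ≤ H) (hAQ : ¬ A ≤ QQ H R) {w : V} (hw : w ∉ Ee V A) :
    Nat.card F ≤ Nat.card {s : Y // s ∈ A ∧ s • w + w ∈ WW V H R ⊔ fx V A} := by
  obtain ⟨x, hx, hxU, hxR⟩ := Amal.exists_conj h.a h.amb hA hAH
  have hxQ : ¬ MulAut.conj x • A ≤ QQ H R := fun h1 => hAQ ((conj_le_Q hx).1 h1)
  obtain ⟨I, ⟨i, hi⟩, hS⟩ := exists_supp h.K h.amb h.a h.we hxU hxR hxQ
  have h1 := member_card h.K h.amb h.a hxR hS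
  rw [card_Q_conj x hx, conj_card] at h1
  have h2 := card_S h.amb h.a h.we hA hAH hw
  have hq : 0 < Nat.card ↥(A ⊓ QQ H R) := Nat.card_pos
  have h3 : Nat.card {s : Y // s ∈ A ∧ s • w + w ∈ WW V H R ⊔ fx V A} = Nat.card (I → F) := by
    apply Nat.eq_of_mul_eq_mul_right hq
    rw [h2, h1, mul_comm]
  rw [h3, Nat.card_fun]
  have h6 : 1 ≤ Nat.card I := by
    have : Nonempty I := ⟨⟨i, hi⟩⟩
    exact Nat.card_pos
  exact Nat.le_self_pow (by omega) _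

/-- **(d), first part**: `|A ∩ Q| ≤ |F|` -/
theorem d_card {A : Subgroup Y} (hA : A ∈ U) (hAH : A ≤ H) (hAM : ¬ A ≤ M) {I : Set (Fin k)}
    (hO : Opp V H R co A I) (hW : ¬ WW V H' R ≤ Ee V A) : Nat.card ↥(A ⊓ QQ H R) ≤ Nat.card F := by
  have hm := h.amb.cls.mem A hA
  have hI : ∃ i : Fin k, True := by
    by_contra hcon
    push Not at hcon
    apply h.opp_not_Q hAM
    intro b hb
    have h2 : b ∈ A ⊓ CW V H R := ⟨hb, fun w hw => by
      apply h.K.trivH b (hAH hb) _ w hw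
      intro w _
      funext i
      exact (hcon i).elim⟩
    rw [Amal.inf_CW' h.a h.amb hA hAH] at h2
    exact h2.2
  obtain ⟨i₀, _⟩ := hI
  have := h.K.charP h.two i₀
  have hfx : fx V R ≤ Ee V A := (fx_le_WW (H := H)).trans (Amal.WW_le_Ee h.a h.amb h.we hA hAH)
  obtain ⟨j, v₀, hv₀, hvE, hline⟩ := h.K'.exists_off h.two h.a'.RH (Ee V A) hfx hW
  have hv₀W : v₀ ∈ WW V H' R := PP_le_WW j hv₀
  have hQR : A ⊓ QQ H R ≤ R := inf_le_right.trans QQ_le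
  have hel : ElAb (A ⊓ QQ H R) := (Mem.elAb hm).mono inf_le_left
  refine h.K'.card_le' h.a'.RH hQR hel (S := {s | s ∈ A ∧ s • v₀ + v₀ ∈ WW V H R ⊔ fx V A}) ?_ ?_ hv₀W
    (fun i hij => h.K'.pp_supp hv₀ hij) hline ?_ ?_
  · rintro s ⟨hs, hs1⟩
    exact ⟨hs, S_mem_Q h.K h.amb h.a h.we hA hAH hvE hs hs1⟩
  · exact h.card_S_ge hA hAH (h.opp_not_Q hAM) hvE
  · intro a ha hfix
    have h1 := h.K'.pp_fix h.two (h.a'.RH (hQR ha)) hfix hv₀
    apply hm.inj v₀ hvE a ha.1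
    rw [h1, h.two]
    exact zero_mem _
  · rintro b hb s ⟨hs, hs1⟩
    obtain ⟨x, hx, hsx⟩ := exists_x_of_sup h.two hs1
    exact h.g_fix' hA hAH hO hvE hx hs hsx (add_mem (smul_mem_WW (h.a'.RH (hQR hb)) hv₀W) hv₀W) (hm.VB b hb.1 v₀)

/-- `|A ∩ Q| |W' ∩ E_A| ≤ |W'|` when `A ∩ Q` centralises `W' ∩ E_A` and `W' ≰ E_A` -/
theorem d_noOver {A : Subgroup Y} (hA : A ∈ U) (hW : ¬ WW V H' R ≤ Ee V A)
    (hfix : ∀ y ∈ WW V H' R, y ∈ Ee V A → y ∈ fx V (A ⊓ QQ H R)) :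
    A ⊓ QQ H R ⊓ QQ H' R = ⊥ ∧ WW V H' R ⊓ Ee V A ≤ fx V (A ⊓ QQ H R) ⊓ WW V H' R ∧
      Nat.card ↥(A ⊓ QQ H R) * Nat.card ↥(fx V (A ⊓ QQ H R) ⊓ WW V H' R) ≤ Nat.card ↥(WW V H' R) := by
  have hm := h.amb.cls.mem A hA
  have h1 : A ⊓ QQ H R ⊓ QQ H' R = ⊥ := by
    rw [eq_bot_iff]
    rintro b ⟨⟨hb, -⟩, hbQ'⟩
    rw [mem_bot]
    obtain ⟨v, hv, hvE⟩ := SetLike.not_le_iff_exists.1 hW
    apply hm.inj v hvE b hb
    rw [Amal.QQ_fix h.a' h.amb hbQ' hv, h.two]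
    exact zero_mem _
  refine ⟨h1, fun v hv => ⟨hfix v hv.1 hv.2, hv.1⟩, ?_⟩
  have h2 := h.K'.noOver (A ⊓ QQ H R) (inf_le_right.trans QQ_le) ((Mem.elAb hm).mono inf_le_left)
  rw [h1, card_bot, one_mul] at h2
  exact h2

/-- `|W'| ≤ |V : E| |W' ∩ E|` -/
theorem card_W'_le (A : Subgroup Y) :
    Nat.card ↥(WW V H' R) * Nat.card ↥(Ee V A) = Nat.card ↥(WW V H' R ⊔ Ee V A) * Nat.card ↥(WW V H' R ⊓ Ee V A) :=
  (card_sup_as _ _).symm

/-- **(d)**: `|B| = |F|²`, `|V : E_B| = |F|` for all members -/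
theorem d_all {A : Subgroup Y} (hA : A ∈ U) (hAH : A ≤ H) (hAM : ¬ A ≤ M) {I : Set (Fin k)}
    (hO : Opp V H R co A I) (hW : ¬ WW V H' R ≤ Ee V A) :
    ∀ B ∈ U, Nat.card B = Nat.card F ^ 2 ∧ (Ee V B).index = Nat.card F := by
  have hm := h.amb.cls.mem A hA
  obtain ⟨v, hv, hvE⟩ := SetLike.not_le_iff_exists.1 hW
  have hAQ := h.opp_not_Q hAM
  have h1 := h.d_card hA hAH hAM hO hW
  have h2 := h.card_S_ge hA hAH hAQ hvE
  have h3 := card_S_le h.K h.amb h.a h.we hA hAH hvE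
  have h4 := card_S h.amb h.a h.we hA hAH hvE
  have h5 : Nat.card ↥(A ⊓ QQ H R) = Nat.card F := le_antisymm h1 (h2.trans h3)
  have h6 : Nat.card {s : Y // s ∈ A ∧ s • v + v ∈ WW V H R ⊔ fx V A} = Nat.card F :=
    le_antisymm (h3.trans h1) h2
  rw [h5, h6, ← pow_two] at h4
  have hcard : ∀ B ∈ U, Nat.card B = Nat.card F ^ 2 := by
    intro B hB
    obtain ⟨y, rfl⟩ := h.amb.cls.eq A hA B hB
    rw [conj_card, h4]
  -- `A ∩ Q = S_W`
  have hfix : ∀ y ∈ WW V H' R, y ∈ Ee V A → y ∈ fx V (A ⊓ QQ H R) := by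
    intro y hy hyE b hb
    obtain ⟨x, hx, hbx⟩ := S_eq h.K h.amb h.a h.we hcard hA hAH hAQ hvE hb.1 hb.2
    exact h.g_fix' hA hAH hO hvE hx hb.1 hbx hy hyE
  obtain ⟨h7, h8, h9⟩ := h.d_noOver hA hW hfix
  have h10 : Nat.card ↥(WW V H' R ⊓ Ee V A) ≤ Nat.card ↥(fx V (A ⊓ QQ H R) ⊓ WW V H' R) :=
    Nat.card_le_card_of_injective _ (AddSubgroup.inclusion_injective h8)
  have h11 : Nat.card ↥(WW V H' R) ≤ (Ee V A).index * Nat.card ↥(WW V H' R ⊓ Ee V A) := by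
    have h12 := h.card_W'_le A
    have h13 : Nat.card ↥(WW V H' R ⊔ Ee V A) ≤ Nat.card ↥(Ee V A) * (Ee V A).index := by
      rw [AddSubgroup.card_mul_index]
      exact Nat.card_le_card_of_injective _ (Subtype.val_injective)
    have h14 : 0 < Nat.card ↥(Ee V A) := Nat.card_pos
    apply Nat.le_of_mul_le_mul_right _ h14
    rw [h12]
    calc _ ≤ Nat.card ↥(Ee V A) * (Ee V A).index * Nat.card ↥(WW V H' R ⊓ Ee V A) := Nat.mul_le_mul_right _ h13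
      _ = _ := by ring
  have h12 : Nat.card F ≤ (Ee V A).index := by
    have h13 : 0 < Nat.card ↥(WW V H' R ⊓ Ee V A) := Nat.card_pos
    rw [h5] at h9
    apply Nat.le_of_mul_le_mul_right _ h13
    exact ((Nat.mul_le_mul_left _ h10).trans h9).trans h11
  have h13 : (Ee V A).index ≤ Nat.card F := by
    have h14 := B0.pf_le hm h.two (Mem.ne_bot hm)
    rw [hcard A hA] at h14
    exact (Nat.pow_le_pow_iff_left two_ne_zero).1 h14
  intro B hB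
  refine ⟨hcard B hB, ?_⟩
  rw [← le_antisymm h13 h12]
  have h15 := AddSubgroup.card_mul_index (Ee V A)
  have h16 := AddSubgroup.card_mul_index (Ee V B)
  have h17 : Nat.card ↥(Ee V B) = Nat.card ↥(Ee V A) := by
    obtain ⟨y, rfl⟩ := h.amb.cls.eq A hA B hB
    rw [Ee_conj, card_smul_as]
  rw [h17, ← h15] at h16
  exact Nat.eq_of_mul_eq_mul_left Nat.card_pos h16

section outputs

variable (hc : ∀ B ∈ U, Nat.card B = Nat.card F ^ 2 ∧ (Ee V B).index = Nat.card F)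
include hc

/-- `W' ∩ E_A ≤ C(A ∩ Q)` -/
theorem d_fix {A : Subgroup Y} (hA : A ∈ U) (hAH : A ≤ H) (hAM : ¬ A ≤ M) {I : Set (Fin k)}
    (hO : Opp V H R co A I) {y : V} (hy : y ∈ WW V H' R) (hyE : y ∈ Ee V A) : y ∈ fx V (A ⊓ QQ H R) := by
  obtain ⟨w, hw⟩ := (h.amb.cls.mem A hA).ne
  intro b hb
  obtain ⟨x, hx, hbx⟩ := S_eq h.K h.amb h.a h.we (fun B hB => (hc B hB).1) hA hAH (h.opp_not_Q hAM) hw hb.1 hb.2
  exact h.g_fix' hA hAH hO hw hx hb.1 hbx hy hyE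

/-- **`W' ≰ E_A`** for every opposite member -/
theorem d_not_le {A : Subgroup Y} (hA : A ∈ U) (hAH : A ≤ H) (hAM : ¬ A ≤ M) {I : Set (Fin k)}
    (hO : Opp V H R co A I) : ¬ WW V H' R ≤ Ee V A := by
  intro hW
  obtain ⟨b, hb, hbQ'⟩ := h.star hA hAH hAM
  apply hbQ'
  rw [Amal.mem_QQ_iff h.a' h.amb (QQ_le hb.2)]
  intro y hy
  exact h.d_fix hc hA hAH hAM hO hy (hW hy) b hb

/-- **`V = W' + E_A`** -/
theorem d_top {A : Subgroup Y} (hA : A ∈ U) (hAH : A ≤ H) (hAM : ¬ A ≤ M) {I : Set (Fin k)}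
    (hO : Opp V H R co A I) : WW V H' R ⊔ Ee V A = ⊤ ∧
      Nat.card ↥(WW V H' R) ≤ Nat.card ↥(A ⊓ QQ H R) * Nat.card ↥(fx V (A ⊓ QQ H R) ⊓ WW V H' R) := by
  have hW := h.d_not_le hc hA hAH hAM hO
  have hAQ := h.opp_not_Q hAM
  have h5 := card_Q h.K h.amb h.a h.we (fun B hB => (hc B hB).1) hA hAH hAQ
  obtain ⟨h7, h8, h9⟩ := h.d_noOver hA hW fun y hy hyE => h.d_fix hc hA hAH hAM hO hy hyE
  have h10 : Nat.card ↥(WW V H' R ⊓ Ee V A) ≤ Nat.card ↥(fx V (A ⊓ QQ H R) ⊓ WW V H' R) :=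
    Nat.card_le_card_of_injective _ (AddSubgroup.inclusion_injective h8)
  have h12 := h.card_W'_le A
  have h14 : 0 < Nat.card ↥(Ee V A) := Nat.card_pos
  have h15 : 0 < Nat.card ↥(WW V H' R ⊓ Ee V A) := Nat.card_pos
  have h16 := AddSubgroup.card_mul_index (Ee V A)
  rw [(hc A hA).2] at h16
  rw [h5] at h9 ⊢
  -- `|W' + E| ≥ |E| |F|`
  have h17 : Nat.card V ≤ Nat.card ↥(WW V H' R ⊔ Ee V A) := by
    apply Nat.le_of_mul_le_mul_right _ h15
    rw [← h12, ← h16]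
    calc Nat.card ↥(Ee V A) * Nat.card F * Nat.card ↥(WW V H' R ⊓ Ee V A)
        = Nat.card F * Nat.card ↥(WW V H' R ⊓ Ee V A) * Nat.card ↥(Ee V A) := by ring
      _ ≤ _ := Nat.mul_le_mul_right _ ((Nat.mul_le_mul_left _ h10).trans h9)
  have h18 : WW V H' R ⊔ Ee V A = ⊤ := by
    apply eq_of_le_as le_top
    rw [AddSubgroup.card_top]
    exact h17
  refine ⟨h18, ?_⟩
  have h19 : Nat.card ↥(WW V H' R) = Nat.card F * Nat.card ↥(WW V H' R ⊓ Ee V A) := by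
    rw [h18, AddSubgroup.card_top, ← h16] at h12
    apply Nat.eq_of_mul_eq_mul_right h14
    rw [h12]
    ring
  rw [h19]
  exact Nat.mul_le_mul_left _ h10

/-- **`A ∩ Q` acts on `W'` as one root group** -/
theorem d_supp' {A : Subgroup Y} (hA : A ∈ U) (hAH : A ≤ H) (hAM : ¬ A ≤ M) {I : Set (Fin k)}
    (hO : Opp V H R co A I) : ∃ j, Supp V H' R co' (A ⊓ QQ H R) {j} := by
  have hm := h.amb.cls.mem A hA
  have hW := h.d_not_le hc hA hAH hAM hO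
  have hAQ := h.opp_not_Q hAM
  have h5 := card_Q h.K h.amb h.a h.we (fun B hB => (hc B hB).1) hA hAH hAQ
  obtain ⟨h7, h8, h9⟩ := h.d_noOver hA hW fun y hy hyE => h.d_fix hc hA hAH hAM hO hy hyE
  have hQR : A ⊓ QQ H R ≤ R := inf_le_right.trans QQ_le
  have hf : 1 < Nat.card F := Finite.one_lt_card
  obtain ⟨J, ⟨j, hj⟩, hJ⟩ := h.K'.exists_supp_of h.two h.a'.RH hQR ((Mem.elAb hm).mono inf_le_left) (by
    intro h1
    have h2 : A ⊓ QQ H R ≤ A ⊓ QQ H R ⊓ QQ H' R := le_inf le_rfl h1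
    rw [h7, le_bot_iff] at h2
    rw [h2, card_bot] at h5
    omega) (by
    rw [h7, card_bot, one_mul]
    exact (h.d_top hc hA hAH hAM hO).2)
  have h10 := hJ.card h.K' h.two h.a'.RH (Q_fix h.amb h.a') hQR
  rw [h7, card_bot, one_mul, h5, Nat.card_fun] at h10
  have h11 : Nat.card J = 1 := by
    have h12 : Nat.card F ^ Nat.card J = Nat.card F ^ 1 := by rw [← h10, pow_one]
    exact Nat.pow_right_injective hf h12
  have h12 : J = {j} := by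
    rw [Nat.card_eq_one_iff_unique] at h11
    obtain ⟨hsub, _⟩ := h11
    ext l
    constructor
    · intro hl
      exact congrArg Subtype.val (Subsingleton.elim (⟨l, hl⟩ : J) ⟨j, hj⟩)
    · rintro rfl
      exact hj
  rw [h12] at hJ
  exact ⟨j, hJ⟩

/-- all outputs of (d) for `A = B^g`, `B ≤ R` active, `g` opposite -/
theorem d_out {B : Subgroup Y} (hB : B ∈ U) (hBR : B ≤ R) (hBQ : ¬ B ≤ QQ H R) {g : Y} (hg : g ∈ H)
    (hgA : Acts V H R co g fun _ => wm 1 one_ne_zero) :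
    R ⊔ MulAut.conj g • B = H ∧ ∃ i j, Supp V H R co B {i} ∧ Opp V H R co (MulAut.conj g • B) {i} ∧
      Supp V H' R co' (MulAut.conj g • B ⊓ QQ H R) {j} ∧
      Nat.card ↥(MulAut.conj g • B) = Nat.card F ^ 2 ∧
      Nat.card ↥(MulAut.conj g • B ⊓ QQ H R) = Nat.card F ∧
      WW V H' R ⊔ Ee V (MulAut.conj g • B) = ⊤ ∧
      (∀ v ∈ WW V H' R, v ∈ Ee V (MulAut.conj g • B) → v ∈ fx V (MulAut.conj g • B ⊓ QQ H R)) ∧
      ∀ s ∈ MulAut.conj g • B ⊓ QQ H R, ∀ w, w ∉ Ee V (MulAut.conj g • B) →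
        ∃ x ∈ WW V H R, s • w + w + x ∈ fx V (MulAut.conj g • B) := by
  have hc1 : ∀ B ∈ U, Nat.card B = Nat.card F ^ 2 := fun B hB => (hc B hB).1
  obtain ⟨i, hS, _⟩ := supp_one h.K h.amb h.a h.we hc1 hB hBR hBQ
  have hBH := hBR.trans h.a.RH
  have hO := hS.opp hg hgA hBH
  have hA := h.amb.cls.conj B hB g
  have hAH : MulAut.conj g • B ≤ H := by
    intro x hx
    rw [mem_conj] at hx
    have h1 := H.mul_mem (H.mul_mem hg (hBH hx)) (H.inv_mem hg)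
    have e : g * (g⁻¹ * x * g) * g⁻¹ = x := by group
    rwa [e] at h1
  have hAM := hO.not_le h.K h.amb h.a hAH (Set.singleton_nonempty i)
  have hAQ := h.opp_not_Q hAM
  obtain ⟨j, hj⟩ := h.d_supp' hc hA hAH hAM hO
  exact ⟨hO.gen h.K h.amb h.a hAH (Set.singleton_nonempty i), i, j, hS, hO, hj, hc1 _ hA,
    card_Q h.K h.amb h.a h.we hc1 hA hAH hAQ, (h.d_top hc hA hAH hAM hO).1,
    fun v hv hvE => h.d_fix hc hA hAH hAM hO hv hvE,
    fun s hs w hw => S_eq h.K h.amb h.a h.we hc1 hA hAH hAQ hw hs.1 hs.2⟩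

end outputs

end TwoN

end Cfsg.Agent.Omega.NO1.TH.K
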