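import Cfsg.Agent.Omega.NO1.TH.K.L2Main
import Cfsg.Agent.Lib.Cores

/-!
# N1-ONE, natural type, `k ≥ 2`: case (d) is impossible (bb OMEGA 20937, helper476), the end

* `exists_of_comm` (2) : `[W, B] ⊆ [W', B]`;  `II_le` : `[W', J] ≤ W`;
* `inf_eq_bot` (4) : `B ∩ Q ∩ Q' = 1`;
* `kill_soc` (5) : SOC for `X = ⟨B, B^h, B^h'⟩`;
* `lTwo` : (L2) of bb OMEGA 20646.
-/

set_option autoImplicit false
set_option linter.unusedSectionVars false
set_option linter.dupNamespace false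

namespace Cfsg.Agent.Omega.NO1.TH.K.L2K

open Subgroup Cfsg.Agent.Omega.NO1.TH.K Cfsg.Agent.Omega.NO1.AB Cfsg.Agent.Omega.FFBr Cfsg.Agent.Lib.SL2Mat
open Cfsg.Agent.Omega.NatPair (ap)
open scoped Pointwise

universe u

variable {Y : Type u} [Group Y] {V : Type u} [AddCommGroup V] [DistribMulAction Y V]

section one

variable {U : Set (Subgroup Y)} {T : Sylow 2 Y} {M H H' R : Subgroup Y} {t : Y} {F : Type} [Field F]
  {k : ℕ} {co co' : V → Fin k → Fin 2 → F} [Finite Y] [Finite V] [Finite F]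

/-- `|B₁| |B₂| = |B|`, `B₁ ∩ B₂ = 1`: `B = B₁ B₂` -/
theorem exists_mul_of_inf {B B₁ B₂ : Subgroup Y} (h1 : B₁ ≤ B) (h2 : B₂ ≤ B)
    (hi : ∀ b ∈ B₁, b ∈ B₂ → b = 1) (hc : Nat.card B ≤ Nat.card B₁ * Nat.card B₂) {u : Y} (hu : u ∈ B) :
    ∃ b ∈ B₁, ∃ c ∈ B₂, u = b * c := by
  let f : B₁ × B₂ → B := fun p => ⟨p.1 * p.2, B.mul_mem (h1 p.1.2) (h2 p.2.2)⟩
  have hinj : Function.Injective f := by
    rintro ⟨⟨b, hb⟩, ⟨c, hc⟩⟩ ⟨⟨b', hb'⟩, ⟨c', hc'⟩⟩ h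
    have h3 : b * c = b' * c' := congrArg Subtype.val h
    have h4 : b'⁻¹ * b = c' * c⁻¹ := by
      rw [inv_mul_eq_iff_eq_mul, ← mul_assoc, ← h3, mul_assoc, mul_inv_cancel, mul_one]
    have h5 : b'⁻¹ * b = 1 := hi _ (B₁.mul_mem (B₁.inv_mem hb') hb) (by
      rw [h4]; exact B₂.mul_mem hc' (B₂.inv_mem hc))
    have h6 : b = b' := (inv_mul_eq_one.1 h5).symm
    subst h6
    have h7 : c = c' := mul_left_cancel h3
    subst h7
    rfl
  have hb := hinj.bijective_of_nat_card_le (by rw [Nat.card_prod]; exact hc)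
  obtain ⟨⟨b, c⟩, hbc⟩ := hb.2 ⟨u, hu⟩
  exact ⟨b, b.2, c, c.2, (congrArg Subtype.val hbc).symm⟩

/-- **(2)** `[W, B] ⊆ [W', B]` -/
theorem exists_of_comm (h : TwoN V U T M H H' R F k co co' t)
    {B : Subgroup Y} (hB : B ∈ U) (hBR : B ≤ R) {i i' : Fin k}
    (m : MB V U H H' R co B i) (m' : MB V U H' H R co' B i') {x : V} (hx : x ∈ WW V H R) {u : Y} (hu : u ∈ B) :
    ∃ y ∈ WW V H' R, ∃ s ∈ B, u • x + x = s • y + y := by
  have two := h.amb.two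
  have hm := h.amb.cls.mem B hB
  by_cases hbb : ∃ b ∈ B ⊓ QQ H R, b ∈ QQ H' R ∧ b ≠ 1
  · obtain ⟨b, hb, hb', hb1⟩ := hbb
    have h1 := m'.cent h.swap hB hBR ⟨hb.1, hb'⟩ hb1 (Amal.QQ_fix h.a h.amb hb.2 hx)
    rw [AddSubgroup.mem_sup] at h1
    obtain ⟨y, hy, f, hf, rfl⟩ := h1
    refine ⟨y, hy, u, hu, ?_⟩
    rw [smul_add, hf u hu]
    have e : u • y + f + (y + f) = u • y + y + (f + f) := by abel
    rw [e, two, add_zero]
  · push Not at hbb
    obtain ⟨b, hb, c, hc, rfl⟩ := exists_mul_of_inf (B₁ := B ⊓ QQ H R) (B₂ := B ⊓ QQ H' R) inf_le_left inf_le_left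
      (fun b hb hb' => hbb b hb hb'.2) (by rw [m.card, m.cardB, m'.cardB, pow_two]) hu
    obtain ⟨w, hw⟩ := hm.ne
    obtain ⟨s, hs, hsx⟩ := hm.surj w hw x (h.we B hB hBR hx)
    obtain ⟨y, hy, hcy⟩ := m'.shift c hc w hw
    refine ⟨y, hy, s, hs, ?_⟩
    rw [mul_smul, Amal.QQ_fix h.a h.amb hb.2 (smul_mem_WW (h.a.RH (hBR hc.1)) hx)]
    exact mem_sym hm two hs hc.1 hsx hcy

/-- **(2)** `I' ≤ W` -/
theorem II_le (h : TwoN V U T M H H' R F k co co' t) {a : ℕ} (w : World V U T M a)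
    (hD : DD V U H H' R co co') (hD' : DD V U H' H R co' co) : II V U H' R ≤ WW V H R := by
  refine (AddSubgroup.closure_le _).2 ?_
  rintro _ ⟨B, hB, hBR, b, hb, y, hy, rfl⟩
  by_cases hQ' : B ≤ QQ H' R
  · rw [Amal.QQ_fix h.a' h.amb (hQ' hb) hy, h.amb.two]
    exact zero_mem _
  · have hQ : ¬ B ≤ QQ H R := not_le_Q' h.swap w hD' hD hB hBR hQ'
    obtain ⟨i, m⟩ := mb h hD hD' hB hBR hQ
    obtain ⟨i', m'⟩ := mb h.swap hD' hD hB hBR hQ'
    obtain ⟨x, hx, s, hs, h1⟩ := exists_of_comm h.swap hB hBR m' m hy hb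
    rw [h1]
    exact add_mem (smul_mem_WW (h.a.RH (hBR hs)) hx) hx

theorem comm_mem_W (h : TwoN V U T M H H' R F k co co' t) {a : ℕ} (w : World V U T M a)
    (hD : DD V U H H' R co co') (hD' : DD V U H' H R co' co) {B : Subgroup Y} {i : Fin k}
    (m : MB V U H H' R co B i) {b : Y} (hb : b ∈ B ⊓ QQ H R) (v : V) : b • v + v ∈ WW V H R := by
  have h1 := m.cmem b hb v
  rwa [sup_eq_left.2 (II_le h w hD hD')] at h1

/-- **(4)** `B ∩ Q ∩ Q' = 1` -/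
theorem inf_eq_bot (h : TwoN V U T M H H' R F k co co' t) {a : ℕ} (w : World V U T M a)
    (hD : DD V U H H' R co co') (hD' : DD V U H' H R co' co) {B : Subgroup Y} (hB : B ∈ U) (hBR : B ≤ R)
    {i i' : Fin k} (m : MB V U H H' R co B i) (m' : MB V U H' H R co' B i') {b : Y} (hb : b ∈ B)
    (hbQ : b ∈ QQ H R) (hbQ' : b ∈ QQ H' R) : b = 1 := by
  have hm := h.amb.cls.mem B hB
  obtain ⟨v, hv⟩ := hm.ne
  have h1 := comm_mem_W h w hD hD' m ⟨hb, hbQ⟩ v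
  have h2 := comm_mem_W h.swap w hD' hD m' ⟨hb, hbQ'⟩ v
  obtain ⟨x, hx, -, hfix, -⟩ := exists_elt h hD hD' i
  apply hm.inj v hv b hb
  rw [member_fx_iff h.K h.amb h.a h.we hB hBR m.supp h1]
  intro l hl
  rw [Set.mem_singleton_iff] at hl
  rw [hl]
  exact (hfix _ h1).1 (Amal.QQ_fix h.a' h.amb hx h2)

theorem acts_pow {g : Y} (hg : g ∈ H) {A : Fin k → Matrix.SpecialLinearGroup (Fin 2) F}
    (hA : Acts V H R co g A) (n : ℕ) : Acts V H R co (g ^ n) (A ^ n) := by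
  induction n with
  | zero => rw [pow_zero, pow_zero]; exact Acts.one
  | succ n ih => rw [pow_succ, pow_succ]; exact ih.mul hg hA

theorem up_lo_ne {b : F} (hb : b ≠ 0) (hF : ∀ x : F, x + x = 0) {n : ℕ} (h : (up b * lo b⁻¹) ^ 2 ^ n = 1) : False := by
  have h2 : (1 : F) + 1 = 0 := hF 1
  have hbb : b * b⁻¹ = 1 := mul_inv_cancel₀ hb
  have hbb' : b⁻¹ * b = 1 := inv_mul_cancel₀ hb
  have e00 : ent (up b * lo b⁻¹) 0 0 = 0 := by
    rw [ent_mul, up_00, up_01, lo_00, lo_10, hbb, mul_one, h2]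
  have e01 : ent (up b * lo b⁻¹) 0 1 = b := by
    rw [ent_mul, up_00, up_01, lo_01, lo_11, mul_zero, zero_add, mul_one]
  have e10 : ent (up b * lo b⁻¹) 1 0 = b⁻¹ := by
    rw [ent_mul, up_10, up_11, lo_00, lo_10, zero_mul, zero_add, one_mul]
  have e11 : ent (up b * lo b⁻¹) 1 1 = 1 := by
    rw [ent_mul, up_10, up_11, lo_01, lo_11, zero_mul, zero_add, one_mul]
  have h3 : (up b * lo b⁻¹) ^ 3 = 1 := by
    set A := up b * lo b⁻¹ with hA
    apply ext_ent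
    · rw [pow_succ, pow_two, ent_mul, ent_mul A A 0 0, ent_mul A A 0 1, e00, e01, e10, e11, ent_one_00]
      linear_combination hbb
    · rw [pow_succ, pow_two, ent_mul, ent_mul A A 0 0, ent_mul A A 0 1, e00, e01, e10, e11, ent_one_01]
      linear_combination b * hbb + b * h2
    · rw [pow_succ, pow_two, ent_mul, ent_mul A A 1 0, ent_mul A A 1 1, e00, e01, e10, e11, ent_one_10]
      linear_combination b⁻¹ * hbb' + b⁻¹ * h2
    · rw [pow_succ, pow_two, ent_mul, ent_mul A A 1 0, ent_mul A A 1 1, e00, e01, e10, e11, ent_one_11]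
      linear_combination 2 * hbb' + h2
  have h4 := pow_gcd_eq_one.2 ⟨h, h3⟩
  have h5 : Nat.gcd (2 ^ n) 3 = 1 := (Nat.Coprime.pow_left n (by decide : Nat.Coprime 2 3))
  rw [h5, pow_one] at h4
  rw [h4, ent_one_00] at e00
  exact one_ne_zero e00

/-- an element of `B ∩ O₂(X)`, `B, B^g ≤ X`, is in `Q` -/
theorem mem_Q_of_o2 (h : TwoN V U T M H H' R F k co co' t) {B X : Subgroup Y} (hB : B ∈ U) (hBR : B ≤ R)
    {i : Fin k} (hS : Supp V H R co B {i}) {g : Y} (hg : g ∈ H) (hgA : Acts V H R co g fun _ => wm 1 one_ne_zero)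
    (hX' : MulAut.conj g • B ≤ X) {u : Y} (hu : u ∈ B) (huX : u ∈ ZN.o2 X) : u ∈ QQ H R := by
  have two := h.amb.two
  have hm := h.amb.cls.mem B hB
  obtain ⟨β, hβ0, hβ⟩ := hS.act u hu
  have hBH : B ≤ H := hBR.trans h.a.RH
  apply h.K.mem_Q_of_up_zero two h.a.RH (hBR hu) hβ
  intro l
  by_cases hl : l = i
  swap
  · exact hβ0 l (by simpa using hl)
  subst hl
  by_contra hne
  classical
  obtain ⟨v, hv, hvA⟩ := (hS.opp hg hgA hBH).full (Pi.single l (β l)⁻¹) fun m hm =>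
    Pi.single_eq_of_ne (by simpa using hm) _
  have hvH : v ∈ H := by
    rw [mem_conj] at hv
    have h1 := H.mul_mem (H.mul_mem hg (hBH hv)) (H.inv_mem hg)
    have e : g * (g⁻¹ * v * g) * g⁻¹ = v := by group
    rwa [e] at h1
  have huH := hBH hu
  have hvv : v * v = 1 := (h.amb.cls.mem _ (h.amb.cls.conj B hB g)).sq v hv
  have huu := hm.sq u hu
  -- `(u v)² ∈ O₂(X)`
  have h1 : (u * v) ^ 2 ∈ ZN.o2 X := by
    have h2 : v * u * v⁻¹ ∈ ZN.o2 X := by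
      obtain ⟨z, hz, rfl⟩ := huX
      refine ⟨⟨v, hX' hv⟩ * z * ⟨v, hX' hv⟩⁻¹, ?_, rfl⟩
      exact (Cfsg.Agent.Lib.Cores.pCore_normal (G := X) 2).conj_mem z hz _
    have h3 := (ZN.o2 X).mul_mem huX h2
    have e : u * (v * u * v⁻¹) = (u * v) ^ 2 := by
      rw [inv_eq_of_mul_eq_one_left hvv, pow_two]
      group
    rwa [e] at h3
  have h2 : ∃ n : ℕ, (u * v) ^ 2 ^ n = 1 := by
    obtain ⟨z, hz, hzz⟩ := h1
    obtain ⟨n, hn⟩ := (Cfsg.Agent.Lib.Cores.pCore_isPGroup (G := X) 2) ⟨z, hz⟩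
    refine ⟨n + 1, ?_⟩
    have h2 : z ^ 2 ^ n = 1 := congrArg Subtype.val hn
    have h3 : ((u * v) ^ 2) ^ 2 ^ n = 1 := by
      rw [← hzz, ← map_pow, h2, map_one]
    rw [← pow_mul] at h3
    rwa [pow_succ, mul_comm]
  obtain ⟨n, hn⟩ := h2
  have h3 := acts_pow (H.mul_mem huH hvH) (hβ.mul hvH hvA) (2 ^ n)
  rw [hn] at h3
  apply up_lo_ne hne (h.K.ff two l) (n := n)
  apply NatPair.ap_inj
  intro x
  obtain ⟨y, hy, hyx, -⟩ := h.K.exists_at l x
  have h4 := h3.1 y hy l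
  rw [one_smul, hyx] at h4
  rw [NatPair.ap_one]
  refine Eq.trans ?_ h4.symm
  rw [Pi.pow_apply, Pi.mul_apply, Pi.single_eq_same]

/-- a member `B^g` (`g` acts as `w` on all blocks) fixes the vectors without `i`-component -/
theorem opp_fix (h : TwoN V U T M H H' R F k co co' t) {B : Subgroup Y} (hB : B ∈ U) (hBR : B ≤ R)
    {i : Fin k} (hS : Supp V H R co B {i}) {g : Y} (hg : g ∈ H) (hgA : Acts V H R co g fun _ => wm 1 one_ne_zero)
    {d : V} (hd : d ∈ WW V H R) (h0 : co d i = 0) : d ∈ fx V (MulAut.conj g • B) := by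
  rw [fx_conj, mem_smul_as, member_fx_iff h.K h.amb h.a h.we hB hBR hS (smul_mem_WW (H.inv_mem hg) hd)]
  intro l hl
  rw [Set.mem_singleton_iff] at hl
  subst hl
  have h1 := (hgA.inv hg).1 d hd l
  rw [h1, h0]
  rw [NatPair.ap_one']
  simp

/-- **(5)** SOC for `X = ⟨B, B^g, B^g'⟩` -/
theorem kill_soc (h : TwoN V U T M H H' R F k co co' t) {a : ℕ} (w : World V U T M a) {B : Subgroup Y} (hB : B ∈ U)
    (hBR : B ≤ R) {i i' : Fin k} (hS : Supp V H R co B {i}) (hS' : Supp V H' R co' B {i'})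
    (hbot : ∀ b ∈ B, b ∈ QQ H R → b ∈ QQ H' R → b = 1) {d : V} (hd0 : d ≠ 0) (hd : d ∈ WW V H R)
    (hd' : d ∈ WW V H' R) (hdi : co d i = 0) (hdi' : co' d i' = 0) : False := by
  obtain ⟨g, hg, hgA⟩ := h.K.lift fun _ => wm 1 one_ne_zero
  obtain ⟨g', hg', hgA'⟩ := h.K'.lift fun _ => wm 1 one_ne_zero
  have hX1 : B ≤ B ⊔ MulAut.conj g • B ⊔ MulAut.conj g' • B := le_sup_left.trans le_sup_left
  have hX2 : MulAut.conj g • B ≤ B ⊔ MulAut.conj g • B ⊔ MulAut.conj g' • B := le_sup_right.trans le_sup_left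
  have hX3 : MulAut.conj g' • B ≤ B ⊔ MulAut.conj g • B ⊔ MulAut.conj g' • B := le_sup_right
  have hdB : d ∈ fx V B := (member_fx_iff h.K h.amb h.a h.we hB hBR hS hd).2 fun l hl => by
    rw [Set.mem_singleton_iff] at hl
    rw [hl, hdi]; rfl
  have h1 := opp_fix h hB hBR hS hg hgA hd hdi
  have h2 := opp_fix h.swap hB hBR hS' hg' hgA' hd' hdi'
  have hst : B ⊔ MulAut.conj g • B ⊔ MulAut.conj g' • B ≤ MulAction.stabilizer Y d :=
    sup_le (sup_le (fun x hx => hdB x hx) fun x hx => h1 x hx) fun x hx => h2 x hx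
  apply w.soc B hB _ hX1 ⟨d, hd0, fun x hx => hst hx⟩
  rw [eq_bot_iff]
  rintro u ⟨hu, huX⟩
  rw [mem_bot]
  exact hbot u hu (mem_Q_of_o2 h hB hBR hS hg hgA hX2 hu huX)
    (mem_Q_of_o2 h.swap hB hBR hS' hg' hgA' hX3 hu huX)

/-- **(L2) of bb OMEGA 20646**: case (d) on both sides is impossible for `k ≥ 2` -/
theorem lTwo' (h : TwoN V U T M H H' R F k co co' t) {a : ℕ} (w : World V U T M a) (hk : 2 ≤ k)
    (hD : DD V U H H' R co co') (hD' : DD V U H' H R co' co) : False := by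
  have two := h.amb.two
  obtain ⟨B, hB, hBR, hBQ⟩ := Amal.exists_not_QQ h.a h.amb
  have hBQ' := not_le_Q' h w hD hD' hB hBR hBQ
  obtain ⟨i, m⟩ := mb h hD hD' hB hBR hBQ
  obtain ⟨i', m'⟩ := mb h.swap hD' hD hB hBR hBQ'
  have : Nontrivial (Fin k) := Fin.nontrivial_iff_two_le.2 hk
  obtain ⟨l, hl⟩ := exists_ne i
  obtain ⟨C, hC, hCR, hCQ, hSC⟩ := exists_single_member h.K h.amb h.a h.we hD l
  have hCQ' := not_le_Q' h w hD hD' hC hCR hCQ
  obtain ⟨l₁, n⟩ := mb h hD hD' hC hCR hCQ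
  obtain ⟨l', n'⟩ := mb h.swap hD' hD hC hCR hCQ'
  classical
  obtain ⟨u, hu, huA⟩ := hSC.full (Pi.single l 1) fun j hj => Pi.single_eq_of_ne (by simpa using hj) _
  obtain ⟨x, hx, hxl, hx0⟩ := h.K.exists_at l ![0, 1]
  have huH := h.a.RH (hCR hu)
  have hdW : u • x + x ∈ WW V H R := add_mem (smul_mem_WW huH hx) hx
  have hd1 : co (u • x + x) l 0 = 1 := by
    rw [h.K.add_apply (smul_mem_WW huH hx) hx, huA.up_fst hx, hxl, Pi.single_eq_same]
    simp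
  have hdj : ∀ {B : Subgroup Y} {i : Fin k} {u : Y} {x : V}, B ≤ R → Supp V H R co B {i} → u ∈ B → x ∈ WW V H R →
      ∀ j, j ≠ i → co (u • x + x) j = 0 := by
    intro B i u x hBR hS hu hx j hj
    obtain ⟨β, hβ0, hβ⟩ := hS.act u hu
    have huH := h.a.RH (hBR hu)
    have h1 := hβ.1 x hx j
    simp only [hβ0 j (by simpa using hj), up_zero, NatPair.ap_one] at h1
    rw [h.K.add _ (smul_mem_WW huH hx) _ hx, Pi.add_apply, h1]
    funext e
    exact h.K.ff two j _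
  have hdj' : ∀ {B : Subgroup Y} {i : Fin k} {u : Y} {x : V}, B ≤ R → Supp V H' R co' B {i} → u ∈ B → x ∈ WW V H' R →
      ∀ j, j ≠ i → co' (u • x + x) j = 0 := by
    intro B i u x hBR hS hu hx j hj
    obtain ⟨β, hβ0, hβ⟩ := hS.act u hu
    have huH := h.a'.RH (hBR hu)
    have h1 := hβ.1 x hx j
    simp only [hβ0 j (by simpa using hj), up_zero, NatPair.ap_one] at h1
    rw [h.K'.add _ (smul_mem_WW huH hx) _ hx, Pi.add_apply, h1]
    funext e
    exact h.K'.ff two j _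
  obtain ⟨y, hy, s, hs, hsy⟩ := exists_of_comm h hC hCR n n' hx hu
  have hne : l' ≠ i' := by
    rintro rfl
    obtain ⟨β, hβ0, hβ⟩ := n'.supp.act s hs
    obtain ⟨s', hs', hβ'⟩ := m'.supp.full β hβ0
    have h1 : s • y = s' • y := eq_of_up h.K' two (h.a'.RH (hCR hs)) (h.a'.RH (hBR hs'))
      ((h.amb.cls.mem B hB).sq s' hs') hβ hβ' hy
    obtain ⟨z, hz, r, hr, hrz⟩ := exists_of_comm h.swap hB hBR m' m hy hs'
    have h2 := hdj hBR m.supp hr hz l hl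
    rw [← hrz, ← h1, ← hsy] at h2
    rw [h2] at hd1
    exact zero_ne_one hd1
  refine kill_soc h w hB hBR m.supp m'.supp (fun b hb h1 h2 => inf_eq_bot h w hD hD' hB hBR m m' hb h1 h2)
    (d := u • x + x) ?_ hdW ?_ (hdj hCR hSC hu hx i hl.symm) ?_
  · intro h0
    rw [h0, h.K.zero] at hd1
    exact zero_ne_one hd1
  · rw [hsy]
    exact add_mem (smul_mem_WW (h.a'.RH (hCR hs)) hy) hy
  · rw [hsy]
    exact hdj' hCR n'.supp hs hy i' hne.symm

end one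

end Cfsg.Agent.Omega.NO1.TH.K.L2K

namespace Cfsg.Agent.Omega.NO1.TH.K

universe v

/-- **(L2) of bb OMEGA 20646**: case (d) on both sides is impossible for `k ≥ 2` -/
theorem lTwo {Y V : Type v} [Group Y] [AddCommGroup V] [DistribMulAction Y V] [Finite Y] [Finite V]
    {U : Set (Subgroup Y)} {T : Sylow 2 Y} {M H H' R : Subgroup Y} {t : Y} {F : Type} [Field F] [Finite F] {k : ℕ}
    {co co' : V → Fin k → Fin 2 → F} (h : TwoN V U T M H H' R F k co co' t) {a : ℕ} (w : World V U T M a)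
    (hk : 2 ≤ k) (hD : DD V U H H' R co co') (hD' : DD V U H' H R co' co) : False :=
  L2K.lTwo' h w hk hD hD'

end Cfsg.Agent.Omega.NO1.TH.K
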