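import Cfsg.Agent.Omega.NO1.TH.K.SPrs

/-!
# N1, BETA, `S_n` type: the fields `faith`, `mov` of `LIn`

`TwoS.faith_of` : `A ≤ H` a member, `u ∈ A`, `[W, u] ≤ D₀` ⟹ `u ∈ Q`;
`TwoS.exists_mov` : `A` opposite: for some pair `{a, b}` of `R` in block `i` no vector `x ∈ W` with coordinates `{a, b}`
is fixed by `A`.
-/

set_option autoImplicit false
set_option linter.unusedSectionVars false
set_option linter.dupNamespace false

namespace Cfsg.Agent.Omega.NO1.TH.K

open Subgroup Cfsg.Agent.Omega.NO1.AB SI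
open scoped Pointwise

universe u

variable {Y : Type u} [Group Y] {V : Type u} [AddCommGroup V] [DistribMulAction Y V]

variable [Finite Y] [Finite V] {U : Set (Subgroup Y)} {T : Sylow 2 Y} {M H H' R : Subgroup Y} {t : Y} {k m : ℕ}

namespace TwoS

variable {co co' : V → Fin k → Fin (2 ^ m + 1) → ZMod 2} (h : TwoS V U T M H H' R k m co co' t)
include h

theorem faith_of {A : Subgroup Y} (hA : A ∈ U) (hAH : A ≤ H) {u : Y} (hu : u ∈ A)
    (h1 : ∀ w ∈ WW V H R, u • w + w ∈ D0 V U H R) : u ∈ QQ H R := by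
  have h2 : u ∈ A ⊓ CW V H R := by
    refine ⟨hu, h.K.trivH u (hAH hu) fun w hw => ?_⟩
    exact h.K.co_eq_of_add h.amb.two (smul_mem_WW (hAH hu) hw) hw ((SI.mem_D0 h.amb h.a h.we h.K).1 (h1 w hw)).2
  rw [Amal.inf_CW' h.a h.amb hA hAH] at h2
  exact h2.2

/-- a member `A ≤ H`, `A ≰ M`, contains a transposition -/
theorem exists_tp_H {A : Subgroup Y} (hA : A ∈ U) (hAH : A ≤ H) (hAM : ¬ A ≤ M) :
    ∃ i x y, x ≠ y ∧ ∃ u ∈ A, ActS V H R co u 1 (tp i x y) := by
  obtain ⟨g, hg, hgU, hgR⟩ := h.a.exists_conj h.amb hA hAH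
  obtain ⟨b, hb, hbQ⟩ : ∃ b ∈ MulAut.conj g • A, b ∉ QQ H R := by
    by_contra hcon
    push Not at hcon
    apply h.not_Q hAM
    intro x hx
    have h1 := conj_mem_QQ (H.inv_mem hg) (hcon _ (conj_mem_conj (g := g) hx))
    have e : g⁻¹ * (g * x * g⁻¹) * g⁻¹⁻¹ = x := by group
    rwa [e] at h1
  obtain ⟨τ, h1, h2⟩ := SI.off_member h.amb h.a h.we h.K hgU hgR hb
  obtain ⟨i, x, hx⟩ : ∃ i x, τ i x ≠ x := by
    by_contra hcon
    push Not at hcon
    apply hbQ
    apply h.K.triv b (hgR hb)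
    intro w hw
    apply h.K.co_add_self h.amb.two (smul_mem_WW (h.a.RH (hgR hb)) hw) hw
    funext i x
    have h3 := h1 w hw i x
    rwa [hcon] at h3
  obtain ⟨c, hc, hc2⟩ := h2 i x hx
  obtain ⟨σ, τ', hg2⟩ := h.K.perm g⁻¹ (H.inv_mem hg)
  have h3 := SI.actS_conj_tp (H.inv_mem hg) (h.a.RH (hgR hc)) hg2 hc2
  refine ⟨_, _, _, fun h4 => hx ((τ' i).injective h4).symm, g⁻¹ * c * g⁻¹⁻¹, ?_, h3⟩
  rw [mem_conj] at hc
  rwa [inv_inv]

/-- the field `mov` -/
theorem exists_mov {A : Subgroup Y} (hA : A ∈ U) (hAH : A ≤ H) (hO : OppS V M H R co A) :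
    ∃ i a b, PI V H R co i a b ∧ ∀ x ∈ WW V H R, co x = dl i a b → x ∉ fx V A := by
  have p := h.prs
  by_contra hcon
  push Not at hcon
  obtain ⟨i, c, d, hcd, u, hu, hua⟩ := h.exists_tp_H hA hAH hO.1
  -- `{c, d}` is a pair of `R`
  have key : ∀ c d : Fin (2 ^ m + 1), c ≠ d → c ≠ 0 → ActS V H R co u 1 (tp i c d) → PI V H R co i c d := by
    intro c d hcd hc0 hua
    obtain ⟨c', hc'⟩ := p.partner i c hc0
    obtain ⟨x, hx, hxc, hxA⟩ := hcon i c c' hc'
    have h1 := hua x hx i c
    rw [hxA u hu, tp_self, Equiv.swap_apply_left, Equiv.Perm.one_apply, hxc, dl_apply, dl_apply, if_pos rfl,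
      if_pos rfl, if_pos rfl, if_neg hcd.symm, if_neg hc'.1, zero_add, add_zero] at h1
    have h2 : d = c' := by
      by_contra h3
      rw [if_neg h3] at h1
      exact zero_ne_one h1
    rw [h2]
    exact hc'
  have hPI : PI V H R co i c d := by
    by_cases hc0 : c = 0
    · have hd0 : d ≠ 0 := fun h1 => hcd (hc0.trans h1.symm)
      exact (key d c hcd.symm hd0 (by rwa [tp_comm])).symm
    · exact key c d hcd hc0 hua
  -- `v ∈ [W, u]` with coordinates `{c, d}`
  obtain ⟨e, he⟩ := SI.exists_not h.K {c, d} (by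
    have := Finset.card_le_two (a := c) (b := d); omega)
  rw [Finset.mem_insert, Finset.mem_singleton, not_or] at he
  obtain ⟨w, hw, hwc⟩ := SI.exists_dl h.K i c e
  have hw1 : co w i c = 1 := by
    rw [hwc, dl_apply, if_pos rfl, if_pos rfl, if_neg (Ne.symm he.1), add_zero]
  have hw2 : co w i d = 0 := by
    rw [hwc, dl_apply, if_pos rfl, if_neg hcd.symm, if_neg (Ne.symm he.2), add_zero]
  have huW : u • w ∈ WW V H R := smul_mem_WW (hAH hu) hw
  -- coordinates of `u w + w`
  have huc : ∀ j z, co (u • w + w) j z = co w j (tp i c d j z) + co w j z := by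
    intro j z
    have h1 := hua w hw j (tp i c d j z)
    have h2 : tp i c d j (tp i c d j z) = z := by
      have h3 := congrFun (tp_mul_self i c d) j
      have h4 := congrArg (fun f : Equiv.Perm (Fin (2 ^ m + 1)) => f z) h3
      exact h4
    rw [h2] at h1
    rw [h.K.add _ huW w hw, Pi.add_apply, Pi.add_apply]
    rw [Equiv.Perm.one_apply] at h1
    rw [h1]
  have h0 := hO.2 (u • w + w) (AddSubgroup.subset_closure ⟨w, hw, u, hu, rfl⟩) (by
    intro j x y hxy
    rw [huc, huc]
    by_cases hj : j = i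
    · subst hj
      rw [tp_self]
      by_cases hxc : x = c
      · subst hxc
        have := p.uniq j x _ _ hxy hPI
        subst this
        rw [Equiv.swap_apply_left, Equiv.swap_apply_right, add_comm]
      · by_cases hxd : x = d
        · subst hxd
          have := p.uniq j x _ _ hxy hPI.symm
          subst this
          rw [Equiv.swap_apply_left, Equiv.swap_apply_right, add_comm]
        · have hyc : y ≠ c := by
            rintro rfl
            exact hxd (p.uniq j y _ _ hxy.symm hPI)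
          have hyd : y ≠ d := by
            rintro rfl
            exact hxc (p.uniq j y _ _ hxy.symm hPI.symm)
          rw [Equiv.swap_apply_of_ne_of_ne hxc hxd, Equiv.swap_apply_of_ne_of_ne hyc hyd, CharTwo.add_self_eq_zero,
            CharTwo.add_self_eq_zero]
    · rw [tp_of_ne hj, Equiv.Perm.one_apply, Equiv.Perm.one_apply, CharTwo.add_self_eq_zero,
        CharTwo.add_self_eq_zero])
  have h1 := huc i c
  rw [h0, tp_self, Equiv.swap_apply_left, hw2, hw1, zero_add] at h1
  exact zero_ne_one h1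

end TwoS

end Cfsg.Agent.Omega.NO1.TH.K
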