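import Cfsg.Agent.Omega.NO1.TH.Star
import Cfsg.Agent.Omega.NO1.TH.KOneDef

/-!
# N1, BETA, the amalgam `(H, H')`: (1) of bb OMEGA 20297 for any type (helper503; #20646 (e))

`W = WW V H R`, `W' = WW V H' R`, `Q = QQ H R`, `Q' = QQ H' R`, `A ≤ H` a member with `W' ≤ E_A`, `B₁ = A ∩ Q`,
`K = B₁ ∩ Q'`:
* `Amal.noOver` : no over-offender, for `B ≤ R` elementary abelian;
* `Amal.e_one` : `|K| |W'| = |B₁| |C_{W'}(B₁)|`, `C_E(K) = W + W' + F_A`, `|K| |W + W' + F_A| = |A| |F_A|`;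
* `Amal.e_fx` : `C_V(K) = W + W' + F_A` if `K ≠ 1`;
* `Amal.e_off` : `B₁` is an (exact) offender on `W'`;
* `Amal.e_S` : the elements `s_x`, `x ∈ W + W'`, are `|A / K|` in number.
-/

set_option autoImplicit false
set_option linter.unusedSectionVars false

namespace Cfsg.Agent.Omega.NO1.TH

open Subgroup Cfsg.Agent.Omega.NO1.AB Cfsg.Agent.Omega.FFBr
open scoped Pointwise

universe u

variable {Y : Type u} [Group Y] {V : Type u} [AddCommGroup V] [DistribMulAction Y V]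

theorem arith_e {w w' i x y z m n k b α f e g : ℕ} (hw : 0 < w) (hi : 0 < i) (hy : 0 < y) (hm : 0 < m)
    (hk : 0 < k) (hf : 0 < f) (h1 : x * i = w * w') (h2 : z * i = w * y)
    (h3 : z * n = w * m) (h4 : w * b = α * n) (h5 : k * e ≤ f * α) (h6 : g ≤ e) (h7 : g * m = x * f)
    (h8 : b * y ≤ k * w') : k * w' = b * y ∧ e ≤ g ∧ k * g = α * f := by
  have e2 : x * y = z * w' := by
    apply Nat.eq_of_mul_eq_mul_right (Nat.mul_pos hi hw)
    calc x * y * (i * w) = (x * i) * (w * y) := by ring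
      _ = w * w' * (z * i) := by rw [h1, h2]
      _ = _ := by ring
  have e4 : z * b = m * α := by
    apply Nat.eq_of_mul_eq_mul_left hw
    calc w * (z * b) = z * (w * b) := by ring
      _ = z * n * α := by rw [h4]; ring
      _ = w * m * α := by rw [h3]
      _ = _ := by ring
  have e5 : k * x ≤ α * m := by
    apply Nat.le_of_mul_le_mul_right _ hf
    calc k * x * f = k * (x * f) := by ring
      _ = k * (g * m) := by rw [h7]
      _ ≤ k * (e * m) := Nat.mul_le_mul_left _ (Nat.mul_le_mul_right _ h6)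
      _ = k * e * m := by ring
      _ ≤ f * α * m := Nat.mul_le_mul_right _ h5
      _ = _ := by ring
  have hz : 0 < z := by
    rcases Nat.eq_zero_or_pos z with h0 | h0
    · rw [h0, zero_mul] at h3
      exact absurd h3.symm (Nat.mul_pos hw hm).ne'
    · exact h0
  have e6 : k * w' ≤ b * y := by
    apply Nat.le_of_mul_le_mul_left _ hz
    calc z * (k * w') = k * (z * w') := by ring
      _ = k * x * y := by rw [← e2]; ring
      _ ≤ α * m * y := Nat.mul_le_mul_right _ e5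
      _ = z * b * y := by rw [e4]; ring
      _ = _ := by ring
  have e7 := le_antisymm e6 h8
  have e8 : α * m = k * x := by
    apply Nat.eq_of_mul_eq_mul_right hy
    calc α * m * y = z * b * y := by rw [e4]; ring
      _ = z * (b * y) := by ring
      _ = k * (z * w') := by rw [← e7]; ring
      _ = _ := by rw [← e2]; ring
  have e9 : e ≤ g := by
    apply Nat.le_of_mul_le_mul_left _ (Nat.mul_pos hk hm)
    calc k * m * e = m * (k * e) := by ring
      _ ≤ m * (f * α) := Nat.mul_le_mul_left _ h5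
      _ = α * m * f := by ring
      _ = k * (x * f) := by rw [e8]; ring
      _ = _ := by rw [← h7]; ring
  refine ⟨e7, e9, ?_⟩
  apply Nat.eq_of_mul_eq_mul_right hm
  calc k * g * m = k * (g * m) := by ring
    _ = k * x * f := by rw [h7]; ring
    _ = _ := by rw [← e8]; ring

/-- the count of `ANoOver` -/
theorem noOver_of [Finite Y] [Finite V] {H R : Subgroup Y} (hno : ANoOver (XH V H R) (Wm V H R)) {B : Subgroup Y}
    (hBH : B ≤ H) (hB : ElAb B) : Nat.card B * Nat.card ↥(WW V H R ⊓ fx V B) ≤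
      Nat.card ↥(WW V H R) * Nat.card ↥(B ⊓ CW V H R) := by
  have h1 := hno ((B.subgroupOf H).map (pr V H R)) (by
    rintro _ ⟨x, hx, rfl⟩ _ ⟨y, hy, rfl⟩
    rw [← map_mul, ← map_mul]
    congr 1
    exact Subtype.ext (hB.1 x hx y hy)) (by
    rintro _ ⟨x, hx, rfl⟩
    rw [← map_mul]
    have : x * x = 1 := Subtype.ext (hB.2 x hx)
    rw [this, map_one])
  have h2 := card_im (V := V) (R := R) hBH
  have h3 := card_cv (V := V) (R := R) hBH
  rw [← h2, ← h3]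
  calc _ = Nat.card ↥((B.subgroupOf H).map (pr V H R)) *
        (Nat.card ↥(B ⊓ CW V H R) * Nat.card ↥(WW V H R ⊓ fx V B)) := mul_assoc _ _ _
    _ ≤ _ := Nat.mul_le_mul_right _ h1
    _ = _ := by ring

/-- an offender from the orders -/
theorem aOff_of [Finite Y] [Finite V] {H R : Subgroup Y} {B : Subgroup Y} (hBH : B ≤ H) (hB : ElAb B)
    (hBQ : ¬ B ≤ CW V H R) (hc : Nat.card ↥(WW V H R) * Nat.card ↥(B ⊓ CW V H R) ≤
      Nat.card B * Nat.card ↥(WW V H R ⊓ fx V B)) : AOff (Wm V H R) ((B.subgroupOf H).map (pr V H R)) where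
  comm := by
    rintro _ ⟨x, hx, rfl⟩ _ ⟨y, hy, rfl⟩
    rw [← map_mul, ← map_mul]
    congr 1
    exact Subtype.ext (hB.1 x hx y hy)
  sq := by
    rintro _ ⟨x, hx, rfl⟩
    rw [← map_mul]
    have : x * x = 1 := Subtype.ext (hB.2 x hx)
    rw [this, map_one]
  ne := by
    intro h1
    apply hBQ
    intro b hb w hw
    have h2 : pr V H R ⟨b, hBH hb⟩ ∈ (B.subgroupOf H).map (pr V H R) := ⟨_, hb, rfl⟩
    rw [h1, mem_bot, pr_eq_one] at h2
    exact h2 w hw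
  le := by
    have h2 := card_im (V := V) (R := R) hBH
    have h3 := card_cv (V := V) (R := R) hBH
    rw [← h2, ← h3] at hc
    have h4 : 0 < Nat.card ↥(B ⊓ CW V H R) := Nat.card_pos
    have h5 : 0 < Nat.card ↥(WW V H R ⊓ fx V B) := Nat.card_pos
    have h6 := Nat.mul_pos h4 h5
    apply Nat.le_of_mul_le_mul_right _ h6
    calc _ = _ := (mul_assoc _ _ _).symm
      _ = _ := by rw [mul_right_comm]
      _ ≤ _ := hc
      _ = _ := mul_assoc _ _ _

namespace Amal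

variable {U : Set (Subgroup Y)} {T : Sylow 2 Y} {M H H' R : Subgroup Y} {t : Y}

/-- **no over-offender** -/
theorem noOver [Finite Y] [Finite V] (a : Amal U T M H R t) (h : Amb V U T M) (we : WE V U H R) {B : Subgroup Y}
    (hBR : B ≤ R) (hB : ElAb B) : Nat.card B * Nat.card ↥(fx V B ⊓ WW V H R) ≤
      Nat.card ↥(B ⊓ QQ H R) * Nat.card ↥(WW V H R) := by
  obtain ⟨P, M₁, _, _, hno, _⟩ := a.ff' h we
  have h1 := noOver_of hno (hBR.trans a.RH) hB
  rw [inf_CW a h hBR] at h1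
  rw [inf_comm (fx V B), mul_comm (Nat.card ↥(B ⊓ QQ H R))]
  exact h1

variable [Finite Y] [Finite V] (a : Amal U T M H R t) (a' : Amal U T M H' R t) (h : Amb V U T M) (we : WE V U H R)
  (we' : WE V U H' R)
include a a' h we we'

/-- **(1) of #20297, any type** -/
theorem e_one {A : Subgroup Y} (hA : A ∈ U) (hAH : A ≤ H) (hE : WW V H' R ≤ Ee V A) :
    Nat.card ↥(A ⊓ QQ H R ⊓ QQ H' R) * Nat.card ↥(WW V H' R) =
        Nat.card ↥(A ⊓ QQ H R) * Nat.card ↥(fx V (A ⊓ QQ H R) ⊓ WW V H' R) ∧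
      fx V (A ⊓ QQ H R ⊓ QQ H' R) ⊓ Ee V A = WW V H R ⊔ WW V H' R ⊔ fx V A ∧
      Nat.card ↥(A ⊓ QQ H R ⊓ QQ H' R) * Nat.card ↥(WW V H R ⊔ WW V H' R ⊔ fx V A) =
        Nat.card A * Nat.card ↥(fx V A) := by
  have hm := h.cls.mem A hA
  set W := WW V H R with hW
  set W' := WW V H' R with hW'
  set F := fx V A with hF
  set E := Ee V A with hEd
  set B₁ := A ⊓ QQ H R with hB₁
  set K := B₁ ⊓ QQ H' R with hK
  have hWE : W ≤ E := a.WW_le_Ee h we hA hAH
  have hZ : fx V B₁ = W ⊔ F := a.fx_eq h we hA hAH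
  have hWZ : W ≤ fx V B₁ := by rw [hZ]; exact le_sup_left
  have hX : W ⊔ W' ⊔ F ≤ fx V K ⊓ E := by
    refine sup_le (sup_le ?_ ?_) ?_
    · exact le_inf (hWZ.trans (fx_mono inf_le_left)) hWE
    · exact le_inf (fun v hv b hb => Amal.QQ_fix a' h hb.2 hv) hE
    · exact le_inf (fx_mono (inf_le_left.trans inf_le_left)) hm.FE
  have c1 := card_sup_as W W'
  have c2 := card_sup_as W (fx V B₁ ⊓ W')
  have i2 : W ⊓ (fx V B₁ ⊓ W') = W ⊓ W' := by
    rw [← inf_assoc, inf_eq_left.2 hWZ]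
  rw [i2] at c2
  have i3 : (W ⊔ W') ⊓ fx V B₁ = W ⊔ fx V B₁ ⊓ W' := by
    rw [sup_inf_assoc_of_le _ hWZ, inf_comm W']
  have i4 : (W ⊔ W') ⊓ fx V B₁ = W ⊔ (W ⊔ W') ⊓ F := by
    rw [hZ, inf_comm, sup_inf_assoc_of_le _ le_sup_left, inf_comm F]
  have c3 := card_sup_as W ((W ⊔ W') ⊓ F)
  have i5 : W ⊓ ((W ⊔ W') ⊓ F) = W ⊓ F := by
    rw [← inf_assoc, inf_eq_left.2 (le_sup_left : W ≤ W ⊔ W')]
  rw [i5, ← i4, i3] at c3
  have c4 : Nat.card W * Nat.card B₁ = Nat.card A * Nat.card ↥(W ⊓ F) := a.exact' h we hA hAH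
  have c5 := h.cls.mu A hA K (inf_le_left.trans inf_le_left)
  rw [hm.card_E h.two] at c5
  have c6 := Nat.card_le_card_of_injective _ (AddSubgroup.inclusion_injective hX)
  have c7 := card_sup_as (W ⊔ W') F
  have c8 := a'.noOver h we' (B := B₁) (inf_le_right.trans QQ_le) (ElAb.mono (Mem.elAb hm) inf_le_left)
  obtain ⟨r1, r2, r3⟩ := arith_e (w := Nat.card W) (w' := Nat.card W') (i := Nat.card ↥(W ⊓ W'))
    (x := Nat.card ↥(W ⊔ W')) (y := Nat.card ↥(fx V B₁ ⊓ W')) (z := Nat.card ↥(W ⊔ fx V B₁ ⊓ W'))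
    (m := Nat.card ↥((W ⊔ W') ⊓ F)) (n := Nat.card ↥(W ⊓ F)) (k := Nat.card K) (b := Nat.card B₁)
    (α := Nat.card A) (f := Nat.card F) (e := Nat.card ↥(fx V K ⊓ E)) (g := Nat.card ↥(W ⊔ W' ⊔ F))
    Nat.card_pos Nat.card_pos Nat.card_pos Nat.card_pos Nat.card_pos Nat.card_pos
    c1 c2 c3 c4 c5 c6 c7 c8
  exact ⟨r1, (eq_of_le_as hX r2).symm, r3⟩

/-- `C_V(K) = W + W' + F` -/
theorem e_fx {A : Subgroup Y} (hA : A ∈ U) (hAH : A ≤ H) (hE : WW V H' R ≤ Ee V A)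
    (hK : A ⊓ QQ H R ⊓ QQ H' R ≠ ⊥) :
    fx V (A ⊓ QQ H R ⊓ QQ H' R) = WW V H R ⊔ WW V H' R ⊔ fx V A := by
  rw [← (e_one a a' h we we' hA hAH hE).2.1]
  exact (inf_eq_left.2 (fx_le_Ee a h hA (inf_le_left.trans inf_le_left) hK)).symm

/-- `B₁` is an offender on `W'` -/
theorem e_off {A : Subgroup Y} (hA : A ∈ U) (hAH : A ≤ H) (hE : WW V H' R ≤ Ee V A)
    (hn : ¬ A ⊓ QQ H R ≤ QQ H' R) :
    AOff (Wm V H' R) (((A ⊓ QQ H R).subgroupOf H').map (pr V H' R)) := by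
  have hR : A ⊓ QQ H R ≤ R := inf_le_right.trans QQ_le
  refine aOff_of (hR.trans a'.RH) (ElAb.mono (Mem.elAb (h.cls.mem A hA)) inf_le_left) ?_ ?_
  · intro h1
    apply hn
    have h2 := inf_CW a' h hR
    rw [inf_eq_left.2 h1] at h2
    rw [h2]
    exact inf_le_right
  · rw [inf_CW a' h hR, mul_comm, (e_one a a' h we we' hA hAH hE).1, inf_comm (fx V _)]

end Amal

/-! ### The elements `s_x` -/

/-- `|X| = |F| |S_X|` for `F ≤ X ≤ E`, `S_X = {s ∈ A : [w, s] ∈ X}` -/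
theorem card_SX [Finite Y] [Finite V] (h2 : ∀ v : V, v + v = 0) {A : Subgroup Y} {E F : AddSubgroup V}
    (h : Mem A E F) {w : V} (hw : w ∉ E) {X : AddSubgroup V} (hFX : F ≤ X) (hXE : X ≤ E) :
    Nat.card X = Nat.card F * Nat.card {s : Y // s ∈ A ∧ s • w + w ∈ X} := by
  let f : F × {s : Y // s ∈ A ∧ s • w + w ∈ X} → X := fun p =>
    ⟨(p.2 : Y) • w + w + p.1, X.add_mem p.2.2.2 (hFX p.1.2)⟩
  have hf : Function.Bijective f := by
    constructor
    · rintro ⟨⟨x, hx⟩, ⟨a, ha⟩⟩ ⟨⟨y, hy⟩, ⟨b, hb⟩⟩ he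
      have h3 : a • w + w + x = b • w + w + y := congrArg Subtype.val he
      have h4 : (b * a) • w + w ∈ F := by
        have h5 : a • w = b • w + y + x := by
          have : a • w + w + x + w + x = b • w + w + y + w + x := by rw [h3]
          have e1 : a • w + w + x + w + x = a • w + (w + w) + (x + x) := by abel
          have e2 : b • w + w + y + w + x = b • w + (w + w) + y + x := by abel
          rw [e1, e2, h2, h2, add_zero, add_zero, add_zero] at this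
          exact this
        rw [mul_smul, h5, smul_add, smul_add, ← mul_smul, h.sq b hb.1, one_smul, h.FB b hb.1 y hy, h.FB b hb.1 x hx]
        have e3 : w + y + x + w = (w + w) + (y + x) := by abel
        rw [e3, h2, zero_add]
        exact F.add_mem hy hx
      have h5 := h.inj w hw _ (mul_mem hb.1 ha.1) h4
      have h6 : a = b := by
        have : b * (b * a) = b * 1 := by rw [h5]
        rw [← mul_assoc, h.sq b hb.1, one_mul, mul_one] at this
        exact this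
      subst h6
      have h7 : x = y := add_left_cancel h3
      subst h7
      rfl
    · rintro ⟨e, he⟩
      obtain ⟨b, hb, h3⟩ := h.surj w hw e (hXE he)
      have h4 : b • w + w ∈ X := by
        have h5 := X.add_mem (hFX h3) he
        rwa [add_assoc, h2, add_zero] at h5
      refine ⟨⟨⟨_, h3⟩, ⟨b, hb, h4⟩⟩, Subtype.ext ?_⟩
      change b • w + w + (b • w + w + e) = e
      rw [← add_assoc, h2, zero_add]
  rw [← Nat.card_prod]
  exact (Nat.card_congr (Equiv.ofBijective f hf)).symm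

/-- `[x, s_y] = [y, s_x]` -/
theorem s_symm (h2 : ∀ v : V, v + v = 0) {A : Subgroup Y} {E F : AddSubgroup V} (h : Mem A E F) {w x y : V} {s r : Y}
    (hs : s ∈ A) (hr : r ∈ A) (hsx : s • w + w + x ∈ F) (hry : r • w + w + y ∈ F) : r • x + x = s • y + y := by
  have h3 := h.FB r hr _ hsx
  have h4 := h.FB s hs _ hry
  rw [smul_add, smul_add, ← mul_smul] at h3 h4
  rw [h.comm s hs r hr] at h4
  -- `r s w + r w + r x = s w + w + x`, `r s w + s w + s y = r w + w + y`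
  have h5 : (r * s) • w + r • w + r • x + ((r * s) • w + s • w + s • y) = s • w + w + x + (r • w + w + y) := by
    rw [h3, h4]
  have e1 : (r * s) • w + r • w + r • x + ((r * s) • w + s • w + s • y) =
      ((r * s) • w + (r * s) • w) + (r • w + s • w) + (r • x + s • y) := by abel
  have e2 : s • w + w + x + (r • w + w + y) = (w + w) + (r • w + s • w) + (x + y) := by abel
  rw [e1, e2, h2, h2, zero_add] at h5
  have h6 := add_left_cancel h5
  have h7 : r • x + x + (s • y + y) = (r • x + s • y) + (x + y) := by abel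
  rw [h6, h2] at h7
  exact (HE.add_eq_zero' h2).1 h7

/-- `s_x s_y = s_(x+y)` -/
theorem s_mul (h2 : ∀ v : V, v + v = 0) {A : Subgroup Y} {E F : AddSubgroup V} (h : Mem A E F) {w x y : V} {s r : Y}
    (hs : s ∈ A) (hy : y ∈ E) (hsx : s • w + w + x ∈ F) (hry : r • w + w + y ∈ F) :
    (s * r) • w + w + (x + y) ∈ F := by
  have h3 := h.FB s hs _ hry
  rw [smul_add, smul_add, ← mul_smul] at h3
  -- `(s r) w = r w + w + y + s w + s y`
  have h4 : (s * r) • w = (r • w + w + y) + s • w + s • y := by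
    rw [← h3]
    have e : (s * r) • w + s • w + s • y + s • w + s • y = (s * r) • w + (s • w + s • w) + (s • y + s • y) := by abel
    rw [e, h2, h2, add_zero, add_zero]
  have h5 : (s * r) • w + w + (x + y) = (r • w + w + y) + (s • w + w + x) + (s • y + y) := by
    rw [h4]; abel
  rw [h5]
  exact F.add_mem (F.add_mem hry hsx) (h.EB s hs y hy)

/-- an element of `A` with the commutator of `s_x` is `s_x` -/
theorem s_uniq (h2 : ∀ v : V, v + v = 0) {A : Subgroup Y} {E F : AddSubgroup V} (h : Mem A E F) {w x : V}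
    (hw : w ∉ E) {s r : Y} (hs : s ∈ A) (hr : r ∈ A) (hx : x ∈ E) (hsx : s • w + w + x ∈ F)
    (hrx : r • w + w + x ∈ F) : s = r := by
  have h3 := s_mul h2 h hs hx hsx hrx
  rw [h2, add_zero] at h3
  have h4 := h.inj w hw _ (mul_mem hs hr) h3
  have h5 : s * (s * r) = s * 1 := by rw [h4]
  rw [← mul_assoc, h.sq s hs, one_mul, mul_one] at h5
  exact h5.symm

theorem mul_card_le [Finite Y] {A B : Subgroup Y} (h : A < B) : 2 * Nat.card A ≤ Nat.card B := by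
  obtain ⟨n, hn⟩ := card_dvd_of_le h.le
  have h1 := Amb.card_lt' h
  have h2 : 0 < Nat.card A := Nat.card_pos
  rw [hn] at h1 ⊢
  have h3 : 2 ≤ n := by
    by_contra h3
    have h4 : n = 0 ∨ n = 1 := by omega
    rcases h4 with rfl | rfl <;> omega
  calc 2 * Nat.card A = Nat.card A * 2 := by ring
    _ ≤ _ := Nat.mul_le_mul_left _ h3

namespace Amal

variable {U : Set (Subgroup Y)} {T : Sylow 2 Y} {M H H' R : Subgroup Y} {t : Y}

variable [Finite Y] [Finite V] (a : Amal U T M H R t) (a' : Amal U T M H' R t) (h : Amb V U T M) (we : WE V U H R)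
  (we' : WE V U H' R)
include a a' h we we'

/-- `|K| |S_X| = |A|` -/
theorem e_S {A : Subgroup Y} (hA : A ∈ U) (hAH : A ≤ H) (hE : WW V H' R ≤ Ee V A) {w : V} (hw : w ∉ Ee V A) :
    Nat.card ↥(A ⊓ QQ H R ⊓ QQ H' R) *
      Nat.card {s : Y // s ∈ A ∧ s • w + w ∈ WW V H R ⊔ WW V H' R ⊔ fx V A} = Nat.card A := by
  have hm := h.cls.mem A hA
  have h1 := (e_one a a' h we we' hA hAH hE).2.2
  have h2 := card_SX h.two hm hw (X := WW V H R ⊔ WW V H' R ⊔ fx V A) le_sup_right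
    (sup_le (sup_le (a.WW_le_Ee h we hA hAH) hE) hm.FE)
  rw [h2] at h1
  have h3 : 0 < Nat.card ↥(fx V A) := Nat.card_pos
  apply Nat.eq_of_mul_eq_mul_right h3
  rw [← h1]
  ring

/-- **`S_X ≤ K`: `|A| ≥ 16`, `|K| ≥ 4`** -/
theorem e_card {A : Subgroup Y} (hA : A ∈ U) (hAH : A ≤ H) (hE : WW V H' R ≤ Ee V A) {w : V} (hw : w ∉ Ee V A)
    (hAQ : ¬ A ≤ QQ H R) (hBQ : ¬ A ⊓ QQ H R ≤ QQ H' R)
    (hS : ∀ s ∈ A, s • w + w ∈ WW V H R ⊔ WW V H' R ⊔ fx V A → s ∈ QQ H R ∧ s ∈ QQ H' R) :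
    4 ≤ Nat.card ↥(A ⊓ QQ H R ⊓ QQ H' R) ∧ Nat.card ↥(A ⊓ QQ H R ⊓ QQ H' R) ^ 2 ≥ Nat.card A ∧
      16 ≤ Nat.card A := by
  have h1 := e_S a a' h we we' hA hAH hE hw
  have h2 : Nat.card {s : Y // s ∈ A ∧ s • w + w ∈ WW V H R ⊔ WW V H' R ⊔ fx V A} ≤
      Nat.card ↥(A ⊓ QQ H R ⊓ QQ H' R) := by
    apply Nat.card_le_card_of_injective
      (fun s : {s : Y // s ∈ A ∧ s • w + w ∈ WW V H R ⊔ WW V H' R ⊔ fx V A} =>
        (⟨s, ⟨s.2.1, (hS s s.2.1 s.2.2).1⟩, (hS s s.2.1 s.2.2).2⟩ : ↥(A ⊓ QQ H R ⊓ QQ H' R)))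
    intro s r hsr
    exact Subtype.ext (congrArg (fun z : ↥(A ⊓ QQ H R ⊓ QQ H' R) => (z : Y)) hsr)
  have h3 : 2 * Nat.card ↥(A ⊓ QQ H R ⊓ QQ H' R) ≤ Nat.card ↥(A ⊓ QQ H R) := by
    apply mul_card_le
    exact lt_of_le_of_ne inf_le_left fun h4 => hBQ (by rw [← h4]; exact inf_le_right)
  have h4 : 2 * Nat.card ↥(A ⊓ QQ H R) ≤ Nat.card A := by
    apply mul_card_le
    exact lt_of_le_of_ne inf_le_left fun h4 => hAQ (by rw [← h4]; exact inf_le_right)
  set κ := Nat.card ↥(A ⊓ QQ H R ⊓ QQ H' R) with hκ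
  set σ := Nat.card {s : Y // s ∈ A ∧ s • w + w ∈ WW V H R ⊔ WW V H' R ⊔ fx V A} with hσ
  have h5 : 0 < κ := Nat.card_pos
  have h6 : 4 ≤ σ := by
    apply Nat.le_of_mul_le_mul_left _ h5
    rw [h1]; omega
  refine ⟨h6.trans h2, ?_, ?_⟩
  · rw [ge_iff_le, ← h1, pow_two]
    exact Nat.mul_le_mul_left _ h2
  · rw [← h1]
    exact Nat.mul_le_mul (h6.trans h2) h6

/-- **(e)**: `C_V(K) = W + W' + F` -/
theorem e_CK {A : Subgroup Y} (hA : A ∈ U) (hAH : A ≤ H) (hE : WW V H' R ≤ Ee V A) {w : V} (hw : w ∉ Ee V A)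
    (hAQ : ¬ A ≤ QQ H R) (hBQ : ¬ A ⊓ QQ H R ≤ QQ H' R)
    (hS : ∀ s ∈ A, s • w + w ∈ WW V H R ⊔ WW V H' R ⊔ fx V A → s ∈ QQ H R ∧ s ∈ QQ H' R) :
    fx V (A ⊓ QQ H R ⊓ QQ H' R) = WW V H R ⊔ WW V H' R ⊔ fx V A := by
  apply e_fx a a' h we we' hA hAH hE
  intro h1
  have h2 := (e_card a a' h we we' hA hAH hE hw hAQ hBQ hS).1
  rw [h1, Subgroup.card_bot] at h2
  omega

/-- **(e), `S_X ≤ K`, type-free**: from `S₁ ≤ Q`, `[W', S₁] = 0` and the computation (a) for `B₁` on `W'` -/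
theorem e_SK {A : Subgroup Y} (hA : A ∈ U) (hAH : A ≤ H) (hE : WW V H' R ≤ Ee V A) {w : V} (hw : w ∉ Ee V A)
    (ha : ∀ s ∈ A, s • w + w ∈ WW V H R ⊔ fx V A → s ∈ QQ H R)
    (hg : ∀ s ∈ A, s • w + w ∈ WW V H R ⊔ fx V A → ∀ y ∈ WW V H' R, s • y = y)
    (htriv : ∀ σ : V → Y, (∀ y ∈ WW V H' R, σ y ∈ A ⊓ QQ H R) → (∀ y ∈ WW V H' R, σ y • y = y) →
      (∀ x ∈ WW V H' R, ∀ y ∈ WW V H' R, σ y • x + x = σ x • y + y) → ∀ y ∈ WW V H' R, σ y ∈ QQ H' R) :
    ∀ s ∈ A, s • w + w ∈ WW V H R ⊔ WW V H' R ⊔ fx V A → s ∈ QQ H R ∧ s ∈ QQ H' R := by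
  classical
  have hm := h.cls.mem A hA
  have hWE : WW V H R ≤ Ee V A := a.WW_le_Ee h we hA hAH
  have hcan : ∀ {u v f : V}, u + v = f → u = v + f := by
    intro u v f huv
    rw [← huv, add_comm u v, ← add_assoc, h.two, zero_add]
  -- `s_x`, `x ∈ E`
  have hex : ∀ y : V, ∃ s : Y, y ∈ Ee V A → s ∈ A ∧ s • w + w + y ∈ fx V A := by
    intro y
    by_cases hy : y ∈ Ee V A
    · obtain ⟨s, hs, h1⟩ := hm.surj w hw y hy
      exact ⟨s, fun _ => ⟨hs, h1⟩⟩
    · exact ⟨1, fun h1 => absurd h1 hy⟩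
  choose σ hσ using hex
  have hmem : ∀ {x f : V}, x ∈ WW V H R → f ∈ fx V A → ∀ {s : Y}, s • w + w + x = f → s • w + w ∈ WW V H R ⊔ fx V A := by
    intro x f hx hf s h1
    rw [hcan h1]
    exact add_mem (AddSubgroup.mem_sup_left hx) (AddSubgroup.mem_sup_right hf)
  -- `s_x`, `x ∈ W`
  have hx1 : ∀ x ∈ WW V H R, ∀ s ∈ A, s • w + w + x ∈ fx V A → s ∈ QQ H R ∧ s ∈ QQ H' R := by
    intro x hx s hs h1
    have h2 := hmem hx h1 rfl
    have h3 := ha s hs h2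
    exact ⟨h3, (mem_QQ_iff a' h (QQ_le h3)).2 fun y hy => hg s hs h2 y hy⟩
  -- `s_y ∈ B₁`, `y ∈ W'`
  have hy1 : ∀ y ∈ WW V H' R, ∀ s ∈ A, s • w + w + y ∈ fx V A → s ∈ QQ H R := by
    intro y hy s hs h1
    have h2 : s ∈ A ⊓ CW V H R := by
      refine ⟨hs, fun x hx => ?_⟩
      obtain ⟨h3, h4⟩ := hσ x (hWE hx)
      have h5 := s_symm h.two hm h3 hs h4 h1
      rw [hg _ h3 (hmem hx h4 rfl) y hy, h.two] at h5
      exact (HE.add_eq_zero' h.two).1 h5
    rw [inf_CW' a h hA hAH] at h2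
    exact h2.2
  have hy2 : ∀ y ∈ WW V H' R, σ y ∈ QQ H' R := by
    apply htriv σ
    · intro y hy
      exact ⟨(hσ y (hE hy)).1, hy1 y hy _ (hσ y (hE hy)).1 (hσ y (hE hy)).2⟩
    · intro y hy
      exact smul_self_of hm (hσ y (hE hy)).1 (hσ y (hE hy)).2
    · intro x hx y hy
      exact s_symm h.two hm (hσ x (hE hx)).1 (hσ y (hE hy)).1 (hσ x (hE hx)).2 (hσ y (hE hy)).2
  intro s hs h1
  obtain ⟨z, hz, f, hf, hzf⟩ := AddSubgroup.mem_sup.1 h1
  obtain ⟨x, hx, y, hy, hxy⟩ := AddSubgroup.mem_sup.1 hz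
  have hxs := hσ x (hWE hx)
  have hys := hσ y (hE hy)
  have h2 := s_mul h.two hm hxs.1 (hE hy) hxs.2 hys.2
  have h3 : s • w + w + (x + y) ∈ fx V A := by
    rw [← hzf, ← hxy]
    have e : x + y + f + (x + y) = (x + y) + (x + y) + f := by abel
    rw [e, h.two, zero_add]
    exact hf
  have h4 : s = σ x * σ y := s_uniq h.two hm hw hs (mul_mem hxs.1 hys.1)
    (add_mem (hWE hx) (hE hy)) h3 h2
  rw [h4]
  exact ⟨mul_mem (hx1 x hx _ hxs.1 hxs.2).1 (hy1 y hy _ hys.1 hys.2),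
    mul_mem (hx1 x hx _ hxs.1 hxs.2).2 (hy2 y hy)⟩

end Amal

end Cfsg.Agent.Omega.NO1.TH
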