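import Cfsg.Agent.Omega.NO1.TH.K.SPts
import Cfsg.Agent.Omega.NO1.TH.K.EOne

/-!
# N1, BETA, `S_n` type: (z) over `TwoS` (bb OMEGA 20646 / 21203 / 21465 (5))

`TwoS.z_D` : `W' ≤ E_D` for all members `D ≤ H`; `TwoS.z_le₁`, `TwoS.z_le₂` : the fields `le₁`, `le₂` of `LIn`
(bb OMEGA 21659).  Hypotheses: (a) for the members `≤ H`, case (e) `W' ≤ E_A` for one `A`, and `S_X ≤ K` for this `A`.
-/

set_option autoImplicit false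
set_option linter.unusedSectionVars false
set_option linter.dupNamespace false

namespace Cfsg.Agent.Omega.NO1.TH.K

open Subgroup Cfsg.Agent.Omega.NO1.AB
open scoped Pointwise

universe u

variable {Y : Type u} [Group Y] {V : Type u} [AddCommGroup V] [DistribMulAction Y V] [Finite Y] [Finite V]
  {U : Set (Subgroup Y)} {T : Sylow 2 Y} {M H H' R : Subgroup Y} {k m : ℕ}
  {co co' : V → Fin k → Fin (2 ^ m + 1) → ZMod 2} {t : Y}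

namespace TwoS

variable (h : TwoS V U T M H H' R k m co co' t)
include h

theorem star' {A : Subgroup Y} (hA : A ∈ U) (hAH : A ≤ H) (hAM : ¬ A ≤ M) : ∃ b ∈ A ⊓ QQ H R, b ∉ QQ H' R := by
  have h1 := h.a.star h.amb h.we hA hAH hAM
  rwa [← QQ_conj h.a.t_norm (fun r hr => h.a.symm_smul hr), ← h.H'_eq] at h1

theorem not_le_Q {A : Subgroup Y} (hAM : ¬ A ≤ M) : ¬ A ≤ QQ H R := fun h1 =>
  hAM (h1.trans (QQ_le.trans (h.a.RT.trans h.amb.TM)))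

/-- all members have order `≥ 16` in case (e) -/
theorem card_ge {A : Subgroup Y} (hA : A ∈ U) (hAH : A ≤ H) (hAM : ¬ A ≤ M) (hW' : WW V H' R ≤ Ee V A)
    (hSK : ∀ w, w ∉ Ee V A → ∀ s ∈ A, s • w + w ∈ WW V H R ⊔ WW V H' R ⊔ fx V A → s ∈ QQ H R ∧ s ∈ QQ H' R)
    {D : Subgroup Y} (hD : D ∈ U) : 16 ≤ Nat.card D := by
  obtain ⟨w, hw⟩ := (h.amb.cls.mem A hA).ne
  obtain ⟨b, hb, hb'⟩ := h.star' hA hAH hAM
  have h1 := (Amal.e_card h.a h.a' h.amb h.we h.we' hA hAH hW' hw (h.not_le_Q hAM) (fun h2 => hb' (h2 hb))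
    (hSK w hw)).2.2
  obtain ⟨y, rfl⟩ := h.amb.cls.eq A hA D hD
  rwa [conj_card]

/-- **(z), members**: `W' ≤ E_D` for all members `D ≤ H` -/
theorem z_D (hpre : ∀ D ∈ U, D ≤ H → ∀ w, w ∉ Ee V D → ∀ s ∈ D, s • w + w ∈ WW V H R ⊔ fx V D → s ∈ QQ H R)
    {A : Subgroup Y} (hA : A ∈ U) (hAH : A ≤ H) (hAM : ¬ A ≤ M) (hW' : WW V H' R ≤ Ee V A)
    (hSK : ∀ w, w ∉ Ee V A → ∀ s ∈ A, s • w + w ∈ WW V H R ⊔ WW V H' R ⊔ fx V A → s ∈ QQ H R ∧ s ∈ QQ H' R)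
    {D : Subgroup Y} (hD : D ∈ U) (hDH : D ≤ H) : WW V H' R ≤ Ee V D := by
  have h1 := h.card_ge hA hAH hAM hW' hSK hD
  exact Pts.zD h.amb h.a h.we h.H'_eq (h.K'.pts h.amb.two h.a'.RH) hD hDH (hpre D hD hDH) (by omega)

/-- **(z), `le₁`** : `⟨W'^H⟩ ≤ E_D` for all members `D ≤ H` -/
theorem z_le₁ (hpre : ∀ D ∈ U, D ≤ H → ∀ w, w ∉ Ee V D → ∀ s ∈ D, s • w + w ∈ WW V H R ⊔ fx V D → s ∈ QQ H R)
    {A : Subgroup Y} (hA : A ∈ U) (hAH : A ≤ H) (hAM : ¬ A ≤ M) (hW' : WW V H' R ≤ Ee V A)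
    (hSK : ∀ w, w ∉ Ee V A → ∀ s ∈ A, s • w + w ∈ WW V H R ⊔ WW V H' R ⊔ fx V A → s ∈ QQ H R ∧ s ∈ QQ H' R)
    {D : Subgroup Y} (hD : D ∈ U) (hDH : D ≤ H) : ∀ x ∈ H, ∀ w ∈ WW V H' R, x • w ∈ Ee V D := by
  intro x hx w hw
  have hD' : MulAut.conj x⁻¹ • D ≤ H := by
    intro y hy
    rw [mem_conj, inv_inv] at hy
    have h1 := H.mul_mem (H.mul_mem (H.inv_mem hx) (hDH hy)) hx
    have e : x⁻¹ * (x * y * x⁻¹) * x = y := by group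
    rwa [e] at h1
  have h1 := h.z_D hpre hA hAH hAM hW' hSK (h.amb.cls.conj D hD x⁻¹) hD' hw
  rw [Ee_conj, mem_smul_as, inv_inv] at h1
  exact h1

/-- **(z), `le₂`** : `⟨W^H'⟩ ≤ E_A` -/
theorem z_le₂ {A : Subgroup Y} (hA : A ∈ U) (hAH : A ≤ H) (hAM : ¬ A ≤ M) (hW' : WW V H' R ≤ Ee V A)
    (hSK : ∀ w, w ∉ Ee V A → ∀ s ∈ A, s • w + w ∈ WW V H R ⊔ WW V H' R ⊔ fx V A → s ∈ QQ H R ∧ s ∈ QQ H' R) :
    ∀ x ∈ H', ∀ w ∈ WW V H R, x • w ∈ Ee V A :=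
  Pts.zK h.amb h.a h.a' h.we (h.K.pts h.amb.two h.a.RH) hA hAH hAM hW' hSK (h.star' hA hAH hAM)

end TwoS

end Cfsg.Agent.Omega.NO1.TH.K
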