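import Cfsg.Agent.Omega.NO1.TH.K.SIFac
import Cfsg.Agent.Omega.NO1.TH.K.SMov
import Cfsg.Agent.Omega.NO1.TH.K.SZMain
import Cfsg.Agent.Omega.NO1.TH.LOne

/-!
# N1, BETA, `S_n` type: (L1) (bb OMEGA 21480): `LIn` for an opposite member

`TwoS.lIn` : the input of (L1); `TwoS.not_WE'` : `W' ≰ E_A` for every opposite member `A ≤ H`.
-/

set_option autoImplicit false
set_option linter.unusedSectionVars false
set_option linter.dupNamespace false

namespace Cfsg.Agent.Omega.NO1.TH.K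

open Subgroup Cfsg.Agent.Omega.NO1.AB
open scoped Pointwise

universe u

variable {Y : Type u} [Group Y] {V : Type u} [AddCommGroup V] [DistribMulAction Y V]

namespace SI

section basic

variable {H R : Subgroup Y} {k m : ℕ} {co : V → Fin k → Fin (2 ^ m + 1) → ZMod 2}

theorem dl_comm {k n : ℕ} (i : Fin k) (a b : Fin n) : dl i a b = dl i b a := by
  unfold dl
  rw [add_comm]

theorem zmod_cases (z : ZMod 2) : z = 0 ∨ z = 1 := by revert z; decide

/-- the coordinates of `[Ψ p, P p]` -/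
theorem co_brk (K : KSym V H R k m co) (two : ∀ v : V, v + v = 0) {hRH : R ≤ H} {i : Fin k}
    {a b : Fin (2 ^ m + 1)} (hab : a ≠ b) {x : V} (hx : x ∈ brk (Ps K i a b) (Pp V co hRH i a b)) :
    x ∈ WW V H R ∧ (co x = 0 ∨ co x = dl i a b) := by
  have hdd : dl i a b + dl i a b = 0 := by
    funext j y
    exact CharTwo.add_self_eq_zero _
  induction hx using AddSubgroup.closure_induction with
  | mem v hv =>
    obtain ⟨w, hw, r, hr, rfl⟩ := hv
    have hrw := smul_mem_WW (hRH hr.1) hw.1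
    refine ⟨add_mem hrw hw.1, ?_⟩
    rcases hr.2 with h1 | h1
    · left
      rw [fix_of_one K (hRH hr.1) h1 hw.1, two, co_zero K]
    · have h2 : ∀ j c, co (r • w) j c = co w j (tp i a b j c) := by
        intro j c
        have h3 := h1 w hw.1 j (tp i a b j c)
        have e : tp i a b j (tp i a b j c) = c := by
          have := congrFun (tp_mul_self i a b) j
          rw [Pi.mul_apply] at this
          exact Equiv.ext_iff.1 this c
        rw [e] at h3
        exact h3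
      have h4 : ∀ j c, co (r • w + w) j c = (co w i a + co w i b) * dl i a b j c := by
        intro j c
        rw [K.add _ hrw w hw.1, Pi.add_apply, Pi.add_apply, h2, dl_apply]
        by_cases hj : j = i
        · subst hj
          rw [if_pos rfl, tp_self]
          by_cases hc1 : c = a
          · subst hc1
            rw [Equiv.swap_apply_left, if_pos rfl, if_neg hab, add_zero, mul_one, add_comm]
          by_cases hc2 : c = b
          · subst hc2
            rw [Equiv.swap_apply_right, if_neg hab.symm, if_pos rfl, zero_add, mul_one]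
          rw [Equiv.swap_apply_of_ne_of_ne hc1 hc2, if_neg hc1, if_neg hc2, add_zero, mul_zero,
            CharTwo.add_self_eq_zero]
        · rw [if_neg hj, tp_of_ne hj, mul_zero]
          exact CharTwo.add_self_eq_zero _
      rcases zmod_cases (co w i a + co w i b) with h5 | h5
      · left
        funext j c
        rw [h4, h5, zero_mul]; rfl
      · right
        funext j c
        rw [h4, h5, one_mul]
  | zero => exact ⟨zero_mem _, Or.inl (co_zero K)⟩
  | add y z _ _ h1 h2 =>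
    refine ⟨add_mem h1.1 h2.1, ?_⟩
    rw [K.add y h1.1 z h2.1]
    rcases h1.2 with h3 | h3 <;> rcases h2.2 with h4 | h4
    · left; rw [h3, h4, add_zero]
    · right; rw [h3, h4, zero_add]
    · right; rw [h3, h4, add_zero]
    · left; rw [h3, h4, hdd]
  | neg y _ h1 =>
    have e : -y = y := neg_eq_of_add_eq_zero_left (two y)
    rw [e]
    exact h1

/-- **the support of an exact offender** -/
theorem exact_of [Finite Y] [Finite V] {U : Set (Subgroup Y)} {T : Sylow 2 Y} {M : Subgroup Y} {t : Y}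
    (amb : Amb V U T M) (a : Amal U T M H R t) (we : WE V U H R) (K : KSym V H R k m co) {B : Subgroup Y}
    (hBR : B ≤ R) (hBQ : ¬ B ≤ QQ H R)
    (hoff : ∀ b ∈ B, ∃ τ : Fin k → Equiv.Perm (Fin (2 ^ m + 1)), ActS V H R co b 1 τ ∧
      ∀ i x, τ i x ≠ x → ∃ b' ∈ B, ActS V H R co b' 1 (tp i x (τ i x))) :
    ∃ Δ : Set (Ix V H R co), Δ.Nonempty ∧ (∀ b ∈ B, b ∈ ⨆ p ∈ Δ, Pp V co a.RH p.1.1 p.1.2.1 p.1.2.2) ∧
      ∀ p ∈ Δ, ∀ r ∈ Pp V co a.RH p.1.1 p.1.2.1 p.1.2.2, ∃ b ∈ B, b⁻¹ * r ∈ QQ H R := by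
  have hQ : ∀ r ∈ R, ActS V H R co r 1 1 → r ∈ QQ H R := by
    intro r hr h1
    rw [a.mem_QQ_iff amb hr]
    exact fun w hw => fix_of_one K (a.RH hr) h1 hw
  let Δ : Set (Ix V H R co) := {p | ∃ b ∈ B, ActS V H R co b 1 (tp p.1.1 p.1.2.1 p.1.2.2)}
  have hΔ : ∀ i x y, x ≠ y → (∃ b ∈ B, ActS V H R co b 1 (tp i x y)) →
      ∃ p ∈ Δ, p.1.1 = i ∧ ((p.1.2.1 = x ∧ p.1.2.2 = y) ∨ (p.1.2.1 = y ∧ p.1.2.2 = x)) := by
    rintro i x y hxy ⟨b, hb, h1⟩
    obtain ⟨p, h2, h3⟩ := exists_ix (co := co) ⟨hxy, b, hBR hb, h1⟩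
    refine ⟨p, ⟨b, hb, ?_⟩, h2, h3⟩
    rcases h3 with ⟨h3, h4⟩ | ⟨h3, h4⟩
    · rw [h2, h3, h4]; exact h1
    · rw [h2, h3, h4, tp_comm]; exact h1
  have hne : Δ.Nonempty := by
    obtain ⟨b, hb, hbQ⟩ := SetLike.not_le_iff_exists.1 hBQ
    obtain ⟨τ, h1, h2⟩ := hoff b hb
    by_contra hcon
    apply hbQ
    apply hQ b (hBR hb)
    have h3 : τ = 1 := by
      funext i
      apply Equiv.ext
      intro x
      by_contra h4
      obtain ⟨p, hp, _⟩ := hΔ i x (τ i x) (Ne.symm h4) (h2 i x h4)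
      exact hcon ⟨p, hp⟩
    rw [h3] at h1
    exact h1
  refine ⟨Δ, hne, fun b hb => ?_, ?_⟩
  · obtain ⟨τ, h1, h2⟩ := hoff b hb
    exact mem_sup_of K (PI_uniq amb a we K) hne _ (hBR hb) h1 rfl fun i x h3 =>
      hΔ i x (τ i x) (Ne.symm h3) (h2 i x h3)
  · rintro p ⟨b, hb, h1⟩ r ⟨hr, h2⟩
    rcases h2 with h2 | h2
    · refine ⟨1, B.one_mem, ?_⟩
      rw [inv_one, one_mul]
      exact hQ r hr h2
    · refine ⟨b, hb, hQ _ (R.mul_mem (R.inv_mem (hBR hb)) hr) ?_⟩
      have h3 := actS_mul1 (a.RH hr) (actS_inv1 (a.RH (hBR hb)) h1) h2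
      rwa [inv_mul_cancel] at h3

end basic

end SI

open SI

namespace TwoS

variable [Finite Y] [Finite V] {U : Set (Subgroup Y)} {T : Sylow 2 Y} {M H H' R : Subgroup Y} {t : Y} {k m : ℕ}
  {co co' : V → Fin k → Fin (2 ^ m + 1) → ZMod 2}

/-- **the input of (L1)** -/
theorem lIn (h : TwoS V U T M H (MulAut.conj t • H) R k m co co' t) {A : Subgroup Y} (hA : A ∈ U) (hAH : A ≤ H)
    (hO : OppS V M H R co A) (hE : WW V (MulAut.conj t • H) R ≤ Ee V A) :
    LIn V U M H R t (fun p : Ix V H R co => Pp V co h.a.RH p.1.1 p.1.2.1 p.1.2.2)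
      (fun p : Ix V H R co => Ps h.K p.1.1 p.1.2.1 p.1.2.2)
      (fun p : Ix V (MulAut.conj t • H) R co' => Pp V co' h.a'.RH p.1.1 p.1.2.1 p.1.2.2)
      (fun p : Ix V (MulAut.conj t • H) R co' => Ps h.K' p.1.1 p.1.2.1 p.1.2.2) A := by
  have hS := h.e_SK h.prs hA hAH hO hE
  obtain ⟨Δ, h1, h2, h3⟩ := SI.exact_of h.amb h.a' h.we' h.K' (B := A ⊓ QQ H R) (inf_le_right.trans QQ_le)
    (h.star hA hAH hO.1) (fun b hb => by
      obtain ⟨τ, h4, h5⟩ := (h.e_exact hA hAH hO.1 hE).2 b hb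
      exact ⟨τ, h4, fun i x hx => (h5 i x hx).2⟩)
  refine
    { fac := lfac h.amb h.a h.we h.K
      fac' := lfac h.amb h.a' h.we' h.K'
      mA := hA
      AH := hAH
      AM := hO.1
      AQ := h.not_Q hO.1
      WE := h.a.WW_le_Ee h.amb h.we hA hAH
      pre := h.pre hA hAH
      faith := fun u hu h4 => h.faith_of hA hAH hu h4
      CB := fun v hv => by
        rw [← h.a.fx_eq h.amb h.we hA hAH]
        exact fun b hb => hv b hb.1 hb.2
      CK := fun v hv => by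
        rw [← h.e_CK h.prs hA hAH hO hE]
        exact fun b hb => hv b hb.1.1 hb.1.2 hb.2
      le₁ := h.z_le₁ (fun D hD hDH w hw s hs h4 => h.pre hD hDH w hw s hs h4) hA hAH hO.1 hE hS hA hAH
      le₂ := h.z_le₂ hA hAH hO.1 hE hS
      exact := ⟨Δ, h1, fun b hb hbQ => h2 b ⟨hb, hbQ⟩, fun p hp r hr => ?_⟩
      mov := ?_ }
  · obtain ⟨b, hb, hbr⟩ := h3 p hp r hr
    exact ⟨b, hb.1, hb.2, hbr⟩
  · obtain ⟨i, x, y, hp, h4⟩ := h.exists_mov hA hAH hO
    obtain ⟨p, h5, h6⟩ := exists_ix ((PI_iff h.K h.a.RH).1 hp)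
    refine ⟨p, fun z hz hzA => ?_⟩
    obtain ⟨hzW, hz0⟩ := co_brk h.K h.amb.two p.2.1.ne hz
    rcases hz0 with hz0 | hz0
    · exact (SI.mem_D0 h.amb h.a h.we h.K).2 ⟨hzW, hz0⟩
    · refine absurd hzA (h4 z hzW ?_)
      rw [hz0, h5]
      rcases h6 with ⟨h6, h7⟩ | ⟨h6, h7⟩
      · rw [h6, h7]
      · rw [h6, h7, dl_comm]

/-- **(L1), `S_n` type**: `W' ≰ E_A` for every opposite member -/
theorem not_WE' (h : TwoS V U T M H H' R k m co co' t) {A : Subgroup Y} (hA : A ∈ U) (hAH : A ≤ H)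
    (hO : OppS V M H R co A) : ¬ WW V H' R ≤ Ee V A := by
  intro hE
  obtain rfl := h.H'_eq
  exact h.a.lOne h.amb (h.lIn hA hAH hO hE)

end TwoS

end Cfsg.Agent.Omega.NO1.TH.K
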