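import Cfsg.Agent.Omega.NO1.TH.K.SIPair

/-!
# N1, the amalgam, `S_n` type: the pairs of `R`

`PI.uniq` : the pairs of a block are disjoint; `exists_PI` : every letter `≠ 0` lies in a pair; `trans_PI` : `R` is
transitive on the pairs; `off_member` : the members `B ≤ R` act by disjoint transpositions of `R`;
`mem_D0`, `mem_WJ` : `D0` and `WJ` in coordinates.
-/

set_option autoImplicit false
set_option linter.unusedSectionVars false
set_option linter.dupNamespace false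

namespace Cfsg.Agent.Omega.NO1.TH.K.SI

open Subgroup Cfsg.Agent.Omega.NO1.AB
open scoped Pointwise

universe u

variable {Y : Type u} [Group Y] {V : Type u} [AddCommGroup V] [DistribMulAction Y V]

section pairs

variable {H R : Subgroup Y} {k m : ℕ} {co : V → Fin k → Fin (2 ^ m + 1) → ZMod 2} (K : KSym V H R k m co)
include K

omit K in
theorem tp_pow {k n : ℕ} (τ : Fin k → Equiv.Perm (Fin n)) (e : ℕ) (i : Fin k) : (τ ^ e) i = τ i ^ e := rfl

omit K in
theorem actS_pow {g : Y} (hg : g ∈ H) {τ : Fin k → Equiv.Perm (Fin (2 ^ m + 1))} (h : ActS V H R co g 1 τ) (e : ℕ) :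
    ActS V H R co (g ^ e) 1 (τ ^ e) := by
  induction e with
  | zero => rw [pow_zero, pow_zero]; exact actS_one
  | succ e ih => rw [pow_succ, pow_succ]; exact actS_mul1 hg ih h

/-- **the pairs of a block are disjoint** -/
theorem PI.uniq (hRH : R ≤ H) (hR2 : IsPGroup 2 R) {i : Fin k} {a b c : Fin (2 ^ m + 1)}
    (h1 : PI V H R co i a b) (h2 : PI V H R co i a c) : b = c := by
  by_contra hbc
  obtain ⟨hab, r, hr, hrt⟩ := h1
  obtain ⟨hac, s, hs, hst⟩ := h2
  have hx := actS_mul1 (hRH hs) hrt hst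
  obtain ⟨e, he⟩ := hR2 ⟨r * s, R.mul_mem hr hs⟩
  have he' : (r * s) ^ 2 ^ e = 1 := congrArg Subtype.val he
  have h3 := actS_pow (hRH (R.mul_mem hr hs)) hx (2 ^ e)
  rw [he'] at h3
  have h4 := (actS_unique K H.one_mem h3 actS_one).2
  have h5 : (Equiv.swap a b * Equiv.swap a c) ^ 2 ^ e = 1 := by
    have := congrFun h4 i
    rw [tp_pow, Pi.mul_apply, tp_self, tp_self] at this
    exact this
  have h6 := (Equiv.Perm.isThreeCycle_swap_mul_swap_same hab hac hbc).orderOf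
  have h7 := orderOf_dvd_of_pow_eq_one h5
  rw [h6] at h7
  have h8 := (Nat.Prime.dvd_of_dvd_pow Nat.prime_three h7)
  omega

/-- the image of a pair -/
theorem PI.map (hRH : R ≤ H) {r : Y} (hr : r ∈ R) {σ : Equiv.Perm (Fin k)} {τ : Fin k → Equiv.Perm (Fin (2 ^ m + 1))}
    (hrt : ActS V H R co r σ τ) {i : Fin k} {a b : Fin (2 ^ m + 1)} (h : PI V H R co i a b) :
    PI V H R co (σ i) (τ i a) (τ i b) := by
  obtain ⟨hab, s, hs, hst⟩ := h
  exact ⟨fun h => hab ((τ i).injective h), r * s * r⁻¹, R.mul_mem (R.mul_mem hr hs) (R.inv_mem hr),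
    actS_conj_tp (hRH hr) (hRH hs) hrt hst⟩

/-- the pairs contain all letters `≠ 0` -/
theorem exists_PI [Finite Y] (hRH : R ≤ H) (hS : ∃ P : Sylow 2 H, (P : Subgroup H) = R.subgroupOf H)
    (hne : ∃ i a b, PI V H R co i a b) (j : Fin k) {x : Fin (2 ^ m + 1)} (hx : x ≠ 0) : ∃ y, PI V H R co j x y := by
  obtain ⟨i, a, b, hp⟩ := hne
  obtain ⟨r, hr, σ, τ, h1, rfl, rfl⟩ := trans_pt K hRH hS (i := i) (j := j) (hp.ne0 K) hx
  exact ⟨_, hp.map K hRH hr h1⟩

/-- `R` is transitive on the pairs -/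
theorem trans_PI [Finite Y] (hRH : R ≤ H) (hR2 : IsPGroup 2 R)
    (hS : ∃ P : Sylow 2 H, (P : Subgroup H) = R.subgroupOf H) {i j : Fin k} {a b c d : Fin (2 ^ m + 1)}
    (h1 : PI V H R co i a b) (h2 : PI V H R co j c d) :
    ∃ r ∈ R, ∃ σ τ, ActS V H R co r σ τ ∧ σ i = j ∧ τ i a = c ∧ τ i b = d := by
  obtain ⟨r, hr, σ, τ, h3, rfl, rfl⟩ := trans_pt K hRH hS (i := i) (j := j) (h1.ne0 K) (h2.ne0 K)
  exact ⟨r, hr, σ, τ, h3, rfl, rfl, (h1.map K hRH hr h3).uniq K hRH hR2 h2⟩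

end pairs

section amal

variable [Finite Y] [Finite V] {U : Set (Subgroup Y)} {T : Sylow 2 Y} {M H R : Subgroup Y} {t : Y} {k m : ℕ}
  {co : V → Fin k → Fin (2 ^ m + 1) → ZMod 2} (amb : Amb V U T M) (a : Amal U T M H R t) (we : WE V U H R)
  (K : KSym V H R k m co)
include amb a we K

/-- the members `B ≤ R` act by disjoint transpositions of `R` -/
theorem off_member {B : Subgroup Y} (hB : B ∈ U) (hBR : B ≤ R) {b : Y} (hb : b ∈ B) :
    ∃ τ, ActS V H R co b 1 τ ∧ ∀ i x, τ i x ≠ x → ∃ c ∈ B, ActS V H R co c 1 (tp i x (τ i x)) := by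
  by_cases hBQ : B ≤ QQ H R
  · refine ⟨1, fun v hv i x => ?_, fun i x h => absurd rfl h⟩
    rw [Amal.QQ_fix a amb (hBQ hb) hv]; rfl
  · have h1 := a.exact' amb we hB (hBR.trans a.RH)
    rw [inf_comm (WW V H R), mul_comm (Nat.card ↥(WW V H R))] at h1
    obtain ⟨_, h3⟩ := K.off B hBR (Mem.elAb (amb.cls.mem B hB)) hBQ h1.le
    obtain ⟨τ, h4, h5⟩ := h3 b hb
    exact ⟨τ, h4, fun i x h => (h5 i x h).2⟩

/-- some member `B ≤ R` contains a transposition -/
theorem exists_tp : ∃ i x y, x ≠ y ∧ ∃ B ∈ U, B ≤ R ∧ ∃ c ∈ B, ActS V H R co c 1 (tp i x y) := by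
  obtain ⟨B, hB, hBR, hBQ⟩ := a.exists_not_QQ amb
  obtain ⟨b, hb, hbQ⟩ := SetLike.not_le_iff_exists.1 hBQ
  obtain ⟨τ, h1, h2⟩ := off_member amb a we K hB hBR hb
  by_contra hcon
  push Not at hcon
  apply hbQ
  have h3 : ∀ i x, τ i x = x := by
    intro i x
    by_contra h4
    obtain ⟨c, hc, h5⟩ := h2 i x h4
    exact hcon i x (τ i x) (Ne.symm h4) B hB hBR c hc h5
  rw [a.mem_QQ_iff amb (hBR hb)]
  intro w hw
  have h4 := smul_eq K (a.RH (hBR hb)) H.one_mem (by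
    intro w hw
    funext i x
    have h5 := h1 w hw i x
    rw [h3] at h5
    rw [one_smul]
    exact h5) w hw
  rw [h4, one_smul]

theorem ne_PI : ∃ i x y, PI V H R co i x y := by
  obtain ⟨i, x, y, hxy, B, _, hBR, c, hc, h1⟩ := exists_tp amb a we K
  exact ⟨i, x, y, hxy, c, hBR hc, h1⟩

theorem PI_uniq {i : Fin k} {x y z : Fin (2 ^ m + 1)} (h1 : PI V H R co i x y) (h2 : PI V H R co i x z) : y = z :=
  h1.uniq K a.RH a.R2 h2

theorem exists_PI' (j : Fin k) {x : Fin (2 ^ m + 1)} (hx : x ≠ 0) : ∃ y, PI V H R co j x y :=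
  exists_PI K a.RH a.exists_syl (ne_PI amb a we K) j hx

theorem trans_PI' {i j : Fin k} {x y z w : Fin (2 ^ m + 1)} (h1 : PI V H R co i x y) (h2 : PI V H R co j z w) :
    ∃ r ∈ R, ∃ σ τ, ActS V H R co r σ τ ∧ σ i = j ∧ τ i x = z ∧ τ i y = w :=
  trans_PI K a.RH a.R2 a.exists_syl h1 h2

/-- every transposition of `R` is induced by a member `≤ R` -/
theorem exists_member {i : Fin k} {x y : Fin (2 ^ m + 1)} (h : PI V H R co i x y) :
    ∃ B ∈ U, B ≤ R ∧ ∃ c ∈ B, ActS V H R co c 1 (tp i x y) := by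
  obtain ⟨j, z, w, hzw, B, hB, hBR, c, hc, h1⟩ := exists_tp amb a we K
  obtain ⟨r, hr, σ, τ, h2, rfl, rfl, rfl⟩ := trans_PI' amb a we K ⟨hzw, c, hBR hc, h1⟩ h
  refine ⟨MulAut.conj r • B, amb.cls.conj B hB r, ?_, r * c * r⁻¹, conj_mem_conj hc,
    actS_conj_tp (a.RH hr) (a.RH (hBR hc)) h2 h1⟩
  intro y hy
  rw [mem_conj] at hy
  have h3 := R.mul_mem (R.mul_mem hr (hBR hy)) (R.inv_mem hr)
  have e : r * (r⁻¹ * y * r) * r⁻¹ = y := by group
  rwa [e] at h3

/-- every transposition is induced by a member `≤ H` -/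
theorem exists_member_H (i : Fin k) {x y : Fin (2 ^ m + 1)} (hxy : x ≠ y) :
    ∃ B ∈ U, B ≤ H ∧ ∃ c ∈ B, ActS V H R co c 1 (tp i x y) := by
  obtain ⟨j, z, w, hzw, B, hB, hBR, c, hc, h1⟩ := exists_tp amb a we K
  obtain ⟨r, hr, σ, τ, h2, rfl⟩ := K.trans j i
  -- a permutation `τ z ↦ x`, `τ w ↦ y`
  obtain ⟨ρ, hρ1, hρ2⟩ : ∃ ρ : Equiv.Perm (Fin (2 ^ m + 1)), ρ (τ j z) = x ∧ ρ (τ j w) = y := by
    set u := Equiv.swap (τ j z) x (τ j w) with hu
    have hux : u ≠ x := by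
      intro h6
      have h7 : Equiv.swap (τ j z) x (τ j w) = Equiv.swap (τ j z) x (τ j z) := by
        rw [Equiv.swap_apply_left]; exact h6
      exact hzw ((τ j).injective ((Equiv.swap (τ j z) x).injective h7)).symm
    refine ⟨Equiv.swap u y * Equiv.swap (τ j z) x, ?_, ?_⟩
    · rw [Equiv.Perm.mul_apply, Equiv.swap_apply_left, Equiv.swap_apply_of_ne_of_ne hux.symm hxy]
    · rw [Equiv.Perm.mul_apply, ← hu, Equiv.swap_apply_left]
  obtain ⟨g, hg, hgt, _⟩ := K.lift fun _ => ρ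
  have h3 := actS_mul K (a.RH hr) hgt h2
  have hgr : g * r ∈ H := H.mul_mem hg (a.RH hr)
  have h4 := actS_conj_tp hgr (a.RH (hBR hc)) h3 h1
  refine ⟨MulAut.conj (g * r) • B, amb.cls.conj B hB _, ?_, _, conj_mem_conj hc, ?_⟩
  · intro y hy
    rw [mem_conj] at hy
    have h3 := H.mul_mem (H.mul_mem hgr (a.RH (hBR hy))) (H.inv_mem hgr)
    have e : g * r * ((g * r)⁻¹ * y * (g * r)) * (g * r)⁻¹ = y := by group
    rwa [e] at h3
  · rw [Equiv.Perm.mul_apply, Equiv.Perm.mul_apply, hρ1, Equiv.Perm.mul_apply, hρ2] at h4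
    exact h4

/-- a vector fixed by a transposition is constant on its letters -/
theorem const_of_fix {g : Y} {i : Fin k} {x y : Fin (2 ^ m + 1)} (hgt : ActS V H R co g 1 (tp i x y)) {w : V}
    (hw : w ∈ WW V H R) (h : g • w = w) : co w i x = co w i y := by
  have h1 := hgt w hw i x
  rw [h, tp_self, Equiv.swap_apply_left] at h1
  exact h1.symm

/-- **`D0` in coordinates** -/
theorem mem_D0 {w : V} : w ∈ D0 V U H R ↔ w ∈ WW V H R ∧ co w = 0 := by
  constructor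
  · rintro ⟨hw, h1⟩
    refine ⟨hw, ?_⟩
    have h2 : ∀ i x, co w i x = co w i 0 := by
      intro i x
      by_cases hx : x = 0
      · rw [hx]
      obtain ⟨B, hB, hBH, c, hc, h3⟩ := exists_member_H amb a we K i hx
      exact const_of_fix amb a we K h3 hw (h1 B hB hBH c hc)
    have h3 : ∀ i, co w i 0 = 0 := by
      intro i
      have h4 := K.even w hw i
      rw [Finset.sum_congr rfl fun x _ => h2 i x, Finset.sum_const, Finset.card_univ, Fintype.card_fin,
        nsmul_eq_mul] at h4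
      have h5 : ((2 ^ m + 1 : ℕ) : ZMod 2) = 1 := by
        have h6 : (2 : ZMod 2) = 0 := by decide
        rw [Nat.cast_add, Nat.cast_pow, Nat.cast_ofNat, h6, zero_pow (by have := K.two_le; omega), Nat.cast_one,
          zero_add]
      rwa [h5, one_mul] at h4
    funext i x
    rw [h2, h3]; rfl
  · rintro ⟨hw, h0⟩
    refine ⟨hw, fun B hB hBH b hb => ?_⟩
    obtain ⟨x, hx, hxU, hxR⟩ := a.exists_conj amb hB hBH
    obtain ⟨τ, h1, _⟩ := off_member amb a we K hxU hxR (conj_mem_conj hb)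
    have h2 := trD_of K (a.RH (hxR (conj_mem_conj hb))) h1 (x • w) (smul_mem_WW hx hw) (by
      obtain ⟨σ, τ, h3⟩ := K.perm x hx
      funext i y
      have h4 := h3 w hw (σ⁻¹ i) ((τ (σ⁻¹ i))⁻¹ y)
      rw [papp, papp, h0] at h4
      exact h4)
    rw [mul_smul, mul_smul, inv_smul_smul] at h2
    exact (smul_left_cancel_iff x).1 h2

/-- the vectors with zero coordinates are fixed by the elements of `R` acting by `(1, τ)`... and by members -/
theorem fix_of_D0 {w : V} (hw : w ∈ WW V H R) (h0 : co w = 0) {B : Subgroup Y} (hB : B ∈ U) (hBH : B ≤ H) {b : Y}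
    (hb : b ∈ B) : b • w = w := ((mem_D0 amb a we K).2 ⟨hw, h0⟩).2 B hB hBH b hb

end amal

end Cfsg.Agent.Omega.NO1.TH.K.SI
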