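import Cfsg.Agent.Omega.NO1.TH.K.SAbg
import Cfsg.Agent.Omega.NO1.TH.K.SIPI

/-!
# N1, BETA, `S_n` type: `PrsS` from helper389's `SIPI`

`PI_iff` : the two definitions of the pairs agree; `prs_of` : `PrsS`.
`TwoS.gg'`, `e_SK'`, ... : (g), (e) without the hypothesis `PrsS`.
-/

set_option autoImplicit false
set_option linter.unusedSectionVars false
set_option linter.dupNamespace false

namespace Cfsg.Agent.Omega.NO1.TH.K

open Subgroup Cfsg.Agent.Omega.NO1.AB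
open scoped Pointwise

universe u

variable {Y : Type u} [Group Y] {V : Type u} [AddCommGroup V] [DistribMulAction Y V]

/-- the two definitions of the pairs agree -/
theorem PI_iff {H R : Subgroup Y} {k m : ℕ} {co : V → Fin k → Fin (2 ^ m + 1) → ZMod 2} (K : KSym V H R k m co)
    (hRH : R ≤ H) {i : Fin k} {x y : Fin (2 ^ m + 1)} : PI V H R co i x y ↔ SI.PI V H R co i x y := by
  constructor
  · rintro ⟨h1, r, hr, h2, _⟩
    exact ⟨h1, r, hr, h2⟩
  · rintro ⟨h1, r, hr, h2⟩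
    exact ⟨h1, r, hr, h2, SI.trD_of K (hRH hr) h2⟩

variable [Finite Y] [Finite V] {U : Set (Subgroup Y)} {T : Sylow 2 Y} {M H R : Subgroup Y} {t : Y} {k m : ℕ}

theorem prs_of {co : V → Fin k → Fin (2 ^ m + 1) → ZMod 2} (amb : Amb V U T M) (a : Amal U T M H R t)
    (we : WE V U H R) (K : KSym V H R k m co) : PrsS V H R co where
  partner := fun i x hx => by
    obtain ⟨y, hy⟩ := SI.exists_PI' amb a we K i hx
    exact ⟨y, (PI_iff K a.RH).2 hy⟩
  uniq := fun i x y z h1 h2 => SI.PI_uniq amb a we K ((PI_iff K a.RH).1 h1) ((PI_iff K a.RH).1 h2)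
  trans := fun i j x y x' y' h1 h2 => by
    obtain ⟨r, hr, σ, τ, h3, h4, h5, h6⟩ := SI.trans_PI' amb a we K ((PI_iff K a.RH).1 h1) ((PI_iff K a.RH).1 h2)
    exact ⟨r, hr, σ, τ, h3, h4, Or.inl ⟨h5, h6⟩⟩

namespace TwoS

variable {H' : Subgroup Y} {co co' : V → Fin k → Fin (2 ^ m + 1) → ZMod 2} (h : TwoS V U T M H H' R k m co co' t)
include h

theorem prs : PrsS V H R co := prs_of h.amb h.a h.we h.K

/-- (g), in the form of `TwoS.d` -/
theorem gg_d {A : Subgroup Y} (hA : A ∈ U) (hAH : A ≤ H) (hO : OppS V M H R co A) :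
    ∀ w, w ∉ Ee V A → ∀ s ∈ A, s • w + w ∈ WW V H R ⊔ fx V A →
      s ∈ QQ H R ∧ ∀ y ∈ WW V H' R, y ∈ Ee V A → s • y = y :=
  fun w hw s hs h1 => ⟨h.pre hA hAH w hw s hs h1, fun _ hy hyE => (h.gg h.prs hA hAH hO hw hy hyE).2 s hs h1⟩

/-- (e), `S_X ≤ K` -/
theorem e_SK_all {A : Subgroup Y} (hA : A ∈ U) (hAH : A ≤ H) (hO : OppS V M H R co A) (hE : WW V H' R ≤ Ee V A) :
    ∀ w, w ∉ Ee V A → ∀ s ∈ A, s • w + w ∈ WW V H R ⊔ WW V H' R ⊔ fx V A → s ∈ QQ H R ∧ s ∈ QQ H' R :=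
  fun w hw s hs h1 => h.e_SK h.prs hA hAH hO hE w hw s hs h1

end TwoS

end Cfsg.Agent.Omega.NO1.TH.K
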