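import Cfsg.Agent.Omega.NO1.TH.K.SOpp
import Cfsg.Agent.Omega.NO1.TH.K.SPrs

/-!
# N1, `S_n` type: opposite members exist (bb OMEGA 21465 (1), 22346, 22689)

`KSym.exists_oppS`, `KSym.exists_opp`, `TwoS.exists_oppS` : opposite members exist.
-/

set_option autoImplicit false
set_option linter.unusedSectionVars false
set_option linter.dupNamespace false

namespace Cfsg.Agent.Omega.NO1.TH.K

open Subgroup Cfsg.Agent.Omega.NO1.AB
open scoped Pointwise

universe u

variable {Y : Type u} [Group Y] {V : Type u} [AddCommGroup V] [DistribMulAction Y V]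
variable [Finite Y] [Finite V] {U : Set (Subgroup Y)} {T : Sylow 2 Y} {M H R : Subgroup Y} {t : Y} {k m : ℕ}
  {co : V → Fin k → Fin (2 ^ m + 1) → ZMod 2}

/-- **opposite conjugates exist** -/
theorem KSym.exists_oppS (K : KSym V H R k m co) (amb : Amb V U T M) (a : Amal U T M H R t) (we : WE V U H R)
    {B : Subgroup Y} (hB : B ∈ U) (hBR : B ≤ R) (hBQ : ¬ B ≤ QQ H R) :
    ∃ x ∈ H, OppS V M H R co (MulAut.conj x • B) := by
  have p := prs_of amb a we K
  exact exists_oppS_aux K amb a we p.partner p.uniq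
    (fun i x j y hx hy => SI.trans_pt K a.RH a.exists_syl hx hy) hB hBR hBQ

/-- **opposite members exist** -/
theorem KSym.exists_opp (K : KSym V H R k m co) (amb : Amb V U T M) (a : Amal U T M H R t) (we : WE V U H R) :
    ∃ A ∈ U, A ≤ H ∧ OppS V M H R co A := by
  obtain ⟨B, hB, hBR, hBQ⟩ := a.exists_not_QQ amb
  obtain ⟨x, hx, h1⟩ := K.exists_oppS amb a we hB hBR hBQ
  refine ⟨_, amb.cls.conj B hB x, ?_, h1⟩
  intro y hy
  rw [mem_conj] at hy
  have h3 := H.mul_mem (H.mul_mem hx (a.RH (hBR hy))) (H.inv_mem hx)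
  have e : x * (x⁻¹ * y * x) * x⁻¹ = y := by group
  rwa [e] at h3

variable {H' : Subgroup Y} {co' : V → Fin k → Fin (2 ^ m + 1) → ZMod 2}

/-- **opposite members exist** -/
theorem TwoS.exists_oppS (h : TwoS V U T M H H' R k m co co' t) : ∃ A ∈ U, A ≤ H ∧ OppS V M H R co A :=
  h.K.exists_opp h.amb h.a h.we

end Cfsg.Agent.Omega.NO1.TH.K
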