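import Cfsg.Agent.Omega.NO1.TH.K.SDEnd
import Cfsg.Agent.Omega.NO1.TH.K.SLIn
import Cfsg.Agent.Omega.NO1.TH.K.SOppM
import Cfsg.Agent.Omega.NO1.TH.OutF

/-!
# N1, `S_n` type: the socket

`TwoS.false` : the `S_n` type does not occur; `sockSym` : `SockSym Out` for every `Out`.
-/

set_option autoImplicit false
set_option linter.unusedSectionVars false
set_option linter.dupNamespace false

namespace Cfsg.Agent.Omega.NO1.TH.K

open Subgroup Cfsg.Agent.Omega.NO1.AB Cfsg.Agent.Omega.FFBr
open scoped Pointwise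

universe u

/-- **`S_n` type is impossible**: an opposite member `A ≤ H` has `W' ≤ E_A` (`le_of_opp`) and `W' ≰ E_A`
(`not_WE'`) -/
theorem TwoS.false {Y : Type u} [Group Y] [Finite Y] {V : Type u} [AddCommGroup V] [Finite V]
    [DistribMulAction Y V] {U : Set (Subgroup Y)} {T : Sylow 2 Y} {M H H' R : Subgroup Y} {k m : ℕ}
    {co co' : V → _root_.Fin k → _root_.Fin (2 ^ m + 1) → ZMod 2} {t : Y} {a : ℕ} (w : World V U T M a)
    (h : TwoS V U T M H H' R k m co co' t) : False := by
  obtain ⟨A, hA, hAH, hO⟩ := h.exists_oppS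
  exact h.not_WE' hA hAH hO (h.le_of_opp w hA hAH hO)

end Cfsg.Agent.Omega.NO1.TH.K

namespace Cfsg.Agent.Omega.NO1.TH

open Subgroup Cfsg.Agent.Omega.NO1.AB Cfsg.Agent.Omega.FFBr

universe u

/-- **the socket of the symmetric groups** -/
theorem sockSym_of (Out : OutT.{u}) : SockSym Out := by
  intro Y V _ _ _ _ _ U T M a w H R t am we P M₁ hA hP hno k m hk hm N
  obtain ⟨co, h⟩ := K.exists_twoS w.toAmb am we hA hP hno hk hm N
  exact (h.false w).elim

/-- **the socket `SockSym`** -/
theorem sockSym : SockSym OutF.{u} := sockSym_of _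

end Cfsg.Agent.Omega.NO1.TH
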