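import Cfsg.Agent.Omega.NO1.TH.K.Def

/-!
# N1, natural type, `k` factors: supports and opposite members (bb OMEGA 20646 (a), (c))

`Supp B I` : `B` acts on `W` as the product of the root groups `R_i`, `i ∈ I`;  `Opp B I` : as the product of the
opposite root groups.  For a member `B ≤ R`, `B ≰ Q`: `exists_supp`, `Supp.fx_iff`, `Supp.card`; `exists_opp`.
`mem_Q_of_shift` : (a) of #20646.
-/

set_option autoImplicit false
set_option linter.unusedSectionVars false
set_option linter.dupNamespace false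

namespace Cfsg.Agent.Omega.NO1.TH.K

open Subgroup Cfsg.Agent.Omega.NO1.AB Cfsg.Agent.Omega.FFBr Cfsg.Agent.Lib.SL2Mat
open Cfsg.Agent.Omega.NatPair (ap)
open scoped Pointwise

universe u

theorem ap_up {F : Type} [Field F] (b : F) (x : Fin 2 → F) : ap (up b) x = ![x 0 + b * x 1, x 1] := by
  apply NatPair.ext2
  · rw [NatPair.ap_zero', up_00, up_01, one_mul]; rfl
  · rw [NatPair.ap_one', up_10, up_11, zero_mul, zero_add, one_mul]; rfl

theorem ap_lo {F : Type} [Field F] (b : F) (x : Fin 2 → F) : ap (lo b) x = ![x 0, b * x 0 + x 1] := by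
  apply NatPair.ext2
  · rw [NatPair.ap_zero', lo_00, lo_01, zero_mul, add_zero, one_mul]; rfl
  · rw [NatPair.ap_one', lo_10, lo_11, one_mul]; rfl

variable {Y : Type u} [Group Y] {V : Type u} [AddCommGroup V] [DistribMulAction Y V]

section coords

variable {H R : Subgroup Y} {F : Type} [Field F] {k : ℕ} {co : V → Fin k → Fin 2 → F}

/-- `B` acts on `W` as the full product of the root groups `R_i`, `i ∈ I` -/
structure Supp (V : Type u) [AddCommGroup V] [DistribMulAction Y V] (H R : Subgroup Y) {F : Type} [Field F] {k : ℕ}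
    (co : V → Fin k → Fin 2 → F) (B : Subgroup Y) (I : Set (Fin k)) : Prop where
  act : ∀ u ∈ B, ∃ b : Fin k → F, (∀ i, i ∉ I → b i = 0) ∧ Acts V H R co u fun i => up (b i)
  full : ∀ b : Fin k → F, (∀ i, i ∉ I → b i = 0) → ∃ u ∈ B, Acts V H R co u fun i => up (b i)

/-- `B` acts on `W` as the full product of the opposite root groups, `i ∈ I` -/
structure Opp (V : Type u) [AddCommGroup V] [DistribMulAction Y V] (H R : Subgroup Y) {F : Type} [Field F] {k : ℕ}
    (co : V → Fin k → Fin 2 → F) (B : Subgroup Y) (I : Set (Fin k)) : Prop where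
  act : ∀ u ∈ B, ∃ b : Fin k → F, (∀ i, i ∉ I → b i = 0) ∧ Acts V H R co u fun i => lo (b i)
  full : ∀ b : Fin k → F, (∀ i, i ∉ I → b i = 0) → ∃ u ∈ B, Acts V H R co u fun i => lo (b i)

theorem Acts.up_fst {g : Y} {b : Fin k → F} (h : Acts V H R co g fun i => up (b i)) {v : V} (hv : v ∈ WW V H R)
    (i : Fin k) : co (g • v) i 0 = co v i 0 + b i * co v i 1 := by
  rw [h.1 v hv i, ap_up]; rfl

theorem Acts.up_snd {g : Y} {b : Fin k → F} (h : Acts V H R co g fun i => up (b i)) {v : V} (hv : v ∈ WW V H R)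
    (i : Fin k) : co (g • v) i 1 = co v i 1 := by
  rw [h.1 v hv i, ap_up]; rfl

theorem Acts.lo_fst {g : Y} {b : Fin k → F} (h : Acts V H R co g fun i => lo (b i)) {v : V} (hv : v ∈ WW V H R)
    (i : Fin k) : co (g • v) i 0 = co v i 0 := by
  rw [h.1 v hv i, ap_lo]; rfl

theorem Acts.lo_snd {g : Y} {b : Fin k → F} (h : Acts V H R co g fun i => lo (b i)) {v : V} (hv : v ∈ WW V H R)
    (i : Fin k) : co (g • v) i 1 = b i * co v i 0 + co v i 1 := by
  rw [h.1 v hv i, ap_lo]; rfl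

theorem Acts.up_mul {g h : Y} {b c : Fin k → F} (hh : h ∈ H) (h1 : Acts V H R co g fun i => up (b i))
    (h2 : Acts V H R co h fun i => up (c i)) : Acts V H R co (g * h) fun i => up (b i + c i) := by
  have h3 := h1.mul hh h2
  have e : ((fun i => up (b i)) * fun i => up (c i)) = fun i => up (b i + c i) := by
    funext i
    exact Cfsg.Agent.Lib.SL2Mat.up_mul _ _
  rwa [e] at h3

namespace KNat

variable (K : KNat V H R F k co)
include K

theorem zero : co 0 = 0 := by
  have h := K.add 0 (zero_mem _) 0 (zero_mem _)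
  rw [add_zero] at h
  exact left_eq_add.1 h

theorem add_apply {v w : V} (hv : v ∈ WW V H R) (hw : w ∈ WW V H R) (i : Fin k) (j : Fin 2) :
    co (v + w) i j = co v i j + co w i j := by
  rw [K.add v hv w hw]; rfl

theorem neg {v : V} (hv : v ∈ WW V H R) : co (-v) = - co v := by
  have h := K.add v hv (-v) (neg_mem hv)
  rw [add_neg_cancel, K.zero] at h
  exact (neg_eq_of_add_eq_zero_right h.symm).symm

theorem exists_at (i : Fin k) (x : Fin 2 → F) : ∃ v ∈ WW V H R, co v i = x ∧ ∀ j, j ≠ i → co v j = 0 := by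
  obtain ⟨v, hv, h⟩ := K.surj (Function.update 0 i x)
  refine ⟨v, hv, ?_, fun j hj => ?_⟩
  · rw [h, Function.update_self]
  · rw [h, Function.update_of_ne hj]; rfl

theorem up_inj {g : Y} {b c : Fin k → F} (h1 : Acts V H R co g fun i => up (b i))
    (h2 : Acts V H R co g fun i => up (c i)) : b = c := by
  funext i
  obtain ⟨v, hv, hvi, _⟩ := K.exists_at i ![0, 1]
  have h3 := h1.up_fst hv i
  rw [h2.up_fst hv i, hvi] at h3
  simpa using h3.symm

theorem ff (two : ∀ v : V, v + v = 0) (i : Fin k) (x : F) : x + x = 0 := by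
  obtain ⟨v, hv, hvi, _⟩ := K.exists_at i ![x, 0]
  have h := K.add_apply hv hv i 0
  rw [two, K.zero, hvi] at h
  simpa using h.symm

theorem co_add_self (two : ∀ v : V, v + v = 0) {v w : V} (hv : v ∈ WW V H R) (hw : w ∈ WW V H R)
    (h : co v = co w) : co (v + w) = 0 := by
  rw [K.add v hv w hw, h, ← K.add w hw w hw, two, K.zero]

theorem co_eq_of_add (two : ∀ v : V, v + v = 0) {v w : V} (hv : v ∈ WW V H R) (hw : w ∈ WW V H R)
    (h : co (v + w) = 0) : co v = co w := by
  have h1 := K.add (v + w) (add_mem hv hw) w hw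
  rw [add_assoc, two, add_zero, h, zero_add] at h1
  exact h1

/-- an element of `H` acting as `1` is trivial on `W` -/
theorem fix_of_one {x : Y} (h : Acts V H R co x fun _ => 1) (hx : x ∈ H) {w : V} (hw : w ∈ WW V H R) : x • w = w := by
  apply K.trivH x hx _ w hw
  intro w hw
  funext i
  rw [h.1 w hw i, NatPair.ap_one]

theorem mem_Q_of_up_zero (two : ∀ v : V, v + v = 0) (hRH : R ≤ H) {x : Y} (hx : x ∈ R) {b : Fin k → F}
    (h : Acts V H R co x fun i => up (b i)) (hb : ∀ i, b i = 0) : x ∈ QQ H R := by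
  apply K.triv x hx
  intro w hw
  apply K.co_add_self two (smul_mem_WW (hRH hx) hw) hw
  funext i
  rw [h.1 w hw i]
  simp only [hb, up_zero, NatPair.ap_one]

/-- `A ≤ R` elementary abelian and exact: `A` has a support -/
theorem exists_supp_of (two : ∀ v : V, v + v = 0) (hRH : R ≤ H) {A : Subgroup Y} (hAR : A ≤ R) (hel : ElAb A)
    (hAQ : ¬ A ≤ QQ H R)
    (hex : Nat.card ↥(A ⊓ QQ H R) * Nat.card ↥(WW V H R) ≤ Nat.card A * Nat.card ↥(fx V A ⊓ WW V H R)) :
    ∃ I : Set (Fin k), I.Nonempty ∧ Supp V H R co A I := by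
  obtain ⟨I, h1, h2⟩ := K.off A hAR hel hAQ hex
  refine ⟨I, ?_, ⟨h1, h2⟩⟩
  by_contra hI
  rw [Set.not_nonempty_iff_eq_empty] at hI
  subst hI
  apply hAQ
  intro x hx
  obtain ⟨b, hb, hbx⟩ := h1 x hx
  exact K.mem_Q_of_up_zero two hRH (hAR hx) hbx fun i => hb i (by simp)

/-- `D₀ ∩ C(R) ≤ C(H)` -/
theorem D_fix (hRH : R ≤ H) {w : V} (hw : w ∈ WW V H R) (h0 : co w = 0) (hR : ∀ r ∈ R, r • w = w) :
    ∀ x ∈ H, x • w = w := by
  have h1 := K.gen (H ⊓ MulAction.stabilizer Y w) (le_inf hRH fun r hr => hR r hr) inf_le_left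
    fun h hh A hA => ⟨hh, hA.2 w hw h0⟩
  intro x hx
  rw [← h1] at hx
  exact hx.2

end KNat

/-- the cut by the second coordinates in `I` -/
def cut (K : KNat V H R F k co) (I : Set (Fin k)) (j : Fin 2) : AddSubgroup V where
  carrier := {w | w ∈ WW V H R ∧ ∀ i ∈ I, co w i j = 0}
  add_mem' := fun {v w} hv hw => ⟨add_mem hv.1 hw.1, fun i hi => by
    rw [K.add_apply hv.1 hw.1, hv.2 i hi, hw.2 i hi, add_zero]⟩
  zero_mem' := ⟨zero_mem _, fun i _ => by rw [K.zero]; rfl⟩
  neg_mem' := fun {v} hv => ⟨neg_mem hv.1, fun i hi => by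
    rw [K.neg hv.1]
    change -(co v i j) = 0
    rw [hv.2 i hi, neg_zero]⟩

theorem mem_cut {K : KNat V H R F k co} {I : Set (Fin k)} {j : Fin 2} {w : V} :
    w ∈ cut K I j ↔ w ∈ WW V H R ∧ ∀ i ∈ I, co w i j = 0 := Iff.rfl

theorem card_cut [Finite V] (K : KNat V H R F k co) (I : Set (Fin k)) (j : Fin 2) :
    Nat.card ↥(WW V H R) = Nat.card ↥(cut K I j) * Nat.card (I → F) := by
  let f : ↥(WW V H R) →+ (I → F) :=
    { toFun := fun w i => co w i j
      map_zero' := by
        funext i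
        change co (0 : V) i j = 0
        rw [K.zero]; rfl
      map_add' := fun v w => by
        funext i
        exact K.add_apply v.2 w.2 i j }
  have hs : Function.Surjective f := by
    intro x
    classical
    obtain ⟨v, hv, h⟩ := K.surj fun i _ => if h : i ∈ I then x ⟨i, h⟩ else 0
    refine ⟨⟨v, hv⟩, ?_⟩
    funext i
    change co v i j = x i
    rw [h]
    exact dif_pos i.2
  have h1 := f.ker.card_mul_index
  rw [AddSubgroup.index_ker, AddMonoidHom.range_eq_top.2 hs] at h1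
  have h2 : Nat.card f.ker = Nat.card ↥(cut K I j) := by
    refine Nat.card_congr
      { toFun := fun w => ⟨w.1, w.1.2, fun i hi => congrFun (show f w.1 = 0 from w.2) ⟨i, hi⟩⟩
        invFun := fun w => ⟨⟨w.1, w.2.1⟩, ?_⟩
        left_inv := fun w => rfl
        right_inv := fun w => rfl }
    change f ⟨w.1, w.2.1⟩ = 0
    funext i
    exact w.2.2 i i.2
  rw [← h1, h2]
  congr 1
  exact (Nat.card_congr (AddSubgroup.topEquiv (G := I → F)).toEquiv)

/-- `|A| = |A ∩ Q| |F|^|I|` -/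
theorem Supp.card [Finite Y] [Finite V] (K : KNat V H R F k co) (two : ∀ v : V, v + v = 0) (hRH : R ≤ H)
    (hQ : ∀ q ∈ QQ H R, ∀ w ∈ WW V H R, q • w = w) {A : Subgroup Y} {I : Set (Fin k)} (hAR : A ≤ R)
    (hS : Supp V H R co A I) : Nat.card A = Nat.card ↥(A ⊓ QQ H R) * Nat.card (I → F) := by
  choose! β hβ0 hβ using hS.act
  let f : A →* Multiplicative (I → F) :=
    { toFun := fun u => Multiplicative.ofAdd fun i => β u i
      map_one' := by
        have h1 : β ((1 : A) : Y) = 0 := K.up_inj (hβ _ (1 : A).2) (by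
          refine ⟨fun v _ i => ?_, fun d _ _ => one_smul Y d⟩
          change co ((1 : Y) • v) i = ap (up ((0 : Fin k → F) i)) (co v i)
          rw [one_smul, Pi.zero_apply, up_zero, NatPair.ap_one])
        apply congrArg Multiplicative.ofAdd
        funext i
        rw [h1]; rfl
      map_mul' := fun x y => by
        have h1 : β ((x * y : A) : Y) = fun i => β x i + β y i :=
          K.up_inj (hβ _ (x * y).2) ((hβ _ x.2).up_mul (hRH (hAR y.2)) (hβ _ y.2))
        apply congrArg Multiplicative.ofAdd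
        funext i
        rw [h1]; rfl }
  have hs : Function.Surjective f := by
    intro x
    classical
    obtain ⟨u, hu, h⟩ := hS.full (fun i => if h : i ∈ I then Multiplicative.toAdd x ⟨i, h⟩ else 0)
      fun i hi => dif_neg hi
    refine ⟨⟨u, hu⟩, ?_⟩
    apply Multiplicative.toAdd.injective
    funext i
    change β u i = _
    rw [K.up_inj (hβ u hu) h]
    exact dif_pos i.2
  have h2 : f.ker.map A.subtype = A ⊓ QQ H R := by
    ext x
    constructor
    · rintro ⟨u, hu, rfl⟩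
      refine ⟨u.2, ?_⟩
      have h3 : f u = 1 := hu
      apply K.mem_Q_of_up_zero two hRH (hAR u.2) (hβ _ u.2)
      intro i
      by_cases hi : i ∈ I
      · exact congrFun (congrArg Multiplicative.toAdd h3) ⟨i, hi⟩
      · exact hβ0 u u.2 i hi
    · rintro ⟨h3, h4⟩
      refine ⟨⟨x, h3⟩, ?_, rfl⟩
      have h5 : β x = 0 := K.up_inj (hβ x h3) (by
          refine ⟨fun v hv i => ?_, fun d hd _ => hQ x h4 d hd⟩
          change co (x • v) i = ap (up ((0 : Fin k → F) i)) (co v i)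
          rw [hQ x h4 v hv, Pi.zero_apply, up_zero, NatPair.ap_one])
      change f ⟨x, h3⟩ = 1
      apply Multiplicative.toAdd.injective
      funext i
      change β x i = 0
      rw [h5]; rfl
  rw [← h2, Nat.card_congr (f.ker.equivMapOfInjective _ A.subtype_injective).symm.toEquiv]
  have h3 := f.ker.card_mul_index
  rw [index_ker, MonoidHom.range_eq_top.2 hs] at h3
  rw [← h3]
  congr 1
  exact Nat.card_congr ((Subgroup.topEquiv (G := Multiplicative (I → F))).toEquiv.trans Multiplicative.toAdd)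

/-- `C_W(A)` for `A` with support `I` and exact -/
theorem Supp.fx_iff [Finite Y] [Finite V] [Finite F] (K : KNat V H R F k co) (two : ∀ v : V, v + v = 0) (hRH : R ≤ H)
    (hQ : ∀ q ∈ QQ H R, ∀ w ∈ WW V H R, q • w = w) {A : Subgroup Y} {I : Set (Fin k)} (hAR : A ≤ R)
    (hS : Supp V H R co A I)
    (hex : Nat.card ↥(A ⊓ QQ H R) * Nat.card ↥(WW V H R) ≤ Nat.card A * Nat.card ↥(fx V A ⊓ WW V H R)) {w : V}
    (hw : w ∈ WW V H R) : w ∈ fx V A ↔ ∀ i ∈ I, co w i 1 = 0 := by
  have h1 : fx V A ⊓ WW V H R ≤ cut K I 1 := by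
    rintro v ⟨h2, h3⟩
    refine ⟨h3, fun i hi => ?_⟩
    classical
    obtain ⟨u, hu, h4⟩ := hS.full (Pi.single i 1) fun j hj => by
      rw [Pi.single_eq_of_ne]
      rintro rfl
      exact hj hi
    have h5 := h4.up_fst h3 i
    rw [h2 u hu, Pi.single_eq_same, one_mul] at h5
    exact left_eq_add.1 h5
  have h2 : fx V A ⊓ WW V H R = cut K I 1 := by
    apply eq_of_le_as h1
    have h3 := card_cut K I 1
    have h4 := hS.card K two hRH hQ hAR
    rw [h3, h4] at hex
    have h5 : 0 < Nat.card ↥(A ⊓ QQ H R) := Nat.card_pos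
    have h6 : 0 < Nat.card (I → F) := Nat.card_pos
    apply Nat.le_of_mul_le_mul_left _ (Nat.mul_pos h5 h6)
    calc _ = Nat.card ↥(A ⊓ QQ H R) * (Nat.card ↥(cut K I 1) * Nat.card (I → F)) := by ring
      _ ≤ _ := hex
      _ = _ := by ring
  constructor
  · intro h3
    exact (h1 ⟨h3, hw⟩).2
  · intro h3
    have h4 : w ∈ cut K I 1 := ⟨hw, h3⟩
    rw [← h2] at h4
    exact h4.1

/-! ### (a) : `s_x ∈ Q` -/

theorem shift_mul (two : ∀ v : V, v + v = 0) {B : Subgroup Y} (hm : Mem B (Ee V B) (fx V B)) {w x y : V} {s s' : Y}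
    (hs : s ∈ B) (hs' : s' ∈ B) (h1 : s • w + w + x ∈ fx V B) (h2 : s' • w + w + y ∈ fx V B) :
    (s * s') • w + w + (x + y) ∈ fx V B := by
  have h3 : s • (s' • w + w) + (s' • w + w) ∈ fx V B := hm.EB s hs _ (hm.VB s' hs' w)
  have e : (s * s') • w + w + (x + y) =
      (s • (s' • w + w) + (s' • w + w)) + (s • w + w + x) + (s' • w + w + y) := by
    rw [mul_smul, smul_add]
    have e1 : s • s' • w + s • w + (s' • w + w) + (s • w + w + x) + (s' • w + w + y) =
        s • s' • w + w + (x + y) + (s • w + s • w) + (s' • w + s' • w) + (w + w) := by abel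
    rw [e1, two, two, two, add_zero, add_zero, add_zero]
  rw [e]
  exact add_mem (add_mem h3 h1) h2

theorem shift_R (K : KNat V H R F k co) (two : ∀ v : V, v + v = 0) (hRH : R ≤ H) {B : Subgroup Y}
    (hm : Mem B (Ee V B) (fx V B)) (hBR : B ≤ R) {I : Set (Fin k)} (hS : Supp V H R co B I)
    (hW : WW V H R ≤ Ee V B) {w x : V} (hw : w ∉ Ee V B) (hx : x ∈ WW V H R) {s : Y} (hs : s ∈ B)
    (h1 : s • w + w + x ∈ fx V B) : s ∈ QQ H R := by
  obtain ⟨b, hb0, hb⟩ := hS.act s hs
  apply K.mem_Q_of_up_zero two hRH (hBR hs) hb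
  -- the key: `x_{i1} ≠ 0` implies `b_i = 0`
  have key : ∀ {x : V} {s : Y} {b : Fin k → F}, x ∈ WW V H R → s ∈ B → s • w + w + x ∈ fx V B →
      (Acts V H R co s fun i => up (b i)) → ∀ i, co x i 1 ≠ 0 → b i = 0 := by
    intro x s b hx hs h1 hb i hi
    have h2 := Amal.smul_self_of hm hs h1
    have h3 := hb.up_fst hx i
    rw [h2] at h3
    rcases mul_eq_zero.1 (left_eq_add.1 h3) with h4 | h4
    · exact h4
    · exact absurd h4 hi
  intro i
  by_cases hi : co x i 1 = 0
  · obtain ⟨y, hy, hyi, _⟩ := K.exists_at i ![0, 1]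
    have hy1 : co y i 1 ≠ 0 := by
      rw [hyi]
      change (1 : F) ≠ 0
      exact one_ne_zero
    obtain ⟨s', hs', h2⟩ := hm.surj w hw y (hW hy)
    obtain ⟨b', hb0', hb'⟩ := hS.act s' hs'
    have h3 := key hy hs' h2 hb' i hy1
    have h4 := key (add_mem hx hy) (B.mul_mem hs hs') (shift_mul two hm hs hs' h1 h2)
      (hb.up_mul (hRH (hBR hs')) hb') i (by
        rw [K.add_apply hx hy, hi, zero_add]
        exact hy1)
    rw [h3, add_zero] at h4
    exact h4
  · exact key hx hs h1 hb i hi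

/-! ### Opposite members -/

theorem Acts.inv {h : Y} {A : Fin k → Matrix.SpecialLinearGroup (Fin 2) F} (hh : h ∈ H)
    (hA : Acts V H R co h A) : Acts V H R co h⁻¹ fun i => (A i)⁻¹ := by
  refine ⟨fun v hv i => ?_, fun d hd h0 => ?_⟩
  · have h1 := hA.1 _ (smul_mem_WW (H.inv_mem hh) hv) i
    rw [smul_inv_smul] at h1
    rw [h1, NatPair.ap_inv_ap]
  · rw [inv_smul_eq_iff, hA.2 d hd h0]

theorem wm_up_wm (b : F) : wm (1 : F) one_ne_zero * up (-b) * (wm (1 : F) one_ne_zero)⁻¹ = lo b := by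
  rw [wm_up, one_pow, div_one, neg_neg, mul_inv_cancel_right]

theorem Supp.opp {h : Y} (hh : h ∈ H) (hA : Acts V H R co h fun _ => wm 1 one_ne_zero) {B : Subgroup Y}
    (hBH : B ≤ H) {I : Set (Fin k)} (hS : Supp V H R co B I) : Opp V H R co (MulAut.conj h • B) I := by
  have key : ∀ {u : Y} {b : Fin k → F}, u ∈ H → (Acts V H R co u fun i => up (b i)) →
      Acts V H R co (h * u * h⁻¹) fun i => lo (-b i) := by
    intro u b hu hb
    have h1 := (hA.mul hu hb).mul (H.inv_mem hh) (hA.inv hh)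
    have e : (((fun _ => wm (1 : F) one_ne_zero) * fun i => up (b i)) * fun i : Fin k => (wm (1 : F) one_ne_zero)⁻¹) =
        fun i => lo (-b i) := by
      funext i
      rw [← wm_up_wm (-b i), neg_neg]
      rfl
    rwa [e] at h1
  refine ⟨fun u hu => ?_, fun b hb => ?_⟩
  · rw [mem_conj] at hu
    obtain ⟨b, hb0, hb⟩ := hS.act _ hu
    refine ⟨fun i => -b i, fun i hi => by rw [neg_eq_zero, hb0 i hi], ?_⟩
    have h1 := key (hBH hu) hb
    have e : h * (h⁻¹ * u * h) * h⁻¹ = u := by group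
    rwa [e] at h1
  · obtain ⟨u, hu, hub⟩ := hS.full (fun i => -b i) fun i hi => by rw [neg_eq_zero, hb i hi]
    refine ⟨h * u * h⁻¹, conj_mem_conj hu, ?_⟩
    have h1 := key (hBH hu) hub
    simp only [neg_neg] at h1
    exact h1

/-- `C_W(U₁) ⊆ {w_{i0} = 0}` -/
theorem Opp.fx_le {B : Subgroup Y} {I : Set (Fin k)} (hO : Opp V H R co B I) {w : V} (hw : w ∈ WW V H R)
    (hf : w ∈ fx V B) {i : Fin k} (hi : i ∈ I) : co w i 0 = 0 := by
  classical
  obtain ⟨u, hu, h4⟩ := hO.full (Pi.single i 1) fun j hj => by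
    rw [Pi.single_eq_of_ne]
    rintro rfl
    exact hj hi
  have h5 := h4.lo_snd hw i
  rw [hf u hu, Pi.single_eq_same, one_mul] at h5
  exact right_eq_add.1 h5

/-- (c): vectors of `W_R ∩ F₁` have no `I`-components -/
theorem Opp.inf {B : Subgroup Y} {I : Set (Fin k)} (hO : Opp V H R co B I) {w : V} (hw : w ∈ WW V H R)
    (hf : w ∈ fx V B) (hR : ∀ i, co w i 1 = 0) {i : Fin k} (hi : i ∈ I) : co w i = 0 :=
  NatPair.ext2 (hO.fx_le hw hf hi) (hR i)

/-- `[W, U₁]` has only `I`-components -/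
theorem Opp.comm {B : Subgroup Y} {I : Set (Fin k)} (K : KNat V H R F k co) (hBH : B ≤ H) (two : ∀ v : V, v + v = 0)
    (hO : Opp V H R co B I) {w : V} (hw : w ∈ WW V H R) {u : Y} (hu : u ∈ B) {i : Fin k} (hi : i ∉ I) :
    co (u • w + w) i = 0 := by
  obtain ⟨b, hb0, hb⟩ := hO.act u hu
  have h1 : co (u • w) i = co w i := by
    rw [hb.1 w hw i]
    simp only [hb0 i hi, lo_zero, NatPair.ap_one]
  have h2 : co (u • w + w) i = co (u • w) i + co w i := by
    rw [K.add _ (smul_mem_WW (hBH hu) hw) _ hw]; rfl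
  rw [h2, h1]
  funext j
  exact K.ff two i _

end coords

/-! ### Members -/

section members

variable [Finite Y] [Finite V] {U : Set (Subgroup Y)} {T : Sylow 2 Y} {M H R : Subgroup Y} {t : Y} {F : Type} [Field F]
  {k : ℕ} {co : V → Fin k → Fin 2 → F}

theorem member_exact (amb : Amb V U T M) (a : Amal U T M H R t) (we : WE V U H R) {B : Subgroup Y} (hB : B ∈ U)
    (hBH : B ≤ H) : Nat.card ↥(B ⊓ QQ H R) * Nat.card ↥(WW V H R) ≤ Nat.card B * Nat.card ↥(fx V B ⊓ WW V H R) := by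
  rw [mul_comm, a.exact' amb we hB hBH, inf_comm]

/-- **(B1)** a member `B ≤ R`, `B ≰ Q`, has a support -/
theorem exists_supp (K : KNat V H R F k co) (amb : Amb V U T M) (a : Amal U T M H R t) (we : WE V U H R)
    {B : Subgroup Y} (hB : B ∈ U) (hBR : B ≤ R) (hBQ : ¬ B ≤ QQ H R) :
    ∃ I : Set (Fin k), I.Nonempty ∧ Supp V H R co B I :=
  K.exists_supp_of amb.two a.RH hBR (Mem.elAb (amb.cls.mem B hB)) hBQ (member_exact amb a we hB (hBR.trans a.RH))

theorem Q_fix (amb : Amb V U T M) (a : Amal U T M H R t) : ∀ q ∈ QQ H R, ∀ w ∈ WW V H R, q • w = w :=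
  fun _ hq _ hw => Amal.QQ_fix a amb hq hw

/-- **(B1)** `C_W(B) = {w | w_{i1} = 0, i ∈ I}` -/
theorem member_fx_iff [Finite F] (K : KNat V H R F k co) (amb : Amb V U T M) (a : Amal U T M H R t)
    (we : WE V U H R) {B : Subgroup Y} (hB : B ∈ U) (hBR : B ≤ R) {I : Set (Fin k)} (hS : Supp V H R co B I) {w : V}
    (hw : w ∈ WW V H R) : w ∈ fx V B ↔ ∀ i ∈ I, co w i 1 = 0 :=
  hS.fx_iff K amb.two a.RH (Q_fix amb a) hBR (member_exact amb a we hB (hBR.trans a.RH)) hw

theorem member_card (K : KNat V H R F k co) (amb : Amb V U T M) (a : Amal U T M H R t)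
    {B : Subgroup Y} (hBR : B ≤ R) {I : Set (Fin k)} (hS : Supp V H R co B I) :
    Nat.card B = Nat.card ↥(B ⊓ QQ H R) * Nat.card (I → F) :=
  hS.card K amb.two a.RH (Q_fix amb a) hBR

/-- **(a)**: `s_x ∈ Q` for `x ∈ W` -/
theorem mem_Q_of_shift (K : KNat V H R F k co) (amb : Amb V U T M) (a : Amal U T M H R t) (we : WE V U H R)
    {B : Subgroup Y} (hB : B ∈ U) (hBH : B ≤ H) {w x : V} (hw : w ∉ Ee V B) (hx : x ∈ WW V H R) {s : Y}
    (hs : s ∈ B) (h1 : s • w + w + x ∈ fx V B) : s ∈ QQ H R := by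
  obtain ⟨y, hy, hyU, hyR⟩ := Amal.exists_conj a amb hB hBH
  have hback : ∀ {q : Y}, y * q * y⁻¹ ∈ QQ H R → q ∈ QQ H R := by
    intro q hq
    have h5 := conj_mem_QQ (H.inv_mem hy) hq
    have e : y⁻¹ * (y * q * y⁻¹) * y⁻¹⁻¹ = q := by group
    rwa [e] at h5
  by_cases hQ : MulAut.conj y • B ≤ QQ H R
  · exact hback (hQ (conj_mem_conj hs))
  · obtain ⟨I, _, hS⟩ := exists_supp K amb a we hyU hyR hQ
    apply hback
    apply shift_R K amb.two a.RH (amb.cls.mem _ hyU) hyR hS (we _ hyU hyR) (w := y • w) (x := y • x)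
    · rw [Ee_conj, mem_smul_as, inv_smul_smul]
      exact hw
    · exact smul_mem_WW hy hx
    · exact conj_mem_conj hs
    · rw [fx_conj, mem_smul_as, smul_add, smul_add, ← mul_smul, ← mul_smul, inv_smul_smul, inv_smul_smul]
      have e : y⁻¹ * (y * s * y⁻¹) * y = s := by group
      rw [e]
      exact h1

/-- **(B2)** every block lies in the support of a member of `R` -/
theorem exists_member_at (K : KNat V H R F k co) (amb : Amb V U T M) (a : Amal U T M H R t) (we : WE V U H R)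
    (j : Fin k) : ∃ B ∈ U, B ≤ R ∧ ¬ B ≤ QQ H R ∧ ∃ I : Set (Fin k), j ∈ I ∧ Supp V H R co B I := by
  obtain ⟨B, hB, hBR, hBQ⟩ := Amal.exists_not_QQ a amb
  obtain ⟨I, ⟨i, hi⟩, hS⟩ := exists_supp K amb a we hB hBR hBQ
  obtain ⟨r, hr, hrs⟩ := K.trans i j
  have hBr : MulAut.conj r • B ≤ R := by
    intro x hx
    rw [mem_conj] at hx
    have h1 := R.mul_mem (R.mul_mem hr (hBR hx)) (R.inv_mem hr)
    have e : r * (r⁻¹ * x * r) * r⁻¹ = x := by group
    rwa [e] at h1
  have hQr : ¬ MulAut.conj r • B ≤ QQ H R := by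
    intro h1
    apply hBQ
    intro b hb
    have h5 := conj_mem_QQ (H.inv_mem (a.RH hr)) (h1 (conj_mem_conj hb))
    have e : r⁻¹ * (r * b * r⁻¹) * r⁻¹⁻¹ = b := by group
    rwa [e] at h5
  obtain ⟨J, _, hJ⟩ := exists_supp K amb a we (amb.cls.conj B hB r) hBr hQr
  refine ⟨_, amb.cls.conj B hB r, hBr, hQr, J, ?_, hJ⟩
  by_contra hj
  -- `B` acts trivially on block `i`
  classical
  obtain ⟨u, hu, h4⟩ := hS.full (Pi.single i 1) fun l hl => by
    rw [Pi.single_eq_of_ne]
    rintro rfl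
    exact hl hi
  obtain ⟨v, hv, hvi, _⟩ := K.exists_at i ![0, 1]
  obtain ⟨b, hb0, hb⟩ := hJ.act _ (conj_mem_conj (g := r) hu)
  have huH : u ∈ H := a.RH (hBR hu)
  have hrH : r ∈ H := a.RH hr
  have h1 : co (r • (u • v + v)) j = 0 := by
    have e : r • (u • v + v) = (r * u * r⁻¹) • (r • v) + r • v := by
      rw [smul_add, ← mul_smul, ← mul_smul]
      congr 2
      group
    have h2 := hb.1 (r • v) (smul_mem_WW hrH hv) j
    simp only [hb0 j hj, up_zero, NatPair.ap_one] at h2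
    rw [e, K.add _ (smul_mem_WW (H.mul_mem (H.mul_mem hrH huH) (H.inv_mem hrH)) (smul_mem_WW hrH hv)) _
      (smul_mem_WW hrH hv), Pi.add_apply, h2]
    funext l
    exact K.ff amb.two i _
  have h2 := (hrs _ (add_mem (smul_mem_WW huH hv) hv)).1 h1
  have h3 : co (u • v + v) i 0 = 1 := by
    rw [K.add_apply (smul_mem_WW huH hv) hv, h4.up_fst hv i, hvi, Pi.single_eq_same]
    simp
  rw [h2] at h3
  exact zero_ne_one h3

end members

end Cfsg.Agent.Omega.NO1.TH.K
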