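import Cfsg.Agent.Omega.NO1.TH.KOneDef

/-!
# N1, the amalgam `(H, H^t)`, natural type with `k` factors (bb OMEGA 20646, helper247): the hypotheses

`W = WW V H R`, `Q = QQ H R`, `W / D₀` the direct sum of `k` natural `SL₂(F)`-modules, `co : V → Fin k → Fin 2 → F`
the coordinates (meaningful on `W` only), `D₀ = {w ∈ W | co w = 0}`, `WR = {w ∈ W | co w i 1 = 0 for all i}`.
Field automorphisms are allowed.  `KNat` follows from `AbsNat` (`exists_KNat`), `TwoN` : both sides `H`, `H' = H^t`.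
-/

set_option autoImplicit false
set_option linter.unusedSectionVars false
set_option linter.dupNamespace false

namespace Cfsg.Agent.Omega.NO1.TH.K

open Subgroup Cfsg.Agent.Omega.NO1.AB Cfsg.Agent.Omega.FFBr Cfsg.Agent.Lib.SL2Mat
open Cfsg.Agent.Omega.NatPair (ap)
open scoped Pointwise

universe u

variable {Y : Type u} [Group Y]

/-- `g` acts on `W` as `A ∈ SL₂(F)^k` in the coordinates, and trivially on `D₀ = {co = 0}`. -/
def Acts (V : Type u) [AddCommGroup V] [DistribMulAction Y V] (H R : Subgroup Y) {F : Type} [Field F] {k : ℕ}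
    (co : V → Fin k → Fin 2 → F) (g : Y) (A : Fin k → Matrix.SpecialLinearGroup (Fin 2) F) : Prop :=
  (∀ v ∈ WW V H R, ∀ i, co (g • v) i = ap (A i) (co v i)) ∧ ∀ d ∈ WW V H R, co d = 0 → g • d = d

/-- `W / D₀` is the sum of `k` natural `SL₂(F)`-modules for `H`, `R / Q` = root groups, permutations and field
automorphisms. -/
structure KNat (V : Type u) [AddCommGroup V] [DistribMulAction Y V] (H R : Subgroup Y) (F : Type) [Field F] (k : ℕ)
    (co : V → Fin k → Fin 2 → F) : Prop where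
  add : ∀ v ∈ WW V H R, ∀ w ∈ WW V H R, co (v + w) = co v + co w
  surj : ∀ x, ∃ v ∈ WW V H R, co v = x
  lift : ∀ A : Fin k → Matrix.SpecialLinearGroup (Fin 2) F, ∃ g ∈ H, Acts V H R co g A
  norm : ∀ g ∈ H, ∀ h ∈ H, ∀ A : Fin k → Matrix.SpecialLinearGroup (Fin 2) F,
    (∀ v ∈ WW V H R, ∀ i, co (h • v) i = ap (A i) (co v i)) →
      ∃ B : Fin k → Matrix.SpecialLinearGroup (Fin 2) F,
        ∀ v ∈ WW V H R, ∀ i, co ((g * h * g⁻¹) • v) i = ap (B i) (co v i)
  perm : ∀ g ∈ H, ∃ σ : Equiv.Perm (Fin k), ∀ v ∈ WW V H R, ∀ i, co (g • v) (σ i) = 0 ↔ co v i = 0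
  trans : ∀ i j, ∃ r ∈ R, ∀ v ∈ WW V H R, co (r • v) j = 0 ↔ co v i = 0
  line : ∀ r ∈ R, ∃ σ : Equiv.Perm (Fin k), ∀ v ∈ WW V H R, ∀ i, co (r • v) (σ i) 1 = 0 ↔ co v i 1 = 0
  unip : ∀ b : Fin k → F, ∃ r ∈ R, Acts V H R co r fun i => up (b i)
  gen : ∀ K : Subgroup Y, R ≤ K → K ≤ H → (∀ h ∈ H, ∀ A, Acts V H R co h A → h ∈ K) → K = H
  off : ∀ A ≤ R, ElAb A → ¬ A ≤ QQ H R →
    Nat.card ↥(A ⊓ QQ H R) * Nat.card ↥(WW V H R) ≤ Nat.card A * Nat.card ↥(fx V A ⊓ WW V H R) →
      ∃ I : Set (Fin k),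
        (∀ a ∈ A, ∃ b : Fin k → F, (∀ i, i ∉ I → b i = 0) ∧ Acts V H R co a fun i => up (b i)) ∧
          ∀ b : Fin k → F, (∀ i, i ∉ I → b i = 0) → ∃ a ∈ A, Acts V H R co a fun i => up (b i)
  noOver : ∀ A ≤ R, ElAb A → Nat.card A * Nat.card ↥(fx V A ⊓ WW V H R) ≤
    Nat.card ↥(A ⊓ QQ H R) * Nat.card ↥(WW V H R)
  triv : ∀ r ∈ R, (∀ w ∈ WW V H R, co (r • w + w) = 0) → r ∈ QQ H R
  trivH : ∀ x ∈ H, (∀ w ∈ WW V H R, co (x • w) = co w) → ∀ w ∈ WW V H R, x • w = w

/-- `W_R`: the vectors whose coordinates lie on the fixed lines of the root groups -/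
def WR (V : Type u) [AddCommGroup V] [DistribMulAction Y V] (H R : Subgroup Y) {F : Type} [Field F] {k : ℕ}
    (co : V → Fin k → Fin 2 → F) : Set V := {w | w ∈ WW V H R ∧ ∀ i, co w i 1 = 0}

variable {V : Type u} [AddCommGroup V] [DistribMulAction Y V]

section basic

variable {H R : Subgroup Y} {F : Type} [Field F] {k : ℕ} {co : V → Fin k → Fin 2 → F}

theorem Acts.mul {g h : Y} {A B : Fin k → Matrix.SpecialLinearGroup (Fin 2) F} (hhH : h ∈ H)
    (hg : Acts V H R co g A) (hh : Acts V H R co h B) : Acts V H R co (g * h) (A * B) := by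
  refine ⟨fun v hv i => ?_, fun d hd h0 => ?_⟩
  · rw [mul_smul, hg.1 _ (smul_mem_WW hhH hv), hh.1 v hv, ← NatPair.ap_mul]
    rfl
  · rw [mul_smul, hh.2 d hd h0, hg.2 d hd h0]

theorem Acts.one : Acts V H R co 1 (1 : Fin k → Matrix.SpecialLinearGroup (Fin 2) F) :=
  ⟨fun v _ i => by rw [one_smul]; exact (NatPair.ap_one _).symm, fun d _ _ => one_smul Y d⟩

/-- elements trivial on `W` -/
theorem Acts.of_triv {g : Y} (hg : ∀ w ∈ WW V H R, g • w = w) :
    Acts V H R co g (1 : Fin k → Matrix.SpecialLinearGroup (Fin 2) F) :=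
  ⟨fun v hv i => by rw [hg v hv]; exact (NatPair.ap_one _).symm, fun d hd _ => hg d hd⟩

end basic

/-! ### Derivation from `AbsNat` -/

section derive

variable {H R : Subgroup Y} {F : Type} [Field F] {k : ℕ}

open Classical in
/-- the coordinates -/
noncomputable def coOf (e : Wm V H R → Fin k → Fin 2 → F) (v : V) : Fin k → Fin 2 → F :=
  if h : v ∈ WW V H R then e (Multiplicative.ofAdd ⟨v, h⟩) else 0

theorem coOf_vl (e : Wm V H R → Fin k → Fin 2 → F) (m : Wm V H R) : coOf e (vl V H R m) = e m := by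
  unfold coOf
  rw [dif_pos (vl_mem m)]
  congr 1

variable {P : Subgroup (XH V H R)}

theorem acts_iff (N : AbsNat F P (Wm V H R) k) {g : Y} (hg : g ∈ H)
    (A : Fin k → Matrix.SpecialLinearGroup (Fin 2) F) :
    Acts V H R (coOf N.e) g A ↔ AActs N.e (pr V H R ⟨g, hg⟩) A := by
  constructor
  · rintro ⟨h1, h2⟩
    refine ⟨fun m i => ?_, fun d hd => ?_⟩
    · have h3 := h1 _ (vl_mem m) i
      rw [coOf_vl] at h3
      rw [← h3, ← coOf_vl N.e (pr V H R ⟨g, hg⟩ • m), vl_smul]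
    · rw [pr_fix]
      exact h2 _ (vl_mem d) (by rw [coOf_vl]; exact (N.ker d).2 hd)
  · rintro ⟨h1, h2⟩
    refine ⟨fun v hv i => ?_, fun d hd h0 => ?_⟩
    · obtain ⟨m, rfl⟩ := exists_vl hv
      have h3 := h1 m i
      rw [coOf_vl, ← h3, ← coOf_vl N.e (pr V H R ⟨g, hg⟩ • m), vl_smul]
    · obtain ⟨m, rfl⟩ := exists_vl hd
      rw [coOf_vl] at h0
      exact pr_fix.1 (h2 m ((N.ker m).1 h0))

theorem coOf_smul (e : Wm V H R → Fin k → Fin 2 → F) {g : Y} (hg : g ∈ H) (m : Wm V H R) :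
    coOf e (g • vl V H R m) = e (pr V H R ⟨g, hg⟩ • m) := by
  rw [← coOf_vl e, vl_smul]

/-- an element of odd order which is trivial on `V / D` and on `D` is trivial -/
theorem nat_triv {X V' : Type*} [Group X] [Group V'] [MulDistribMulAction X V'] {T' : Subgroup X}
    (hc : ∀ v w : V', v * w = w * v) (hs : ∀ v : V', v * v = 1) (hf : ∀ x : X, (∀ v : V', x • v = v) → x = 1)
    (N : AbsNat F T' V' k) {x : X} (hx : ∀ v, N.e (x • v) = N.e v) (ho : Odd (orderOf x)) : x = 1 := by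
  have h1 : ∀ v : V', x • v * v ∈ odd X V' := by
    intro v
    rw [← N.ker, N.mul, hx, ← N.mul, hs, N.ker]
    exact (odd X V').one_mem
  have h2 : x * x = 1 := by
    apply hf
    intro v
    have h3 := h1 v x ho
    rw [smul_mul', ← mul_smul] at h3
    -- `x² v * x v = x v * v`
    rw [hc (x • v) v] at h3
    exact mul_right_cancel h3
  have h4 : orderOf x ∣ 2 := orderOf_dvd_of_pow_eq_one (by rw [pow_two, h2])
  rcases (Nat.dvd_prime Nat.prime_two).1 h4 with h5 | h5
  · exact orderOf_eq_one_iff.1 h5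
  · rw [h5] at ho
    exact absurd ho (by decide)

/-- the elements trivial on `V / D` form a normal 2-subgroup -/
theorem nat_core {X V' : Type*} [Group X] [Finite X] [Group V'] [MulDistribMulAction X V'] {T' : Subgroup X}
    (hc : ∀ v w : V', v * w = w * v) (hs : ∀ v : V', v * v = 1) (hf : ∀ x : X, (∀ v : V', x • v = v) → x = 1)
    (hcore : ∀ N : Subgroup X, N.Normal → IsPGroup 2 N → N = ⊥)
    (N : AbsNat F T' V' k) {x : X} (hx : ∀ v, N.e (x • v) = N.e v) : x = 1 := by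
  let N' : Subgroup X :=
    { carrier := {x | ∀ v, N.e (x • v) = N.e v}
      one_mem' := fun v => by rw [one_smul]
      mul_mem' := fun {x y} hx hy v => by rw [mul_smul, hx, hy]
      inv_mem' := fun {x} hx v => by rw [← hx (x⁻¹ • v), smul_inv_smul] }
  have hN' : ∀ y, y ∈ N' ↔ ∀ v, N.e (y • v) = N.e v := fun y => Iff.rfl
  have h1 : N' = ⊥ := by
    apply hcore
    · refine ⟨fun n hn g v => ?_⟩
      -- `e (g n g⁻¹ v) = e v`
      have h2 : N.e ((n • g⁻¹ • v) * (g⁻¹ • v)) = 0 := by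
        rw [N.mul, hn (g⁻¹ • v), ← N.mul, hs, N.ker]
        exact (odd X V').one_mem
      obtain ⟨σ, hσ⟩ := N.perm g
      have h3 : N.e (g • ((n • g⁻¹ • v) * (g⁻¹ • v))) = 0 := by
        funext i
        have h4 := (hσ ((n • g⁻¹ • v) * (g⁻¹ • v)) (σ.symm i)).2 (by rw [h2]; rfl)
        rw [Equiv.apply_symm_apply] at h4
        exact h4
      rw [smul_mul', smul_inv_smul, N.mul, ← mul_smul, ← mul_smul] at h3
      have h5 : N.e v + N.e v = 0 := by
        rw [← N.mul, hs, N.ker]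
        exact (odd X V').one_mem
      exact (add_left_injective (N.e v)) (h3.trans h5.symm)
    · rw [IsPGroup.iff_orderOf]
      intro y
      have hpos : 0 < orderOf (y : X) := orderOf_pos _
      obtain ⟨n, m, hm, hnm⟩ := Nat.exists_eq_two_pow_mul_odd hpos.ne'
      have h2 : ((y : X) ^ 2 ^ n) = 1 := by
        apply nat_triv hc hs hf N (x := (y : X) ^ 2 ^ n)
        · exact (N'.pow_mem y.2 _)
        · rw [orderOf_pow' _ (by positivity), hnm, Nat.gcd_eq_right (Dvd.intro _ rfl),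
            Nat.mul_div_cancel_left _ (by positivity)]
          exact hm
      obtain ⟨j, _, hj⟩ := (Nat.dvd_prime_pow Nat.prime_two).1 (orderOf_dvd_of_pow_eq_one h2)
      exact ⟨j, by rw [← hj, Subgroup.orderOf_coe]⟩
  have h2 : x ∈ N' := hx
  rw [h1, mem_bot] at h2
  exact h2

end derive

theorem card_mapSub {H R A : Subgroup Y} [Finite Y] [Finite V] {U : Set (Subgroup Y)} {T : Sylow 2 Y} {M : Subgroup Y}
    {t : Y} (amb : Amb V U T M) (a : Amal U T M H R t) (hA : A ≤ R) :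
    Nat.card ↥((A.subgroupOf H).map (pr V H R)) * Nat.card ↥(A ⊓ QQ H R) = Nat.card A := by
  rw [← Amal.inf_CW a amb hA]
  exact card_im (hA.trans a.RH)

/-- **`KNat` from `AbsNat`** -/
theorem KNat.of_abs {F : Type} [Field F] {k : ℕ} [Finite Y] [Finite V] {U : Set (Subgroup Y)} {T : Sylow 2 Y}
    {M H R : Subgroup Y} {t : Y} (amb : Amb V U T M) (a : Amal U T M H R t) {P : Sylow 2 (XH V H R)}
    {M₁ : Subgroup (XH V H R)} (hA : Abs (XH V H R) (Wm V H R) P M₁)
    (hP : ∀ x : XH V H R, x ∈ P ↔ ∃ r : H, (r : Y) ∈ R ∧ pr V H R r = x) (hno : ANoOver (XH V H R) (Wm V H R))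
    (N : AbsNat F (P : Subgroup (XH V H R)) (Wm V H R) k) : KNat V H R F k (coOf N.e) := by
  have hcomm : ∀ {A : Subgroup Y}, A ≤ R → ElAb A →
      (∀ x ∈ (A.subgroupOf H).map (pr V H R), ∀ y ∈ (A.subgroupOf H).map (pr V H R), x * y = y * x) ∧
        ∀ x ∈ (A.subgroupOf H).map (pr V H R), x * x = 1 := by
    intro A _ hel
    refine ⟨?_, ?_⟩
    · rintro _ ⟨x, hx, rfl⟩ _ ⟨y, hy, rfl⟩
      rw [← map_mul, ← map_mul]
      congr 1
      exact Subtype.ext (hel.1 x hx y hy)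
    · rintro _ ⟨x, hx, rfl⟩
      rw [← map_mul]
      have : x * x = 1 := Subtype.ext (hel.2 x hx)
      rw [this, map_one]
  refine
    { add := fun v hv w hw => ?_
      surj := fun x => ?_
      lift := fun A => ?_
      norm := fun g hg h hh A hA' => ?_
      perm := fun g hg => ?_
      trans := fun i j => ?_
      line := fun r hr => ?_
      unip := fun b => ?_
      gen := fun K hRK hKH hK => ?_
      off := fun A hAR hel hAQ hle => ?_
      noOver := fun A hAR hel => ?_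
      triv := fun r hr hrw => ?_
      trivH := fun x hx hxw w hw => ?_ }
  · obtain ⟨m, rfl⟩ := exists_vl hv
    obtain ⟨n, rfl⟩ := exists_vl hw
    rw [← vl_mul, coOf_vl, coOf_vl, coOf_vl, N.mul]
  · obtain ⟨m, hm⟩ := N.surj x
    exact ⟨_, vl_mem m, by rw [coOf_vl, hm]⟩
  · obtain ⟨g, hg⟩ := N.lift A
    obtain ⟨y, rfl⟩ := pr_surjective V H R g
    exact ⟨y, y.2, (acts_iff N y.2 A).2 hg⟩
  · obtain ⟨B, hB⟩ := N.norm (pr V H R ⟨g, hg⟩) (pr V H R ⟨h, hh⟩) A (by
      intro m i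
      rw [← coOf_smul N.e hh, hA' _ (vl_mem m), coOf_vl])
    refine ⟨B, fun v hv i => ?_⟩
    obtain ⟨m, rfl⟩ := exists_vl hv
    have e : pr V H R ⟨g * h * g⁻¹, H.mul_mem (H.mul_mem hg hh) (H.inv_mem hg)⟩ =
        pr V H R ⟨g, hg⟩ * pr V H R ⟨h, hh⟩ * (pr V H R ⟨g, hg⟩)⁻¹ := by
      rw [← map_inv, ← map_mul, ← map_mul]
      rfl
    rw [coOf_smul N.e (H.mul_mem (H.mul_mem hg hh) (H.inv_mem hg)), coOf_vl, e, hB m i]
  · obtain ⟨σ, hσ⟩ := N.perm (pr V H R ⟨g, hg⟩)
    refine ⟨σ, fun v hv i => ?_⟩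
    obtain ⟨m, rfl⟩ := exists_vl hv
    rw [coOf_smul N.e hg, coOf_vl]
    exact hσ m i
  · obtain ⟨x, hx, hxs⟩ := N.trans i j
    obtain ⟨r, hr, rfl⟩ := (hP x).1 hx
    refine ⟨r, hr, fun v hv => ?_⟩
    obtain ⟨m, rfl⟩ := exists_vl hv
    rw [coOf_smul N.e r.2, coOf_vl]
    exact hxs m
  · obtain ⟨σ, hσ⟩ := N.line (pr V H R ⟨r, a.RH hr⟩) ((hP _).2 ⟨_, hr, rfl⟩)
    refine ⟨σ, fun v hv i => ?_⟩
    obtain ⟨m, rfl⟩ := exists_vl hv
    rw [coOf_smul N.e (a.RH hr), coOf_vl]
    exact hσ m i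
  · obtain ⟨x, hx, hxs⟩ := N.unip b
    obtain ⟨r, hr, rfl⟩ := (hP x).1 hx
    exact ⟨r, hr, (acts_iff N r.2 _).2 hxs⟩
  · have h1 : (K.subgroupOf H).map (pr V H R) = ⊤ := by
      apply N.gen
      · intro x hx
        obtain ⟨r, hr, rfl⟩ := (hP x).1 hx
        exact ⟨r, hRK hr, rfl⟩
      · intro x A hx
        obtain ⟨y, rfl⟩ := pr_surjective V H R x
        exact ⟨y, hK y y.2 A ((acts_iff N y.2 A).2 hx), rfl⟩
    apply le_antisymm hKH
    intro x hx
    have h2 : pr V H R ⟨x, hx⟩ ∈ (K.subgroupOf H).map (pr V H R) := by rw [h1]; exact mem_top _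
    obtain ⟨y, hy, hyx⟩ := h2
    have h3 : pr V H R (y⁻¹ * ⟨x, hx⟩) = 1 := by rw [map_mul, map_inv, hyx, inv_mul_cancel]
    rw [pr_eq_one] at h3
    have h4 := hK ((y : Y)⁻¹ * x) (H.mul_mem (H.inv_mem y.2) hx) _ (Acts.of_triv h3)
    have h5 := K.mul_mem (show (y : Y) ∈ K from hy) h4
    rwa [mul_inv_cancel_left] at h5
  · obtain ⟨I, hI1, hI2⟩ := N.off ((A.subgroupOf H).map (pr V H R)) (by
      rintro _ ⟨x, hx, rfl⟩
      exact (hP _).2 ⟨x, hAR hx, rfl⟩)
      { comm := (hcomm hAR hel).1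
        sq := (hcomm hAR hel).2
        ne := by
          intro h1
          apply hAQ
          intro x hx
          rw [Amal.mem_QQ_iff a amb (hAR hx), ← pr_eq_one (x := ⟨x, a.RH (hAR hx)⟩), ← mem_bot, ← h1]
          exact ⟨_, hx, rfl⟩
        le := by
          have h2 := card_mapSub amb a hAR
          have h3 := card_cv (V := V) (R := R) (hAR.trans a.RH)
          rw [inf_comm (fx V A), ← h2, ← h3] at hle
          have h4 : 0 < Nat.card ↥(A ⊓ QQ H R) := Nat.card_pos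
          have h5 : 0 < Nat.card ↥(WW V H R ⊓ fx V A) := Nat.card_pos
          apply Nat.le_of_mul_le_mul_right _ (Nat.mul_pos h4 h5)
          calc _ = Nat.card ↥(A ⊓ QQ H R) * ((ClassTwoFusion.Quad.cv (Wm V H R)
                (((A.subgroupOf H).map (pr V H R) : Subgroup (XH V H R)) : Set (XH V H R))).index *
                  Nat.card ↥(WW V H R ⊓ fx V A)) := by ring
            _ ≤ _ := hle
            _ = _ := by ring }
    refine ⟨I, fun x hx => ?_, fun b hb => ?_⟩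
    · obtain ⟨b, hb, hbx⟩ := hI1 (pr V H R ⟨x, a.RH (hAR hx)⟩) ⟨_, hx, rfl⟩
      exact ⟨b, hb, (acts_iff N _ _).2 hbx⟩
    · obtain ⟨_, ⟨x, hx, rfl⟩, hbx⟩ := hI2 b hb
      exact ⟨x, hx, (acts_iff N x.2 _).2 hbx⟩
  · have h1 := hno ((A.subgroupOf H).map (pr V H R)) (hcomm hAR hel).1 (hcomm hAR hel).2
    have h2 := card_mapSub amb a hAR
    have h3 := card_cv (V := V) (R := R) (hAR.trans a.RH)
    rw [inf_comm (fx V A), ← h2, ← h3]
    calc _ = Nat.card ↥((A.subgroupOf H).map (pr V H R)) *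
          (Nat.card ↥(A ⊓ QQ H R) * Nat.card ↥(WW V H R ⊓ fx V A)) := mul_assoc _ _ _
      _ ≤ _ := Nat.mul_le_mul_right _ h1
      _ = _ := by ring
  · rw [Amal.mem_QQ_iff a amb hr, ← pr_eq_one (x := ⟨r, a.RH hr⟩)]
    apply nat_core hA.comm hA.sq hA.faith hA.core N
    intro m
    have h1 := hrw _ (vl_mem m)
    have h2 : (r : Y) • vl V H R m + vl V H R m = vl V H R ((pr V H R ⟨r, a.RH hr⟩ • m) * m) := by
      rw [vl_mul, vl_smul]
    rw [h2, coOf_vl, N.mul] at h1
    have h5 : N.e m + N.e m = 0 := by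
      rw [← N.mul, hA.sq, N.ker]
      exact (odd _ _).one_mem
    exact (add_left_injective (N.e m)) (h1.trans h5.symm)
  · have h1 : pr V H R ⟨x, hx⟩ = 1 := by
      apply nat_core hA.comm hA.sq hA.faith hA.core N
      intro m
      rw [← coOf_smul N.e hx, hxw _ (vl_mem m), coOf_vl]
    exact pr_eq_one.1 h1 w hw

/-! ### Transport -/

section transport

variable {H R : Subgroup Y} {F : Type} [Field F] {k : ℕ} {co : V → Fin k → Fin 2 → F}

theorem hsm' {t x : Y} {v : V} : t⁻¹ • x • v = (t⁻¹ * x * t) • t⁻¹ • v := by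
  rw [← mul_smul, ← mul_smul]; congr 1; group

theorem hsm'' {t x : Y} {v : V} : t⁻¹ • x • t • v = (t⁻¹ * x * t) • v := by
  rw [← mul_smul, ← mul_smul]

theorem WW_conj' (t : Y) : WW V (MulAut.conj t • H) (MulAut.conj t • R) = t • WW V H R := by
  have key : ∀ (t : Y) (H R : Subgroup Y), t • WW V H R ≤ WW V (MulAut.conj t • H) (MulAut.conj t • R) := by
    intro t H R v hv
    rw [mem_smul_as] at hv
    have key : ∀ w ∈ WW V H R, t • w ∈ WW V (MulAut.conj t • H) (MulAut.conj t • R) := by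
      intro w hw
      induction hw using AddSubgroup.closure_induction with
      | mem v hv =>
        obtain ⟨x, hx, w, hw, rfl⟩ := hv
        have e : t • x • w = (t * x * t⁻¹) • (t • w) := by
          rw [← mul_smul, ← mul_smul]; congr 1; group
        rw [e]
        refine smul_mem_WW (conj_mem_conj hx) (fx_le_WW ?_)
        rw [fx_conj]
        exact smul_mem_smul_as hw
      | zero => rw [smul_zero]; exact zero_mem _
      | add a b _ _ h3 h4 => rw [smul_add]; exact add_mem h3 h4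
      | neg a _ h3 => rw [smul_neg]; exact neg_mem h3
    have := key _ hv
    rwa [smul_inv_smul] at this
  apply le_antisymm _ (key t H R)
  have h1 := key t⁻¹ (MulAut.conj t • H) (MulAut.conj t • R)
  rw [conj_inv_smul', conj_inv_smul'] at h1
  have h2 := smul_le_smul_as (g := t) h1
  rwa [smul_smul_as, mul_inv_cancel, one_smul] at h2

theorem QQ_conj' (t : Y) : QQ (MulAut.conj t • H) (MulAut.conj t • R) = MulAut.conj t • QQ H R := by
  ext y
  rw [mem_conj]
  constructor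
  · intro h x hx
    have h3 := h _ (conj_mem_conj (g := t) hx)
    rw [mem_conj] at h3
    have e : t⁻¹ * (t * x * t⁻¹ * y * (t * x * t⁻¹)⁻¹) * t = x * (t⁻¹ * y * t) * x⁻¹ := by group
    rwa [e] at h3
  · intro h x hx
    rw [mem_conj] at hx ⊢
    have h3 := h _ hx
    have e : t⁻¹ * (x * y * x⁻¹) * t = t⁻¹ * x * t * (t⁻¹ * y * t) * (t⁻¹ * x * t)⁻¹ := by group
    rwa [e]

theorem acts_conj {t : Y} {g : Y} {A : Fin k → Matrix.SpecialLinearGroup (Fin 2) F} :
    Acts V (MulAut.conj t • H) (MulAut.conj t • R) (fun v => co (t⁻¹ • v)) g A ↔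
      Acts V H R co (t⁻¹ * g * t) A := by
  have hW : WW V (MulAut.conj t • H) (MulAut.conj t • R) = t • WW V H R := WW_conj' t
  constructor
  · rintro ⟨h1, h2⟩
    refine ⟨fun v hv i => ?_, fun d hd h0 => ?_⟩
    · have h3 := h1 (t • v) (by rw [hW]; exact smul_mem_smul_as hv) i
      simp only [hsm'', inv_smul_smul] at h3
      exact h3
    · have h3 := h2 (t • d) (by rw [hW]; exact smul_mem_smul_as hd) (by simp only [inv_smul_smul]; exact h0)
      rw [mul_smul, mul_smul, h3, inv_smul_smul]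
  · rintro ⟨h1, h2⟩
    refine ⟨fun v hv i => ?_, fun d hd h0 => ?_⟩
    · rw [hW, mem_smul_as] at hv
      have h3 := h1 _ hv i
      simp only [hsm']
      exact h3
    · rw [hW, mem_smul_as] at hd
      have h3 := h2 _ hd h0
      rwa [← hsm', smul_left_cancel_iff] at h3

/-- transport with an arbitrary element -/
theorem KNat.conj [Finite Y] (K : KNat V H R F k co) (t : Y) :
    KNat V (MulAut.conj t • H) (MulAut.conj t • R) F k (fun v => co (t⁻¹ • v)) := by
  have hQ : QQ (MulAut.conj t • H) (MulAut.conj t • R) = MulAut.conj t • QQ H R := QQ_conj' t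
  have hW : WW V (MulAut.conj t • H) (MulAut.conj t • R) = t • WW V H R := WW_conj' t
  have hle : ∀ {A K : Subgroup Y}, MulAut.conj t⁻¹ • A ≤ K ↔ A ≤ MulAut.conj t • K := by
    intro A K
    rw [conj_le_iff, inv_inv]
  have hback : ∀ r : Y, t⁻¹ * (t * r * t⁻¹) * t = r := fun r => by group
  refine
    { add := fun v hv w hw => ?_
      surj := fun x => ?_
      lift := fun A => ?_
      norm := fun g hg h hh A hA' => ?_
      perm := fun g hg => ?_
      trans := fun i j => ?_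
      line := fun r hr => ?_
      unip := fun b => ?_
      gen := fun L hRL hLH hL => ?_
      off := fun A hAR hel hAQ h1 => ?_
      noOver := fun A hAR hel => ?_
      triv := fun r hr hrw => ?_
      trivH := fun x hx hxw w hw => ?_ }
  · rw [hW, mem_smul_as] at hv hw
    simp only [smul_add]
    exact K.add _ hv _ hw
  · obtain ⟨v, hv, hx⟩ := K.surj x
    refine ⟨t • v, by rw [hW]; exact smul_mem_smul_as hv, ?_⟩
    simp only [inv_smul_smul]
    exact hx
  · obtain ⟨g, hg, hgA⟩ := K.lift A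
    refine ⟨t * g * t⁻¹, conj_mem_conj hg, ?_⟩
    rw [acts_conj, hback]
    exact hgA
  · rw [mem_conj] at hg hh
    obtain ⟨B, hB⟩ := K.norm _ hg _ hh A (by
      intro v hv i
      have h3 := hA' (t • v) (by rw [hW]; exact smul_mem_smul_as hv) i
      simp only [hsm'', inv_smul_smul] at h3
      exact h3)
    refine ⟨B, fun v hv i => ?_⟩
    rw [hW, mem_smul_as] at hv
    have h3 := hB _ hv i
    simp only [hsm']
    have e : t⁻¹ * (g * h * g⁻¹) * t = t⁻¹ * g * t * (t⁻¹ * h * t) * (t⁻¹ * g * t)⁻¹ := by group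
    rw [e]
    exact h3
  · rw [mem_conj] at hg
    obtain ⟨σ, hσ⟩ := K.perm _ hg
    refine ⟨σ, fun v hv i => ?_⟩
    rw [hW, mem_smul_as] at hv
    simp only [hsm']
    exact hσ _ hv i
  · obtain ⟨r, hr, hrs⟩ := K.trans i j
    refine ⟨t * r * t⁻¹, conj_mem_conj hr, fun v hv => ?_⟩
    rw [hW, mem_smul_as] at hv
    simp only [hsm', hback]
    exact hrs _ hv
  · rw [mem_conj] at hr
    obtain ⟨σ, hσ⟩ := K.line _ hr
    refine ⟨σ, fun v hv i => ?_⟩
    rw [hW, mem_smul_as] at hv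
    simp only [hsm']
    exact hσ _ hv i
  · obtain ⟨r, hr, hrs⟩ := K.unip b
    refine ⟨t * r * t⁻¹, conj_mem_conj hr, ?_⟩
    rw [acts_conj, hback]
    exact hrs
  · have h1 : MulAut.conj t⁻¹ • L = H := by
      apply K.gen
      · intro r hr
        rw [mem_conj, inv_inv]
        exact hRL (conj_mem_conj hr)
      · rw [hle]
        exact hLH
      · intro h hh A hhA
        rw [mem_conj, inv_inv]
        apply hL _ (conj_mem_conj hh) A
        rw [acts_conj, hback]
        exact hhA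
    rw [← h1, conj_inv_smul]
  · obtain ⟨I, hI1, hI2⟩ := K.off _ (hle.2 hAR) (hel.conj t⁻¹) (fun h2 => hAQ (by rw [hQ, ← hle]; exact h2)) (by
      rw [conj_card, card_inf_conj, card_fx_conj]
      rw [hQ, hW, card_smul_as] at h1
      exact h1)
    refine ⟨I, fun x hx => ?_, fun b hb => ?_⟩
    · obtain ⟨b, hb, hbx⟩ := hI1 (t⁻¹ * x * t) (by
        rw [mem_conj, inv_inv]
        have e : t * (t⁻¹ * x * t) * t⁻¹ = x := by group
        rwa [e])
      exact ⟨b, hb, acts_conj.2 hbx⟩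
    · obtain ⟨x, hx, hbx⟩ := hI2 b hb
      rw [mem_conj, inv_inv] at hx
      refine ⟨_, hx, ?_⟩
      rw [acts_conj, hback]
      exact hbx
  · have h1 := K.noOver _ (hle.2 hAR) (hel.conj t⁻¹)
    rw [conj_card, card_inf_conj, card_fx_conj] at h1
    rw [hQ, hW, card_smul_as]
    exact h1
  · rw [mem_conj] at hr
    rw [hQ, mem_conj]
    apply K.triv _ hr
    intro w hw
    have h3 := hrw (t • w) (by rw [hW]; exact smul_mem_smul_as hw)
    simp only [smul_add, hsm'', inv_smul_smul] at h3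
    exact h3
  · rw [mem_conj] at hx
    rw [hW, mem_smul_as] at hw
    have h3 := K.trivH _ hx (fun w hw => by
      have h4 := hxw (t • w) (by rw [hW]; exact smul_mem_smul_as hw)
      simp only [hsm'', inv_smul_smul] at h4
      exact h4) _ hw
    rwa [← hsm', smul_left_cancel_iff] at h3

/-- transport with `t` -/
theorem KNat.conj_t [Finite Y] {U : Set (Subgroup Y)} {T : Sylow 2 Y} {M : Subgroup Y} {t : Y}
    (a : Amal U T M H R t) (K : KNat V H R F k co) :
    KNat V (MulAut.conj t • H) R F k (fun v => co (t⁻¹ • v)) := by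
  have h1 := K.conj t
  rwa [conj_of_mem a.t_norm] at h1

end transport

/-- Both sides of the amalgam, `H' = H^t`; `WE` : no member in `R` of type ALPHA (#20114). -/
structure TwoN (V : Type u) [AddCommGroup V] [DistribMulAction Y V] (U : Set (Subgroup Y)) (T : Sylow 2 Y)
    (M H H' R : Subgroup Y) (F : Type) [Field F] (k : ℕ) (co co' : V → Fin k → Fin 2 → F) (t : Y) : Prop where
  amb : Amb V U T M
  a : Amal U T M H R t
  a' : Amal U T M H' R t
  K : KNat V H R F k co
  K' : KNat V H' R F k co'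
  H'_eq : H' = MulAut.conj t • H
  H_eq : H = MulAut.conj t • H'
  we : WE V U H R
  we' : WE V U H' R

theorem TwoN.swap {U : Set (Subgroup Y)} {T : Sylow 2 Y} {M H H' R : Subgroup Y} {F : Type} [Field F] {k : ℕ}
    {co co' : V → Fin k → Fin 2 → F} {t : Y} (h : TwoN V U T M H H' R F k co co' t) :
    TwoN V U T M H' H R F k co' co t where
  amb := h.amb
  a := h.a'
  a' := h.a
  K := h.K'
  K' := h.K
  H'_eq := h.H_eq
  H_eq := h.H'_eq
  we := h.we'
  we' := h.we

theorem KNat.twoN [Finite Y] [Finite V] {U : Set (Subgroup Y)} {T : Sylow 2 Y} {M H R : Subgroup Y} {F : Type}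
    [Field F] {k : ℕ} {co : V → Fin k → Fin 2 → F} {t : Y} (amb : Amb V U T M) (a : Amal U T M H R t)
    (K : KNat V H R F k co) (we : WE V U H R) :
    TwoN V U T M H (MulAut.conj t • H) R F k co (fun v => co (t⁻¹ • v)) t where
  amb := amb
  a := a
  a' := a.conj_t amb.cls amb.TM
  K := K
  K' := K.conj_t a
  H'_eq := rfl
  H_eq := by
    rw [conj_smul_smul]
    exact (conj_of_mem fun x hx => H.mul_mem (H.mul_mem (a.RH a.t_sq) hx) (H.inv_mem (a.RH a.t_sq))).symm
  we := we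
  we' := fun B hB hBR => by
    rw [WW_conj (fun v => a.smul_V0) fun v => a.smul_V0']
    exact a.tW_le_Ee amb we hB hBR

/-- natural type of the FF theorem: `TwoN` -/
theorem exists_twoN [Finite Y] [Finite V] {U : Set (Subgroup Y)} {T : Sylow 2 Y} {M H R : Subgroup Y} {t : Y}
    (amb : Amb V U T M) (a : Amal U T M H R t) (we : WE V U H R) {P : Sylow 2 (XH V H R)} {M₁ : Subgroup (XH V H R)}
    (hA : Abs (XH V H R) (Wm V H R) P M₁)
    (hP : ∀ x : XH V H R, x ∈ P ↔ ∃ r : H, (r : Y) ∈ R ∧ pr V H R r = x) (hno : ANoOver (XH V H R) (Wm V H R))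
    {F : Type} [Field F] {k : ℕ} (N : AbsNat F (P : Subgroup (XH V H R)) (Wm V H R) k) :
    ∃ co : V → Fin k → Fin 2 → F, TwoN V U T M H (MulAut.conj t • H) R F k co (fun v => co (t⁻¹ • v)) t :=
  ⟨_, KNat.twoN amb a (KNat.of_abs amb a hA hP hno N) we⟩

end Cfsg.Agent.Omega.NO1.TH.K
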