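import Cfsg.Agent.Omega.NO1.TH.CaseC
import Cfsg.Agent.Omega.NO1.TH.Star

/-!
# N1: members of order 4 (bb OMEGA 21636 (0), helper593)

`Mem A E F`, `|A| = 4`: all non-zero commutators `[e, s]`, `e ∈ E`, `s ∈ A`, are equal (`Mem.four_eq`), and if one is
`≠ 0` then `C_V(b) = F ∪ (w + F)` for `1 ≠ b ∈ A`, `w ∈ C_V(b) - F` (`Mem.four_fix`).
-/

set_option autoImplicit false
set_option linter.unusedSectionVars false
set_option linter.dupNamespace false

namespace Cfsg.Agent.Omega.NO1.TH.K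

open Subgroup Cfsg.Agent.Omega.NO1.AB
open scoped Pointwise

universe u

variable {Y : Type u} [Group Y] {V : Type u} [AddCommGroup V] [DistribMulAction Y V]

theorem four_cases [Finite Y] {A : Subgroup Y} (h4 : Nat.card A = 4) {s r : Y} (hs : s ∈ A) (hr : r ∈ A)
    (s1 : s ≠ 1) (r1 : r ≠ 1) (sr : s ≠ r) (sq : s * s = 1) {x : Y} (hx : x ∈ A) :
    x = 1 ∨ x = s ∨ x = r ∨ x = s * r := by
  classical
  have hsub : ({1, s, r, s * r} : Set Y) ⊆ (A : Set Y) := by
    intro y hy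
    simp only [Set.mem_insert_iff, Set.mem_singleton_iff] at hy
    rcases hy with rfl | rfl | rfl | rfl
    · exact one_mem A
    · exact hs
    · exact hr
    · exact mul_mem hs hr
  have hcard : ({1, s, r, s * r} : Set Y).ncard = 4 := by
    have h1 : s * r ≠ 1 := by
      intro h
      apply sr
      calc s = s * (s * r) := by rw [h, mul_one]
        _ = r := by rw [← mul_assoc, sq, one_mul]
    have h2 : s * r ≠ s := fun h => r1 (by simpa using h)
    have h3 : s * r ≠ r := fun h => s1 (by simpa using h)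
    rw [Set.ncard_insert_of_notMem, Set.ncard_insert_of_notMem, Set.ncard_insert_of_notMem, Set.ncard_singleton]
    · simp only [Set.mem_singleton_iff]; exact h3.symm
    · simp only [Set.mem_insert_iff, Set.mem_singleton_iff, not_or]; exact ⟨sr, h2.symm⟩
    · simp only [Set.mem_insert_iff, Set.mem_singleton_iff, not_or]; exact ⟨s1.symm, r1.symm, h1.symm⟩
  have heq : ({1, s, r, s * r} : Set Y) = (A : Set Y) := by
    apply Set.eq_of_subset_of_ncard_le hsub _ (Set.toFinite _)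
    rw [hcard]
    have : (A : Set Y).ncard = Nat.card A := (Nat.card_coe_set_eq (A : Set Y)).symm
    rw [this, h4]
  have hx' : x ∈ (A : Set Y) := hx
  rw [← heq] at hx'
  simpa only [Set.mem_insert_iff, Set.mem_singleton_iff] using hx'

/-- `[w, x, y]` -/
def cc (w : V) (x y : Y) : V := y • (x • w + w) + (x • w + w)

section mem

variable {A : Subgroup Y} {E F : AddSubgroup V} (hm : Mem A E F) (h2 : ∀ v : V, v + v = 0) {w : V}
include hm h2

theorem cc_mem {x y : Y} (hx : x ∈ A) (hy : y ∈ A) : cc w x y ∈ F := hm.EB y hy _ (hm.VB x hx w)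

theorem cc_comm {x y : Y} (hx : x ∈ A) (hy : y ∈ A) : cc w x y = cc w y x := by
  unfold cc
  rw [smul_add, smul_add, ← mul_smul, ← mul_smul, hm.comm x hx y hy]
  abel

theorem cc_self {x : Y} (hx : x ∈ A) : cc w x x = 0 := by
  unfold cc
  rw [smul_add, ← mul_smul, hm.sq x hx, one_smul, add_comm w, h2]

theorem cc_one {x : Y} : cc w x 1 = 0 := by
  unfold cc
  rw [one_smul, h2]

theorem cc_mul {x y z : Y} (hx : x ∈ A) (hy : y ∈ A) (hz : z ∈ A) : cc w x (y * z) = cc w x y + cc w x z := by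
  have h3 := hm.FB y hy _ (cc_mem hm h2 (w := w) hx hz)
  -- `y c(x,z) = c(x,z)`
  have h4 : cc w x (y * z) = y • cc w x z + cc w x y := by
    unfold cc
    rw [mul_smul]
    have e : y • (z • (x • w + w) + (x • w + w)) + (y • (x • w + w) + (x • w + w)) =
        y • z • (x • w + w) + (y • (x • w + w) + y • (x • w + w)) + (x • w + w) := by
      rw [smul_add]; abel
    rw [e, h2, add_zero]
  rw [h4, h3, add_comm]

/-- `s_e = r` : `[e, s] = [w, r, s]` -/
theorem cc_eq {e : V} {r s : Y} (hs : s ∈ A) (hre : r • w + w + e ∈ F) : s • e + e = cc w r s := by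
  have h3 := hm.FB s hs _ hre
  have h4 : (s • e + e) + cc w r s = (s • (r • w + w + e)) + (r • w + w + e) := by
    unfold cc
    rw [smul_add s (r • w + w) e]; abel
  rw [h3, h2] at h4
  exact (HE.add_eq_zero' h2).1 h4

theorem cc_val [Finite Y] (h4 : Nat.card A = 4) {s r : Y} (hs : s ∈ A) (hr : r ∈ A)
    (s1 : s ≠ 1) (r1 : r ≠ 1) (sr : s ≠ r) {x y : Y} (hx : x ∈ A) (hy : y ∈ A) :
    cc w x y = 0 ∨ cc w x y = cc w s r := by
  have hsr := cc_comm hm h2 (w := w) hs hr
  have hss := cc_self hm h2 (w := w) hs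
  have hrr := cc_self hm h2 (w := w) hr
  -- `c(s, ·)`, `c(r, ·)`
  have k1 : ∀ y ∈ A, cc w s y = 0 ∨ cc w s y = cc w s r := by
    intro y hy
    rcases four_cases h4 hs hr s1 r1 sr (hm.sq s hs) hy with rfl | rfl | rfl | rfl
    · exact Or.inl (cc_one hm h2)
    · exact Or.inl hss
    · exact Or.inr rfl
    · right; rw [cc_mul hm h2 hs hs hr, hss, zero_add]
  have k2 : ∀ y ∈ A, cc w r y = 0 ∨ cc w r y = cc w s r := by
    intro y hy
    rcases four_cases h4 hs hr s1 r1 sr (hm.sq s hs) hy with rfl | rfl | rfl | rfl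
    · exact Or.inl (cc_one hm h2)
    · exact Or.inr hsr.symm
    · exact Or.inl hrr
    · right; rw [cc_mul hm h2 hr hs hr, hrr, add_zero, hsr]
  rcases four_cases h4 hs hr s1 r1 sr (hm.sq s hs) hx with rfl | rfl | rfl | rfl
  · left
    rw [cc_comm hm h2 hx hy]
    exact cc_one hm h2
  · exact k1 y hy
  · exact k2 y hy
  · rw [cc_comm hm h2 hx hy, cc_mul hm h2 hy hs hr, cc_comm hm h2 hy hs, cc_comm hm h2 hy hr]
    rcases k1 y hy with h5 | h5 <;> rcases k2 y hy with h6 | h6 <;> rw [h5, h6]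
    · left; rw [add_zero]
    · right; rw [zero_add]
    · right; rw [add_zero]
    · left; rw [h2]

end mem

/-- **all non-zero `[e, s]` are equal** -/
theorem four_eq [Finite Y] {A : Subgroup Y} {E F : AddSubgroup V} (hm : Mem A E F) (h2 : ∀ v : V, v + v = 0)
    (h4 : Nat.card A = 4) {s s' : Y} {e e' : V} (hs : s ∈ A) (hs' : s' ∈ A) (he : e ∈ E) (he' : e' ∈ E)
    (h : s • e ≠ e) (h' : s' • e' ≠ e') : s • e + e = s' • e' + e' := by
  obtain ⟨w, hw⟩ := hm.ne
  obtain ⟨r, hr, hre⟩ := hm.surj w hw e he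
  obtain ⟨r', hr', hre'⟩ := hm.surj w hw e' he'
  have k1 := cc_eq hm h2 hs hre
  have k2 := cc_eq hm h2 hs' hre'
  have n1 : cc w r s ≠ 0 := by
    rw [← k1]
    exact fun h3 => h ((HE.add_eq_zero' h2).1 h3)
  have n2 : cc w r' s' ≠ 0 := by
    rw [← k2]
    exact fun h3 => h' ((HE.add_eq_zero' h2).1 h3)
  have s1 : s ≠ 1 := by rintro rfl; exact n1 (cc_one hm h2)
  have r1 : r ≠ 1 := by
    rintro rfl
    apply n1
    rw [cc_comm hm h2 hr hs]
    exact cc_one hm h2
  have rs : r ≠ s := by rintro rfl; exact n1 (cc_self hm h2 hs)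
  rw [k1, k2]
  rcases cc_val hm h2 (w := w) h4 hr hs r1 s1 rs hr' hs' with h3 | h3
  · exact absurd h3 n2
  · exact h3.symm

/-- **`C_V(b) = F ∪ (w + F)`** -/
theorem four_fix [Finite Y] {A : Subgroup Y} {E F : AddSubgroup V} (hm : Mem A E F) (h2 : ∀ v : V, v + v = 0)
    (h4 : Nat.card A = 4) {s : Y} {e : V} (hs : s ∈ A) (he : e ∈ E) (h : s • e ≠ e) {b : Y} (hb : b ∈ A)
    (hb1 : b ≠ 1) {v v₀ : V} (hv : b • v = v) (hv₀ : b • v₀ = v₀) (hv₀F : v₀ ∉ F) : v ∈ F ∨ v + v₀ ∈ F := by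
  have hvE := mem_E_of_fix hm h2 hb hb1 hv
  have hv₀E := mem_E_of_fix hm h2 hb hb1 hv₀
  obtain ⟨w, hw⟩ := hm.ne
  obtain ⟨q, hq, hqe⟩ := hm.surj w hw e he
  have n1 : cc w q s ≠ 0 := by
    rw [← cc_eq hm h2 hs hqe]
    exact fun h3 => h ((HE.add_eq_zero' h2).1 h3)
  -- `s_v ∈ {1, b}` for `v ∈ C_V(b)`
  have key : ∀ v : V, b • v = v → ∀ r ∈ A, r • w + w + v ∈ F → r = 1 ∨ r = b := by
    intro v hv r hr hrv
    by_contra hcon
    push Not at hcon
    have h3 := cc_eq hm h2 hb hrv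
    rw [hv, h2] at h3
    rcases cc_val hm h2 (w := w) h4 hr hb hcon.1 hb1 hcon.2 hq hs with h5 | h5
    · exact n1 h5
    · rw [h5, ← h3] at n1; exact n1 rfl
  obtain ⟨r₀, hr₀, hrv₀⟩ := hm.surj w hw v₀ hv₀E
  obtain ⟨r, hr, hrv⟩ := hm.surj w hw v hvE
  have hr₀b : r₀ = b := by
    rcases key v₀ hv₀ r₀ hr₀ hrv₀ with h3 | h3
    · exfalso
      apply hv₀F
      rw [h3, one_smul, h2, zero_add] at hrv₀
      exact hrv₀
    · exact h3
  rcases key v hv r hr hrv with h3 | h3
  · left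
    rw [h3, one_smul, h2, zero_add] at hrv
    exact hrv
  · right
    rw [hr₀b] at hrv₀
    rw [h3] at hrv
    have h5 := F.add_mem hrv hrv₀
    have e1 : b • w + w + v + (b • w + w + v₀) = (b • w + b • w) + (w + w) + (v + v₀) := by abel
    rwa [e1, h2, h2, zero_add, zero_add] at h5

end Cfsg.Agent.Omega.NO1.TH.K
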