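import Cfsg.Agent.Omega.NO1.TH.K.Off
import Cfsg.Agent.Omega.NO1.TH.K.EOne

/-!
# N1-ONE, (B) of #19584, natural type (helper247 #20646): (g) and (e)

`A ≤ H` a member, opposite: `hO : Opp V H R co A I`; `hb` = (b) of #20646: `W ∩ W' ≤ W_J`.

* `TwoN.g_Q` : `s_y ∈ Q` for `y ∈ W' ∩ E_A`;
* `TwoN.g_fix` : `S₁` centralises `W' ∩ E_A`;
* `TwoN.e_triv` : the computation (a) for `B₁ = A ∩ Q` on `W'`;
* `TwoN.e_SK` : `S_X ≤ Q ∩ Q'` if `W' ≤ E_A`;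
* `TwoN.e_exact` : `B₁` acts on `W'` as `R'_Δ`, `Δ ≠ ∅`;
* `TwoN.e_CK` : `C_V(K) = W + W' + F_A`;
* `TwoN.e_card` : `|A| ≥ |F|⁴`, `|S_X| ≥ |F|²`.
-/

set_option autoImplicit false
set_option linter.unusedSectionVars false

namespace Cfsg.Agent.Omega.NO1.TH.K

open Subgroup Cfsg.Agent.Omega.NO1.AB Cfsg.Agent.Omega.FFBr Cfsg.Agent.Lib.SL2Mat
open Cfsg.Agent.Omega.NatPair (ap)
open scoped Pointwise

universe u

variable {Y : Type u} [Group Y] {V : Type u} [AddCommGroup V] [DistribMulAction Y V]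

/-- the computation (a) for a family `σ` with `[x, σ y] = [y, σ x]` -/
theorem KNat.triv_of {H R : Subgroup Y} {F : Type} [Field F] {k : ℕ} {co : V → Fin k → Fin 2 → F}
    (K : KNat V H R F k co) (two : ∀ v : V, v + v = 0) (hRH : R ≤ H) {B : Subgroup Y} (hBR : B ≤ R)
    {I : Set (Fin k)} (hS : Supp V H R co B I) (σ : V → Y) (h1 : ∀ y ∈ WW V H R, σ y ∈ B)
    (h2 : ∀ y ∈ WW V H R, σ y • y = y)
    (h3 : ∀ x ∈ WW V H R, ∀ y ∈ WW V H R, σ y • x + x = σ x • y + y) : ∀ y ∈ WW V H R, σ y ∈ QQ H R := by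
  intro y hy
  obtain ⟨b, hb0, hb⟩ := hS.act _ (h1 y hy)
  apply K.mem_Q_of_up_zero two hRH (hBR (h1 y hy)) hb
  intro i
  by_cases hi : co y i 1 = 0
  · obtain ⟨z, hz, hzi, _⟩ := K.exists_at i ![0, 1]
    have hz1 : co z i 1 = 1 := by rw [hzi]; rfl
    obtain ⟨c, hc0, hc⟩ := hS.act _ (h1 z hz)
    have h4 := h3 z hz y hy
    have h5 : co (σ y • z + z) i 0 = b i := by
      rw [K.add_apply (smul_mem_WW (hRH (hBR (h1 y hy))) hz) hz, hb.up_fst hz, hz1, hzi]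
      simp
    have h6 : co (σ z • y + y) i 0 = 0 := by
      rw [K.add_apply (smul_mem_WW (hRH (hBR (h1 z hz))) hy) hy, hc.up_fst hy, hi, mul_zero, add_zero]
      exact K.ff two i _
    rw [← h5, h4, h6]
  · have h4 := hb.up_fst hy i
    rw [h2 y hy] at h4
    rcases mul_eq_zero.1 (left_eq_add.1 h4) with h | h
    · exact h
    · exact absurd h hi

theorem card_le_fun {F : Type} [Finite F] {k : ℕ} {I : Set (Fin k)} (hI : I.Nonempty) :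
    Nat.card F ≤ Nat.card (I → F) := by
  obtain ⟨i, hi⟩ := hI
  exact Nat.card_le_card_of_injective (fun x : F => fun _ : I => x) fun x y hxy => congrFun hxy ⟨i, hi⟩

namespace TwoN

variable [Finite Y] [Finite V] {U : Set (Subgroup Y)} {T : Sylow 2 Y} {M H H' R : Subgroup Y} {F : Type} [Field F]
  {k : ℕ} {co co' : V → Fin k → Fin 2 → F} {t : Y} (h : TwoN V U T M H H' R F k co co' t)
include h

section g

variable (hb : ∀ v ∈ WW V H R, v ∈ WW V H' R → ∀ i, co v i 1 = 0) {A : Subgroup Y} (hA : A ∈ U) (hAH : A ≤ H)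
  {I : Set (Fin k)} (hO : Opp V H R co A I) {w : V} (hw : w ∉ Ee V A)
include hb hA hAH hO hw

/-- **(g)**: `s_y ∈ Q` for `y ∈ W' ∩ E_A` -/
theorem g_Q {y : V} (hy : y ∈ WW V H' R) {s : Y} (hs : s ∈ A)
    (h1 : s • w + w + y ∈ fx V A) : s ∈ QQ H R := by
  have hm := h.amb.cls.mem A hA
  have two := h.amb.two
  have hWE : WW V H R ≤ Ee V A := h.a.WW_le_Ee h.amb h.we hA hAH
  obtain ⟨b, hb0, hbs⟩ := hO.act s hs
  have h2 : s ∈ A ⊓ CW V H R := by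
    refine ⟨hs, fun x hx => ?_⟩
    refine h.K.trivH s (hAH hs) (fun x hx => ?_) x hx
    obtain ⟨r, hr, hrx⟩ := hm.surj w hw x (hWE hx)
    have h3 := mem_Q_of_shift h.K h.amb h.a h.we hA hAH hw hx hr hrx
    have h4 : s • x + x = r • y + y := s_symm two hm hr hs hrx h1
    have hsx := smul_mem_WW (hAH hs) hx
    have h5 : s • x + x ∈ WW V H' R := by
      rw [h4]
      exact add_mem (smul_mem_WW (h.a'.RH (QQ_le h3)) hy) hy
    refine h.K.co_eq_of_add two hsx hx ?_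
    funext i
    apply NatPair.ext2
    · rw [h.K.add_apply hsx hx, hbs.lo_fst hx]
      exact h.K.ff two i _
    · exact hb _ (add_mem hsx hx) h5 i
  rw [h.a.inf_CW' h.amb hA hAH] at h2
  exact h2.2

/-- **(g)**: `S₁` centralises `W' ∩ E_A` -/
theorem g_fix {y : V} (hy : y ∈ WW V H' R) (hyE : y ∈ Ee V A) {s : Y} (hs : s ∈ A)
    (h1 : s • w + w ∈ WW V H R ⊔ fx V A) : s • y = y := by
  have hm := h.amb.cls.mem A hA
  have two := h.amb.two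
  obtain ⟨x, hx, f, hf, hxf⟩ := AddSubgroup.mem_sup.1 h1
  have h2 : s • w + w + x ∈ fx V A := by
    rw [← hxf]
    have e : x + f + x = (x + x) + f := by abel
    rw [e, two, zero_add]
    exact hf
  obtain ⟨r, hr, hry⟩ := hm.surj w hw y hyE
  have h3 := h.g_Q hb hA hAH hO hw hy hr hry
  have h4 : r • x + x = s • y + y := s_symm two hm hs hr h2 hry
  rw [Amal.QQ_fix h.a h.amb h3 hx, two] at h4
  exact (HE.add_eq_zero' two).1 h4.symm

end g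

/-- `|A ∩ Q| |F|^|I| ≤ |A|` -/
theorem opp_card {A : Subgroup Y} (hA : A ∈ U) (hAH : A ≤ H) {I : Set (Fin k)} (hO : Opp V H R co A I) :
    Nat.card ↥(A ⊓ QQ H R) * Nat.card (I → F) ≤ Nat.card A := by
  have h1 := h.a.exact' h.amb h.we hA hAH
  have h2 : WW V H R ⊓ fx V A ≤ cut h.K I 0 := by
    rintro v ⟨hv, hf⟩
    exact ⟨hv, fun i hi => hO.fx_le hv hf hi⟩
  have h3 := Nat.card_le_card_of_injective _ (AddSubgroup.inclusion_injective h2)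
  have h4 := card_cut h.K I 0
  have h5 : 0 < Nat.card ↥(cut h.K I 0) := Nat.card_pos
  apply Nat.le_of_mul_le_mul_left _ h5
  calc Nat.card ↥(cut h.K I 0) * (Nat.card ↥(A ⊓ QQ H R) * Nat.card (I → F))
      = Nat.card ↥(cut h.K I 0) * Nat.card (I → F) * Nat.card ↥(A ⊓ QQ H R) := by ring
    _ = Nat.card A * Nat.card ↥(WW V H R ⊓ fx V A) := by rw [← h4, h1]
    _ ≤ Nat.card A * Nat.card ↥(cut h.K I 0) := Nat.mul_le_mul_left _ h3
    _ = _ := mul_comm _ _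

/-- `A ∩ Q ≰ Q'` -/
theorem not_le {A : Subgroup Y} (hA : A ∈ U) (hAH : A ≤ H) (hAM : ¬ A ≤ M) : ¬ A ⊓ QQ H R ≤ QQ H' R := by
  intro h1
  obtain ⟨b, hb, hb'⟩ := h.a.star h.amb h.we hA hAH hAM
  apply hb'
  have e : QQ H' R = MulAut.conj t • QQ H R := by
    have h2 := QQ_conj' (H := H) (R := R) t
    rw [conj_of_mem h.a.t_norm] at h2
    rw [h.H'_eq]
    exact h2
  rw [← e]
  exact h1 hb

/-- **(e)**: `B₁` acts on `W'` as `R'_Δ` -/
theorem e_exact {A : Subgroup Y} (hA : A ∈ U) (hAH : A ≤ H) (hAM : ¬ A ≤ M) (hE : WW V H' R ≤ Ee V A) :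
    ∃ Δ : Set (Fin k), Δ.Nonempty ∧ Supp V H' R co' (A ⊓ QQ H R) Δ := by
  have h1 := (Amal.e_one h.a h.a' h.amb h.we h.we' hA hAH hE).1
  exact h.K'.exists_supp_of h.amb.two h.a'.RH (inf_le_right.trans QQ_le)
    (ElAb.mono (Mem.elAb (h.amb.cls.mem A hA)) inf_le_left) (h.not_le hA hAH hAM) h1.le

section e

variable (hb : ∀ v ∈ WW V H R, v ∈ WW V H' R → ∀ i, co v i 1 = 0) {A : Subgroup Y} (hA : A ∈ U) (hAH : A ≤ H)
  (hAM : ¬ A ≤ M) {I : Set (Fin k)} (hO : Opp V H R co A I) (hE : WW V H' R ≤ Ee V A) {w : V} (hw : w ∉ Ee V A)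
include hb hA hAH hAM hO hE hw

/-- **(e)**: `S_X ≤ K` -/
theorem e_SK : ∀ s ∈ A, s • w + w ∈ WW V H R ⊔ WW V H' R ⊔ fx V A → s ∈ QQ H R ∧ s ∈ QQ H' R := by
  obtain ⟨Δ, _, hS⟩ := h.e_exact hA hAH hAM hE
  refine Amal.e_SK h.a h.a' h.amb h.we h.we' hA hAH hE hw ?_ ?_ ?_
  · intro s hs h1
    obtain ⟨x, hx, f, hf, hxf⟩ := AddSubgroup.mem_sup.1 h1
    refine mem_Q_of_shift h.K h.amb h.a h.we hA hAH hw hx hs ?_
    rw [← hxf]
    have e : x + f + x = (x + x) + f := by abel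
    rw [e, h.amb.two, zero_add]
    exact hf
  · intro s hs h1 y hy
    exact h.g_fix hb hA hAH hO hw hy (hE hy) hs h1
  · intro σ h1 h2 h3
    exact h.K'.triv_of h.amb.two h.a'.RH (inf_le_right.trans QQ_le) hS σ h1 h2 h3

/-- **(e)**: `C_V(K) = W + W' + F_A` -/
theorem e_CK (hAQ : ¬ A ≤ QQ H R) :
    fx V (A ⊓ QQ H R ⊓ QQ H' R) = WW V H R ⊔ WW V H' R ⊔ fx V A :=
  Amal.e_CK h.a h.a' h.amb h.we h.we' hA hAH hE hw hAQ (h.not_le hA hAH hAM)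
    (h.e_SK hb hA hAH hAM hO hE hw)

/-- **(e)**: `|A| ≥ |F|⁴`, `|S_X| ≥ |F|²` -/
theorem e_card [Finite F] (hI : I.Nonempty) :
    Nat.card F ^ 2 ≤ Nat.card {s : Y // s ∈ A ∧ s • w + w ∈ WW V H R ⊔ WW V H' R ⊔ fx V A} ∧
      Nat.card F ^ 4 ≤ Nat.card A := by
  obtain ⟨Δ, hΔ, hS⟩ := h.e_exact hA hAH hAM hE
  have h1 := Amal.e_S h.a h.a' h.amb h.we h.we' hA hAH hE hw
  have h2 := h.opp_card hA hAH hO
  have h3 : Nat.card ↥(A ⊓ QQ H R) = Nat.card ↥(A ⊓ QQ H R ⊓ QQ H' R) * Nat.card (Δ → F) :=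
    hS.card h.K' h.amb.two h.a'.RH (Q_fix h.amb h.a') (inf_le_right.trans QQ_le)
  have h4 : Nat.card {s : Y // s ∈ A ∧ s • w + w ∈ WW V H R ⊔ WW V H' R ⊔ fx V A} ≤
      Nat.card ↥(A ⊓ QQ H R ⊓ QQ H' R) := by
    have hSK := h.e_SK hb hA hAH hAM hO hE hw
    apply Nat.card_le_card_of_injective
      (fun s : {s : Y // s ∈ A ∧ s • w + w ∈ WW V H R ⊔ WW V H' R ⊔ fx V A} =>
        (⟨s, ⟨s.2.1, (hSK s s.2.1 s.2.2).1⟩, (hSK s s.2.1 s.2.2).2⟩ : ↥(A ⊓ QQ H R ⊓ QQ H' R)))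
    intro s r hsr
    exact Subtype.ext (congrArg (fun z : ↥(A ⊓ QQ H R ⊓ QQ H' R) => (z : Y)) hsr)
  have h5 : Nat.card F ≤ Nat.card (I → F) := card_le_fun hI
  have h6 : Nat.card F ≤ Nat.card (Δ → F) := card_le_fun hΔ
  set κ := Nat.card ↥(A ⊓ QQ H R ⊓ QQ H' R) with hκ
  set σ := Nat.card {s : Y // s ∈ A ∧ s • w + w ∈ WW V H R ⊔ WW V H' R ⊔ fx V A} with hσ
  have h7 : 0 < κ := Nat.card_pos
  have h8 : Nat.card F ^ 2 ≤ σ := by
    apply Nat.le_of_mul_le_mul_left _ h7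
    calc κ * Nat.card F ^ 2 = κ * Nat.card F * Nat.card F := by ring
      _ ≤ κ * Nat.card (Δ → F) * Nat.card (I → F) := Nat.mul_le_mul (Nat.mul_le_mul_left _ h6) h5
      _ ≤ Nat.card A := by rw [← h3]; exact h2
      _ = κ * σ := h1.symm
  refine ⟨h8, ?_⟩
  calc Nat.card F ^ 4 = Nat.card F ^ 2 * Nat.card F ^ 2 := by ring
    _ ≤ κ * σ := Nat.mul_le_mul (h8.trans h4) h8
    _ = Nat.card A := h1

end e

end TwoN

end Cfsg.Agent.Omega.NO1.TH.K
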