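import Cfsg.Agent.Omega.NO1.TH.K.DD
import Cfsg.Agent.Omega.NO1.TH.K.L2Kill

/-!
# N1, natural type, `k ≥ 2`: an opposite member `A` has `W' ≤ E_A` ((L2) of bb OMEGA 20646)

`TwoN.dd` : (d) for all opposite members; `TwoN.le_Ee` : `W' ≤ E_A` for every opposite member `A ≤ H` if `k ≥ 2`.
-/

set_option autoImplicit false
set_option linter.unusedSectionVars false
set_option linter.dupNamespace false

namespace Cfsg.Agent.Omega.NO1.TH.K

open Subgroup Cfsg.Agent.Omega.NO1.AB Cfsg.Agent.Lib.SL2Mat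
open scoped Pointwise

universe u

variable {Y : Type u} [Group Y] {V : Type u} [AddCommGroup V] [DistribMulAction Y V]

namespace TwoN

variable [Finite Y] [Finite V] {U : Set (Subgroup Y)} {T : Sylow 2 Y} {M H H' R : Subgroup Y} {F : Type} [Field F]
  [Finite F] {k : ℕ} {co co' : V → Fin k → Fin 2 → F} {t : Y} (h : TwoN V U T M H H' R F k co co' t)
include h

/-- (d) for all opposite members -/
theorem dd (hc : ∀ B ∈ U, Nat.card B = Nat.card F ^ 2 ∧ (Ee V B).index = Nat.card F) :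
    DD V U H H' R co co' := by
  intro B hB hBR hBQ g hg hgA
  obtain ⟨h1, i, j, h2, _, h3, h4, h5, h6, h7, h8⟩ := h.d_out hc hB hBR hBQ hg hgA
  exact ⟨h1, i, j, ⟨h2, h3, h4, h5, h6, h7, h8⟩⟩

/-- **(L2)**: `W' ≤ E_A` for every opposite member `A ≤ H` if `k ≥ 2` -/
theorem le_Ee {a : ℕ} (w : World V U T M a) (hk : 2 ≤ k) {A : Subgroup Y} (hA : A ∈ U) (hAH : A ≤ H)
    {I : Set (Fin k)} (hI : I.Nonempty) (hO : Opp V H R co A I) : WW V H' R ≤ Ee V A := by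
  by_contra hW
  have hc := h.d_all hA hAH (hO.not_le h.K h.amb h.a hAH hI) hO hW
  exact lTwo h w hk (h.dd hc) (h.swap.dd hc)

/-- there is an opposite member `A ≤ H`, `A ≰ M`, `W' ≤ E_A` -/
theorem exists_opp_le {a : ℕ} (w : World V U T M a) (hk : 2 ≤ k) :
    ∃ A ∈ U, A ≤ H ∧ ¬ A ≤ M ∧ (∃ I : Set (Fin k), I.Nonempty ∧ Opp V H R co A I) ∧ WW V H' R ≤ Ee V A := by
  obtain ⟨B, hB, hBR, hBQ⟩ := Amal.exists_not_QQ h.a h.amb
  obtain ⟨I, hI, hS⟩ := exists_supp h.K h.amb h.a h.we hB hBR hBQ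
  have hBH := hBR.trans h.a.RH
  obtain ⟨g, hg, _, hO⟩ := exists_opp h.K hBH hS
  have hAH : MulAut.conj g • B ≤ H := by
    intro x hx
    rw [mem_conj] at hx
    have h1 := H.mul_mem (H.mul_mem hg (hBH hx)) (H.inv_mem hg)
    have e : g * (g⁻¹ * x * g) * g⁻¹ = x := by group
    rwa [e] at h1
  have hA := h.amb.cls.conj B hB g
  exact ⟨_, hA, hAH, hO.not_le h.K h.amb h.a hAH hI, ⟨I, hI, hO⟩, h.le_Ee w hk hA hAH hI hO⟩

end TwoN

end Cfsg.Agent.Omega.NO1.TH.K
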