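import Cfsg.Agent.Omega.NO1.TH.K.Root
import Cfsg.Agent.Omega.NO1.TH.K.EOne
import Cfsg.Agent.Omega.NO1.TH.KOneB
import Cfsg.Agent.Omega.NO1.TH.Stmt
import Cfsg.Agent.Omega.NO1.B0.PF

/-!
# N1, natural type, `k ≥ 2`, case (d) of bb OMEGA 20646: (L2) (bb OMEGA 20937, helper476; 20981, helper411), part A

All members have order `|F|²` and `|V : E| = |F|`.
* `card_S`, `S_mem_Q`, `supp_one`, `card_Q`, `S_eq` : `|I(U)| = 1`, `|U ∩ Q| = |F|`, `S_W = U ∩ Q`;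
* `exists_eq` : `u e + e = r x + x`, `x ∈ W - F` (PF equality);
* `TwoN.g_fix'` : (g) of #20646;
* `TwoN.not_le`, `TwoN.inf_le_fx`, `TwoN.supp'` : the outputs of (d) for every opposite member.
-/

set_option autoImplicit false
set_option linter.unusedSectionVars false
set_option linter.dupNamespace false

namespace Cfsg.Agent.Omega.NO1.TH.K

open Subgroup Cfsg.Agent.Omega.NO1.AB Cfsg.Agent.Omega.FFBr Cfsg.Agent.Lib.SL2Mat
open Cfsg.Agent.Omega.NatPair (ap)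
open scoped Pointwise

universe u

variable {Y : Type u} [Group Y] {V : Type u} [AddCommGroup V] [DistribMulAction Y V]

section one

variable [Finite Y] [Finite V] {U : Set (Subgroup Y)} {T : Sylow 2 Y} {M H R : Subgroup Y} {t : Y} {F : Type} [Field F]
  {k : ℕ} {co : V → Fin k → Fin 2 → F}

/-- `|S_W| |A ∩ Q| = |A|` -/
theorem card_S (amb : Amb V U T M) (a : Amal U T M H R t) (we : WE V U H R) {A : Subgroup Y} (hA : A ∈ U)
    (hAH : A ≤ H) {w : V} (hw : w ∉ Ee V A) :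
    Nat.card {s : Y // s ∈ A ∧ s • w + w ∈ WW V H R ⊔ fx V A} * Nat.card ↥(A ⊓ QQ H R) = Nat.card A := by
  have hm := amb.cls.mem A hA
  have h1 := card_SX amb.two hm hw (X := WW V H R ⊔ fx V A) le_sup_right
    (sup_le (Amal.WW_le_Ee a amb we hA hAH) hm.FE)
  have h2 := card_sup_as (WW V H R) (fx V A)
  have h3 := a.exact' amb we hA hAH
  have h4 : 0 < Nat.card ↥(fx V A) := Nat.card_pos
  have h5 : 0 < Nat.card ↥(WW V H R ⊓ fx V A) := Nat.card_pos
  set S := Nat.card {s : Y // s ∈ A ∧ s • w + w ∈ WW V H R ⊔ fx V A} with hS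
  have h6 : S * Nat.card ↥(WW V H R ⊓ fx V A) = Nat.card ↥(WW V H R) := by
    apply Nat.eq_of_mul_eq_mul_left h4
    calc Nat.card ↥(fx V A) * (S * Nat.card ↥(WW V H R ⊓ fx V A))
        = (Nat.card ↥(fx V A) * S) * Nat.card ↥(WW V H R ⊓ fx V A) := by ring
      _ = Nat.card ↥(WW V H R) * Nat.card ↥(fx V A) := by rw [← h1, h2]
      _ = _ := by ring
  apply Nat.eq_of_mul_eq_mul_right h5
  calc S * Nat.card ↥(A ⊓ QQ H R) * Nat.card ↥(WW V H R ⊓ fx V A)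
      = S * Nat.card ↥(WW V H R ⊓ fx V A) * Nat.card ↥(A ⊓ QQ H R) := by ring
    _ = _ := by rw [h6, h3]

theorem exists_x_of_sup (two : ∀ v : V, v + v = 0) {A : Subgroup Y} {W : AddSubgroup V} {w : V} {s : Y}
    (hs : s • w + w ∈ W ⊔ fx V A) : ∃ x ∈ W, s • w + w + x ∈ fx V A := by
  rw [AddSubgroup.mem_sup] at hs
  obtain ⟨x, hx, f, hf, hxf⟩ := hs
  refine ⟨x, hx, ?_⟩
  rw [← hxf]
  have e : x + f + x = x + x + f := by abel
  rw [e, two, zero_add]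
  exact hf

/-- `S_W ≤ Q` -/
theorem S_mem_Q (K : KNat V H R F k co) (amb : Amb V U T M) (a : Amal U T M H R t) (we : WE V U H R)
    {A : Subgroup Y} (hA : A ∈ U) (hAH : A ≤ H) {w : V} (hw : w ∉ Ee V A) {s : Y} (hs : s ∈ A)
    (h : s • w + w ∈ WW V H R ⊔ fx V A) : s ∈ QQ H R := by
  obtain ⟨x, hx, h1⟩ := exists_x_of_sup amb.two h
  exact mem_Q_of_shift K amb a we hA hAH hw hx hs h1

theorem card_S_le (K : KNat V H R F k co) (amb : Amb V U T M) (a : Amal U T M H R t) (we : WE V U H R)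
    {A : Subgroup Y} (hA : A ∈ U) (hAH : A ≤ H) {w : V} (hw : w ∉ Ee V A) :
    Nat.card {s : Y // s ∈ A ∧ s • w + w ∈ WW V H R ⊔ fx V A} ≤ Nat.card ↥(A ⊓ QQ H R) := by
  refine Nat.card_le_card_of_injective
    (fun s => (⟨s.1, s.2.1, S_mem_Q K amb a we hA hAH hw s.2.1 s.2.2⟩ : ↥(A ⊓ QQ H R))) ?_
  intro s r hsr
  exact Subtype.ext (congrArg (fun z : ↥(A ⊓ QQ H R) => (z : Y)) hsr)

theorem card_Q_conj (x : Y) (hx : x ∈ H) (A : Subgroup Y) :
    Nat.card ↥(MulAut.conj x • A ⊓ QQ H R) = Nat.card ↥(A ⊓ QQ H R) := by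
  have h1 : MulAut.conj x • QQ H R = QQ H R := conj_of_mem fun _ hq => conj_mem_QQ hx hq
  rw [← conj_card x (A ⊓ QQ H R), conj_inf, h1]

theorem conj_le_Q {x : Y} (hx : x ∈ H) {A : Subgroup Y} : MulAut.conj x • A ≤ QQ H R ↔ A ≤ QQ H R := by
  have h1 : MulAut.conj x • QQ H R = QQ H R := conj_of_mem fun _ hq => conj_mem_QQ hx hq
  have h2 := conj_le_conj_iff (H := A) (K := QQ H R) x
  rwa [h1] at h2

/-- **`|I(U)| = 1`, `|U ∩ Q| = |F|`** for `U ≤ R` -/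
theorem supp_one [Finite F] (K : KNat V H R F k co) (amb : Amb V U T M) (a : Amal U T M H R t) (we : WE V U H R)
    (hc : ∀ B ∈ U, Nat.card B = Nat.card F ^ 2) {B : Subgroup Y} (hB : B ∈ U) (hBR : B ≤ R)
    (hBQ : ¬ B ≤ QQ H R) : ∃ i, Supp V H R co B {i} ∧ Nat.card ↥(B ⊓ QQ H R) = Nat.card F := by
  obtain ⟨I, ⟨i, hi⟩, hS⟩ := exists_supp K amb a we hB hBR hBQ
  have hBH := hBR.trans a.RH
  have h1 := member_card K amb a hBR hS
  obtain ⟨w, hw⟩ := (amb.cls.mem B hB).ne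
  have h2 := card_S amb a we hB hBH hw
  have h3 := card_S_le K amb a we hB hBH hw
  set S := Nat.card {s : Y // s ∈ B ∧ s • w + w ∈ WW V H R ⊔ fx V B} with hS'
  have hq : 0 < Nat.card ↥(B ⊓ QQ H R) := Nat.card_pos
  have hf : 1 < Nat.card F := Finite.one_lt_card
  rw [hc B hB] at h1 h2
  have h4 : S = Nat.card (I → F) := by
    apply Nat.eq_of_mul_eq_mul_right hq
    rw [h2, h1, mul_comm]
  -- `|I → F| = |F| ^ |I|`
  have h5 : Nat.card (I → F) = Nat.card F ^ Nat.card I := by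
    rw [Nat.card_fun]
  have h6 : 1 ≤ Nat.card I := by
    have : Nonempty I := ⟨⟨i, hi⟩⟩
    exact Nat.card_pos
  have h7 : Nat.card F ≤ Nat.card (I → F) := by
    rw [h5]
    exact Nat.le_self_pow (by omega) _
  have h8 : Nat.card ↥(B ⊓ QQ H R) ≤ Nat.card F := by
    by_contra hcon
    push Not at hcon
    have h9 : Nat.card F * Nat.card F < Nat.card ↥(B ⊓ QQ H R) * Nat.card (I → F) :=
      Nat.mul_lt_mul_of_lt_of_le hcon h7 (by omega)
    rw [← h1, pow_two] at h9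
    exact lt_irrefl _ h9
  have h9 : Nat.card (I → F) = Nat.card F := by
    rw [← h4] at h7 ⊢
    exact le_antisymm (h3.trans h8) h7
  have h10 : Nat.card ↥(B ⊓ QQ H R) = Nat.card F := by
    rw [h9, pow_two] at h1
    exact (Nat.eq_of_mul_eq_mul_right (by omega) h1).symm
  have h11 : Nat.card I = 1 := by
    rw [h5] at h9
    have h12 : Nat.card F ^ Nat.card I = Nat.card F ^ 1 := by rw [h9, pow_one]
    exact Nat.pow_right_injective hf h12
  have h12 : I = {i} := by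
    rw [Nat.card_eq_one_iff_unique] at h11
    obtain ⟨hsub, _⟩ := h11
    ext j
    constructor
    · intro hj
      exact congrArg Subtype.val (Subsingleton.elim (⟨j, hj⟩ : I) ⟨i, hi⟩)
    · rintro rfl
      exact hi
  rw [h12] at hS
  exact ⟨i, hS, h10⟩

theorem card_Q [Finite F] (K : KNat V H R F k co) (amb : Amb V U T M) (a : Amal U T M H R t) (we : WE V U H R)
    (hc : ∀ B ∈ U, Nat.card B = Nat.card F ^ 2) {A : Subgroup Y} (hA : A ∈ U) (hAH : A ≤ H)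
    (hAQ : ¬ A ≤ QQ H R) : Nat.card ↥(A ⊓ QQ H R) = Nat.card F := by
  obtain ⟨x, hx, hxU, hxR⟩ := Amal.exists_conj a amb hA hAH
  obtain ⟨i, _, h1⟩ := supp_one K amb a we hc hxU hxR fun h => hAQ ((conj_le_Q hx).1 h)
  rwa [card_Q_conj x hx] at h1

/-- **`S_W = A ∩ Q`** -/
theorem S_eq [Finite F] (K : KNat V H R F k co) (amb : Amb V U T M) (a : Amal U T M H R t) (we : WE V U H R)
    (hc : ∀ B ∈ U, Nat.card B = Nat.card F ^ 2) {A : Subgroup Y} (hA : A ∈ U) (hAH : A ≤ H)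
    (hAQ : ¬ A ≤ QQ H R) {w : V} (hw : w ∉ Ee V A) {s : Y} (hs : s ∈ A) (hsQ : s ∈ QQ H R) :
    ∃ x ∈ WW V H R, s • w + w + x ∈ fx V A := by
  apply exists_x_of_sup amb.two
  have h1 := card_Q K amb a we hc hA hAH hAQ
  have h2 := card_S amb a we hA hAH hw
  have hf : 0 < Nat.card F := Nat.card_pos
  have h3 : Nat.card {s : Y // s ∈ A ∧ s • w + w ∈ WW V H R ⊔ fx V A} = Nat.card ↥(A ⊓ QQ H R) := by
    rw [h1]
    rw [h1, hc A hA, pow_two] at h2
    exact Nat.eq_of_mul_eq_mul_right hf h2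
  let f : {s : Y // s ∈ A ∧ s • w + w ∈ WW V H R ⊔ fx V A} → ↥(A ⊓ QQ H R) :=
    fun s => ⟨s.1, s.2.1, S_mem_Q K amb a we hA hAH hw s.2.1 s.2.2⟩
  have hf1 : Function.Injective f := by
    intro s r hsr
    exact Subtype.ext (congrArg (fun z : ↥(A ⊓ QQ H R) => (z : Y)) hsr)
  have hf2 : Function.Bijective f := by
    rw [Nat.bijective_iff_injective_and_card]
    exact ⟨hf1, h3⟩
  obtain ⟨r, hr⟩ := hf2.2 ⟨s, hs, hsQ⟩
  have h4 : r.1 = s := congrArg Subtype.val hr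
  rw [← h4]
  exact r.2.2

/-- PF equality: `[E, A] = [x, A]` for `x ∈ E - F` -/
theorem exists_eq (two : ∀ v : V, v + v = 0) {A : Subgroup Y} {E F₀ : AddSubgroup V} (hm : Mem A E F₀)
    (hc : Nat.card A = E.index ^ 2) {x : V} (hx : x ∈ E) (hxF : x ∉ F₀) {u : Y} (hu : u ∈ A) {e : V} (he : e ∈ E) :
    ∃ r ∈ A, u • e + e = r • x + x := by
  obtain ⟨w, hw⟩ := hm.ne
  obtain ⟨s, hs, hsx⟩ := hm.surj w hw x hx
  have hs1 : s ≠ 1 := by
    rintro rfl
    rw [one_smul, two, zero_add] at hsx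
    exact hxF hsx
  obtain ⟨e', he', h1⟩ := B0.pf_eq hm two hc hs hs1 hu he
  obtain ⟨r, hr, hre⟩ := hm.surj w hw e' he'
  refine ⟨r, hr, ?_⟩
  rw [h1]
  exact (s_symm two hm hs hr hsx hre).symm

/-- `[E, A] ≤ W` for active members -/
theorem comm_mem_W (amb : Amb V U T M) (a : Amal U T M H R t) (we : WE V U H R)
    (hc : ∀ B ∈ U, Nat.card B = (Ee V B).index ^ 2) {A : Subgroup Y} (hA : A ∈ U) (hAH : A ≤ H)
    (hAQ : ¬ A ≤ QQ H R) {u : Y} (hu : u ∈ A) {e : V} (he : e ∈ Ee V A) : u • e + e ∈ WW V H R := by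
  have hm := amb.cls.mem A hA
  have h1 : ∃ x ∈ WW V H R, x ∉ fx V A := by
    by_contra hcon
    push Not at hcon
    apply hAQ
    intro b hb
    have h2 : b ∈ A ⊓ CW V H R := ⟨hb, fun w hw => hcon w hw b hb⟩
    rw [Amal.inf_CW' a amb hA hAH] at h2
    exact h2.2
  obtain ⟨x, hx, hxF⟩ := h1
  obtain ⟨r, hr, h2⟩ := exists_eq amb.two hm (hc A hA) (Amal.WW_le_Ee a amb we hA hAH hx) hxF hu he
  rw [h2]
  exact add_mem (smul_mem_WW (hAH hr) hx) hx

end one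

end Cfsg.Agent.Omega.NO1.TH.K
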