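import Cfsg.Agent.Omega.NO1.TH.K.Base
import Cfsg.Agent.Omega.NO1.TH.Stmt
import Cfsg.Agent.Omega.NO1.TH.CaseC

/-!
# N1-ONE, natural type: the output of (d) of bb OMEGA 20646, and first consequences (bb OMEGA 20937, helper476)

`DOut B A i j` : the output of (d) for the opposite member `A = B^g`, `B ≤ R` : `B` acts on `W` as the root group
`R_i`, `|B| = c²`, `A ∩ Q` has order `c = |F|` and acts on `W'` as the root group `R'_j`, `V = W' + E_A`,
`W' ∩ E_A ≤ C(A ∩ Q)`, `A ∩ Q = {s_x | x ∈ W}`.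
`DD` : this holds for all members `B ≤ R`, `B ≰ Q`, and all `g` which act on all blocks as `w`.

`II = [W, J]`, `J` the join of the members in `R`.
* `MB` : the consequences for `B ≤ R` itself: `[V, B ∩ Q] ≤ W + I'`, `[V, B ∩ Q, B ∩ Q] = 0`, `C_V(b) = W + F_B`.
-/

set_option autoImplicit false
set_option linter.unusedSectionVars false
set_option linter.dupNamespace false

namespace Cfsg.Agent.Omega.NO1.TH.K

open Subgroup Cfsg.Agent.Omega.NO1.AB Cfsg.Agent.Omega.FFBr Cfsg.Agent.Lib.SL2Mat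
open Cfsg.Agent.Omega.NatPair (ap)
open scoped Pointwise

universe u

variable {Y : Type u} [Group Y] {V : Type u} [AddCommGroup V] [DistribMulAction Y V]

/-- the output of (d) of #20646 for the opposite member `A` of `B ≤ R` -/
structure DOut (V : Type u) [AddCommGroup V] [DistribMulAction Y V] (H H' R : Subgroup Y) {F : Type} [Field F] {k : ℕ}
    (co co' : V → Fin k → Fin 2 → F) (B A : Subgroup Y) (i j : Fin k) : Prop where
  supp : Supp V H R co B {i}
  supp' : Supp V H' R co' (A ⊓ QQ H R) {j}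
  card : Nat.card A = Nat.card F ^ 2
  cardB : Nat.card ↥(A ⊓ QQ H R) = Nat.card F
  top : WW V H' R ⊔ Ee V A = ⊤
  inf : ∀ v ∈ WW V H' R, v ∈ Ee V A → v ∈ fx V (A ⊓ QQ H R)
  shift : ∀ s ∈ A ⊓ QQ H R, ∀ w, w ∉ Ee V A → ∃ x ∈ WW V H R, s • w + w + x ∈ fx V A

/-- (d) of #20646 holds for all opposite members (of the side `H`) -/
def DD (V : Type u) [AddCommGroup V] [DistribMulAction Y V] (U : Set (Subgroup Y)) (H H' R : Subgroup Y) {F : Type}
    [Field F] {k : ℕ} (co co' : V → Fin k → Fin 2 → F) : Prop :=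
  ∀ B ∈ U, B ≤ R → ¬ B ≤ QQ H R → ∀ g ∈ H, (Acts V H R co g fun _ => wm 1 one_ne_zero) →
    R ⊔ MulAut.conj g • B = H ∧ ∃ i j, DOut V H H' R co co' B (MulAut.conj g • B) i j

/-- `[W, J]` -/
def II (V : Type u) [AddCommGroup V] [DistribMulAction Y V] (U : Set (Subgroup Y)) (H R : Subgroup Y) : AddSubgroup V :=
  AddSubgroup.closure {v | ∃ B ∈ U, B ≤ R ∧ ∃ b ∈ B, ∃ w ∈ WW V H R, v = b • w + w}

section one

variable {U : Set (Subgroup Y)} {T : Sylow 2 Y} {M H H' R : Subgroup Y} {t : Y} {F : Type} [Field F]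
  {k : ℕ} {co co' : V → Fin k → Fin 2 → F}

theorem Supp.mem_iff (K : KNat V H R F k co) {B : Subgroup Y} {I : Set (Fin k)} {i : Fin k}
    (h1 : Supp V H R co B I) (h2 : Supp V H R co B {i}) {l : Fin k} (hl : l ∈ I) : l = i := by
  classical
  by_contra hne
  obtain ⟨u, hu, h3⟩ := h1.full (Pi.single l 1) fun m hm => by
    rw [Pi.single_eq_of_ne]
    rintro rfl
    exact hm hl
  obtain ⟨b, hb0, hb⟩ := h2.act u hu
  have h4 := congrFun (K.up_inj h3 hb) l
  rw [Pi.single_eq_same, hb0 l (by simpa using hne)] at h4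
  exact one_ne_zero h4

theorem II_le_WW (hRH : R ≤ H) : II V U H R ≤ WW V H R := by
  refine (AddSubgroup.closure_le _).2 ?_
  rintro _ ⟨B, -, hBR, b, hb, w, hw, rfl⟩
  exact add_mem (smul_mem_WW (hRH (hBR hb)) hw) hw

theorem smul_mem_II (hc : Cls V U) (hRH : R ≤ H) {r : Y} (hr : r ∈ R) {v : V} (hv : v ∈ II V U H R) :
    r • v ∈ II V U H R := by
  induction hv using AddSubgroup.closure_induction with
  | mem v hv =>
    obtain ⟨B, hB, hBR, b, hb, w, hw, rfl⟩ := hv
    refine AddSubgroup.subset_closure ⟨MulAut.conj r • B, hc.conj B hB r, ?_, r * b * r⁻¹, conj_mem_conj hb, r • w,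
      smul_mem_WW (hRH hr) hw, ?_⟩
    · intro x hx
      rw [mem_conj] at hx
      have h1 := R.mul_mem (R.mul_mem hr (hBR hx)) (R.inv_mem hr)
      have e : r * (r⁻¹ * x * r) * r⁻¹ = x := by group
      rwa [e] at h1
    · rw [smul_add, ← mul_smul, ← mul_smul]
      congr 2
      group
  | zero => rw [smul_zero]; exact zero_mem _
  | add a b _ _ h1 h2 => rw [smul_add]; exact add_mem h1 h2
  | neg a _ h1 => rw [smul_neg]; exact neg_mem h1

variable [Finite Y] [Finite V]

theorem II_line (K : KNat V H R F k co) (amb : Amb V U T M) (a : Amal U T M H R t) (we : WE V U H R)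
    {v : V} (hv : v ∈ II V U H R) (l : Fin k) : co v l 1 = 0 := by
  have key : v ∈ WW V H R ∧ co v l 1 = 0 := by
    refine AddSubgroup.closure_induction ?_ ?_ ?_ ?_ hv
    · rintro _ ⟨B, hB, hBR, b, hb, w, hw, rfl⟩
      have hbH := a.RH (hBR hb)
      refine ⟨add_mem (smul_mem_WW hbH hw) hw, ?_⟩
      by_cases hQ : B ≤ QQ H R
      · rw [Amal.QQ_fix a amb (hQ hb) hw, amb.two, K.zero]; rfl
      · obtain ⟨I, _, hS⟩ := exists_supp K amb a we hB hBR hQ
        obtain ⟨β, _, hβ⟩ := hS.act b hb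
        rw [K.add_apply (smul_mem_WW hbH hw) hw, hβ.up_snd hw, K.ff amb.two l]
    · exact ⟨zero_mem _, by rw [K.zero]; rfl⟩
    · rintro x y - - ⟨hx, hx'⟩ ⟨hy, hy'⟩
      exact ⟨add_mem hx hy, by rw [K.add_apply hx hy, hx', hy', add_zero]⟩
    · rintro x - ⟨hx, hx'⟩
      refine ⟨neg_mem hx, ?_⟩
      rw [K.neg hx, Pi.neg_apply, Pi.neg_apply, hx', neg_zero]
  exact key.2

theorem exists_single_member (K : KNat V H R F k co) (amb : Amb V U T M) (a : Amal U T M H R t) (we : WE V U H R)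
    (hD : DD V U H H' R co co') (l : Fin k) : ∃ B ∈ U, B ≤ R ∧ ¬ B ≤ QQ H R ∧ Supp V H R co B {l} := by
  obtain ⟨B, hB, hBR, hBQ, I, hl, hI⟩ := exists_member_at K amb a we l
  obtain ⟨g, hg, hgA⟩ := K.lift fun _ => wm 1 one_ne_zero
  obtain ⟨-, i, j, d⟩ := hD B hB hBR hBQ g hg hgA
  have h1 := Supp.mem_iff K hI d.supp hl
  subst h1
  exact ⟨B, hB, hBR, hBQ, d.supp⟩

/-- two elements of `H` with the same unipotent action act on `W` in the same way -/
theorem eq_of_up (K : KNat V H R F k co) (two : ∀ v : V, v + v = 0) {g u : Y} (hg : g ∈ H) (hu : u ∈ H)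
    (huu : u * u = 1) {b : Fin k → F} (h1 : Acts V H R co g fun i => up (b i)) (h2 : Acts V H R co u fun i => up (b i))
    {w : V} (hw : w ∈ WW V H R) : g • w = u • w := by
  have h3 := h2.up_mul hg h1
  have h4 : Acts V H R co (u * g) fun _ => 1 := by
    have e : (fun i => up (b i + b i)) = fun _ : Fin k => (1 : Matrix.SpecialLinearGroup (Fin 2) F) := by
      funext i
      rw [K.ff two i, up_zero]
    rwa [e] at h3
  have h5 := K.fix_of_one h4 (H.mul_mem hu hg) hw
  have h6 : u • (u * g) • w = g • w := by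
    rw [← mul_smul, ← mul_assoc, huu, one_mul]
  rw [← h6, h5]

/-- an element acting as a root element at `l` fixes the vectors with coordinate `0` at `(l, 1)` -/
theorem root_fix [Finite F] (K : KNat V H R F k co) (amb : Amb V U T M) (a : Amal U T M H R t) (we : WE V U H R)
    (hD : DD V U H H' R co co') {l : Fin k} {g : Y} (hg : g ∈ H) {b : Fin k → F} (hb : ∀ i, i ≠ l → b i = 0)
    (hA : Acts V H R co g fun i => up (b i)) {w : V} (hw : w ∈ WW V H R) (h0 : co w l 1 = 0) : g • w = w := by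
  obtain ⟨B, hB, hBR, hBQ, hS⟩ := exists_single_member K amb a we hD l
  obtain ⟨u, hu, huA⟩ := hS.full b fun i hi => hb i (by simpa using hi)
  have hm := amb.cls.mem B hB
  rw [eq_of_up K amb.two hg (a.RH (hBR hu)) (hm.sq u hu) hA huA hw]
  have h1 : w ∈ fx V B := (member_fx_iff K amb a we hB hBR hS hw).2 fun i hi => by
    rw [Set.mem_singleton_iff] at hi
    rw [hi, h0]
  exact h1 u hu

/-- an element acting on `W` as a root element at `l`: commutators lie in `II` -/
theorem comm_mem_II (K : KNat V H R F k co) (amb : Amb V U T M) (a : Amal U T M H R t) (we : WE V U H R)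
    (hD : DD V U H H' R co co') {l : Fin k} {g : Y} (hg : g ∈ H) {b : Fin k → F} (hb : ∀ i, i ≠ l → b i = 0)
    (hA : Acts V H R co g fun i => up (b i)) {w : V} (hw : w ∈ WW V H R) : g • w + w ∈ II V U H R := by
  obtain ⟨B, hB, hBR, hBQ, hS⟩ := exists_single_member K amb a we hD l
  obtain ⟨u, hu, huA⟩ := hS.full b fun i hi => hb i (by simpa using hi)
  have hm := amb.cls.mem B hB
  rw [eq_of_up K amb.two hg (a.RH (hBR hu)) (hm.sq u hu) hA huA hw]
  exact AddSubgroup.subset_closure ⟨B, hB, hBR, u, hu, w, hw, rfl⟩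

end one

end Cfsg.Agent.Omega.NO1.TH.K
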