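import Cfsg.Agent.Omega.NO1.TH.K.L2Def

/-!
# N1-ONE, natural type, `k ≥ 2`: case (d) is impossible (bb OMEGA 20937, helper476), (0) - (2)

* `MB` : facts for the members `B ≤ R`, `B ≰ Q`; `mb` : they follow from `DD`;
* `not_le_Q'` (1) : `B ≰ Q'`;
* `exists_of_comm` (2) : `[W, B] ⊆ [W', B]`;  `II_le` : `[W', J] ≤ W`;
* `inf_eq_bot` : `B ∩ Q ∩ Q' = 1`.
-/

set_option autoImplicit false
set_option linter.unusedSectionVars false
set_option linter.dupNamespace false

namespace Cfsg.Agent.Omega.NO1.TH.K.L2K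

open Subgroup Cfsg.Agent.Omega.NO1.TH.K Cfsg.Agent.Omega.NO1.AB Cfsg.Agent.Omega.FFBr Cfsg.Agent.Lib.SL2Mat
open Cfsg.Agent.Omega.NatPair (ap)
open scoped Pointwise

universe u

variable {Y : Type u} [Group Y] {V : Type u} [AddCommGroup V] [DistribMulAction Y V]

/-- facts for a member `B ≤ R`, `B ≰ Q` -/
structure MB (V : Type u) [AddCommGroup V] [DistribMulAction Y V] (U : Set (Subgroup Y)) (H H' R : Subgroup Y)
    {F : Type} [Field F] {k : ℕ} (co : V → Fin k → Fin 2 → F) (B : Subgroup Y) (i : Fin k) : Prop where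
  supp : Supp V H R co B {i}
  card : Nat.card B = Nat.card F ^ 2
  cardB : Nat.card ↥(B ⊓ QQ H R) = Nat.card F
  shift : ∀ s ∈ B ⊓ QQ H R, ∀ w, w ∉ Ee V B → ∃ x ∈ WW V H R, s • w + w + x ∈ fx V B
  quad : ∀ s ∈ B ⊓ QQ H R, ∀ r ∈ B ⊓ QQ H R, ∀ v : V, s • (r • v + v) = r • v + v
  cmem : ∀ s ∈ B ⊓ QQ H R, ∀ v : V, s • v + v ∈ WW V H R ⊔ II V U H' R

theorem conj_QQ_inf {H R : Subgroup Y} {g : Y} (hg : g ∈ H) (B : Subgroup Y) :
    MulAut.conj g • B ⊓ QQ H R = MulAut.conj g • (B ⊓ QQ H R) := by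
  ext y
  constructor
  · intro h0
    have h1 : y ∈ MulAut.conj g • B := h0.1
    have h2 : y ∈ QQ H R := h0.2
    rw [mem_conj] at h1 ⊢
    refine ⟨h1, ?_⟩
    have := conj_mem_QQ (H.inv_mem hg) h2
    rwa [inv_inv] at this
  · intro h1
    rw [mem_conj] at h1
    refine ⟨mem_conj.2 h1.1, ?_⟩
    have := conj_mem_QQ hg h1.2
    have e : g * (g⁻¹ * y * g) * g⁻¹ = y := by group
    rwa [e] at this

theorem add_swap (two : ∀ v : V, v + v = 0) {a b c : V} (h : a + b = c) : a = c + b := by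
  rw [← h, add_assoc, two, add_zero]

section one

variable {U : Set (Subgroup Y)} {T : Sylow 2 Y} {M H H' R : Subgroup Y} {t : Y} {F : Type} [Field F]
  {k : ℕ} {co co' : V → Fin k → Fin 2 → F} [Finite Y] [Finite V] [Finite F]

/-- `I' ≤ C(A ∩ Q)` -/
theorem II_fix (h : TwoN V U T M H H' R F k co co' t) (hD' : DD V U H' H R co' co) {A : Subgroup Y} {j : Fin k}
    (hS : Supp V H' R co' (A ⊓ QQ H R) {j}) {y : V} (hy : y ∈ II V U H' R) : y ∈ fx V (A ⊓ QQ H R) := by
  intro b hb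
  obtain ⟨β, hβ0, hβ⟩ := hS.act b hb
  exact root_fix h.K' h.amb h.a' h.we' hD' (h.a'.RH (QQ_le hb.2)) (fun i hi => hβ0 i (by simpa using hi)) hβ
    (II_le_WW h.a'.RH hy) (II_line h.K' h.amb h.a' h.we' hy j)

/-- **(0)** `W + I'` is `H`-invariant -/
theorem plus_inv (h : TwoN V U T M H H' R F k co co' t) (hD : DD V U H H' R co co') (hD' : DD V U H' H R co' co) :
    ∀ x ∈ H, ∀ v ∈ WW V H R ⊔ II V U H' R, x • v ∈ WW V H R ⊔ II V U H' R := by
  obtain ⟨B, hB, hBR, hBQ⟩ := Amal.exists_not_QQ h.a h.amb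
  obtain ⟨g, hg, hgA⟩ := h.K.lift fun _ => wm 1 one_ne_zero
  obtain ⟨hgen, i, j, d⟩ := hD B hB hBR hBQ g hg hgA
  have hA : MulAut.conj g • B ∈ U := h.amb.cls.conj B hB g
  have hAH : MulAut.conj g • B ≤ H := by rw [← hgen]; exact le_sup_right
  have key : R ⊔ MulAut.conj g • B ≤ MulAction.stabilizer Y (WW V H R ⊔ II V U H' R) := by
    refine sup_le (fun r hr => smul_of_mem fun v hv => ?_) fun u hu => smul_of_mem fun v hv => ?_
    · rw [AddSubgroup.mem_sup] at hv
      obtain ⟨x, hx, y, hy, rfl⟩ := hv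
      rw [smul_add]
      exact add_mem (AddSubgroup.mem_sup_left (smul_mem_WW (h.a.RH hr) hx))
        (AddSubgroup.mem_sup_right (smul_mem_II h.amb.cls h.a'.RH hr hy))
    · rw [AddSubgroup.mem_sup] at hv
      obtain ⟨x, hx, y, hy, rfl⟩ := hv
      rw [smul_add]
      refine add_mem (AddSubgroup.mem_sup_left (smul_mem_WW (hAH hu) hx)) ?_
      have h1 := II_fix h hD' d.supp' hy
      rw [Amal.fx_eq h.a h.amb h.we hA hAH, AddSubgroup.mem_sup] at h1
      obtain ⟨x', hx', f, hf, rfl⟩ := h1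
      have h2 : u • (x' + f) = (u • x' + x') + (x' + f) := by
        rw [smul_add, hf u hu]
        have e : u • x' + x' + (x' + f) = u • x' + f + (x' + x') := by abel
        rw [e, h.amb.two, add_zero]
      rw [h2]
      exact add_mem (AddSubgroup.mem_sup_left (add_mem (smul_mem_WW (hAH hu) hx') hx'))
        (AddSubgroup.mem_sup_right hy)
  rw [hgen] at key
  intro x hx v hv
  have h1 : x • (WW V H R ⊔ II V U H' R) = WW V H R ⊔ II V U H' R := key hx
  rw [← h1]
  exact smul_mem_smul_as hv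

/-- **(0)** -/
theorem mb (h : TwoN V U T M H H' R F k co co' t) (hD : DD V U H H' R co co') (hD' : DD V U H' H R co' co)
    {B : Subgroup Y} (hB : B ∈ U) (hBR : B ≤ R) (hBQ : ¬ B ≤ QQ H R) : ∃ i, MB V U H H' R co B i := by
  have two := h.amb.two
  obtain ⟨g, hg, hgA⟩ := h.K.lift fun _ => wm 1 one_ne_zero
  obtain ⟨hgen, i, j, d⟩ := hD B hB hBR hBQ g hg hgA
  have hA : MulAut.conj g • B ∈ U := h.amb.cls.conj B hB g
  have hAH : MulAut.conj g • B ≤ H := by rw [← hgen]; exact le_sup_right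
  have hm := h.amb.cls.mem _ hA
  have hcj : ∀ {s : Y}, s ∈ B ⊓ QQ H R → g * s * g⁻¹ ∈ MulAut.conj g • B ⊓ QQ H R := by
    intro s hs
    rw [conj_QQ_inf hg]
    exact conj_mem_conj hs
  have hback : ∀ (s : Y) (v : V), (g * s * g⁻¹) • g • v = g • s • v := by
    intro s v
    rw [← mul_smul, ← mul_smul]; congr 1; group
  have hgi := H.inv_mem hg
  -- the facts for `A`
  have hquad : ∀ s ∈ MulAut.conj g • B ⊓ QQ H R, ∀ r ∈ MulAut.conj g • B ⊓ QQ H R, ∀ v : V,
      s • (r • v + v) = r • v + v := by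
    intro s hs r hr v
    have hv : v ∈ WW V H' R ⊔ Ee V (MulAut.conj g • B) := by rw [d.top]; exact AddSubgroup.mem_top v
    rw [AddSubgroup.mem_sup] at hv
    obtain ⟨y, hy, e, he, rfl⟩ := hv
    have h1 : r • (y + e) + (y + e) = (r • y + y) + (r • e + e) := by rw [smul_add]; abel
    have h2 : r • y + y ∈ WW V H' R := add_mem (smul_mem_WW (h.a'.RH (QQ_le hr.2)) hy) hy
    have h3 := d.inf _ h2 (hm.VB r hr.1 y) s hs
    have h4 := he r hr.1 s hs.1
    rw [h1, smul_add, h3, h4]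
  have hcm : ∀ s ∈ MulAut.conj g • B ⊓ QQ H R, ∀ v : V, s • v + v ∈ WW V H R ⊔ II V U H' R := by
    intro s hs v
    have hv : v ∈ WW V H' R ⊔ Ee V (MulAut.conj g • B) := by rw [d.top]; exact AddSubgroup.mem_top v
    rw [AddSubgroup.mem_sup] at hv
    obtain ⟨y, hy, e, he, rfl⟩ := hv
    have h1 : s • (y + e) + (y + e) = (s • e + e) + (s • y + y) := by rw [smul_add]; abel
    rw [h1]
    apply add_mem
    · obtain ⟨w, hw⟩ := hm.ne
      obtain ⟨x, hx, hsx⟩ := d.shift s hs w hw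
      obtain ⟨u, hu, hue⟩ := hm.surj w hw e he
      rw [mem_sym hm two hu hs.1 hue hsx]
      exact AddSubgroup.mem_sup_left (add_mem (smul_mem_WW (hAH hu) hx) hx)
    · obtain ⟨β, hβ0, hβ⟩ := d.supp'.act s hs
      exact AddSubgroup.mem_sup_right (comm_mem_II h.K' h.amb h.a' h.we' hD' (h.a'.RH (QQ_le hs.2))
        (fun i hi => hβ0 i (by simpa using hi)) hβ hy)
  refine ⟨i, d.supp, ?_, ?_, fun s hs w hw => ?_, fun s hs r hr v => ?_, fun s hs v => ?_⟩
  · rw [← conj_card g, d.card]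
  · rw [← conj_card g, ← conj_QQ_inf hg, d.cardB]
  · obtain ⟨x, hx, h1⟩ := d.shift _ (hcj hs) (g • w) (by
      rw [Ee_conj, mem_smul_as, inv_smul_smul]; exact hw)
    refine ⟨g⁻¹ • x, smul_mem_WW hgi hx, ?_⟩
    rw [fx_conj, mem_smul_as, hback, smul_add, smul_add, inv_smul_smul, inv_smul_smul] at h1
    exact h1
  · have h1 := hquad _ (hcj hs) _ (hcj hr) (g • v)
    rw [hback, ← smul_add, hback, smul_left_cancel_iff] at h1
    exact h1
  · have h1 := plus_inv h hD hD' g⁻¹ hgi _ (hcm _ (hcj hs) (g • v))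
    rw [hback, ← smul_add, inv_smul_smul] at h1
    exact h1

/-- **(0)** `C_V(b) ≤ W + F_B` -/
theorem MB.cent (h : TwoN V U T M H H' R F k co co' t) {B : Subgroup Y} (hB : B ∈ U) (hBR : B ≤ R) {i : Fin k}
    (m : MB V U H H' R co B i) {b : Y} (hb : b ∈ B ⊓ QQ H R) (hb1 : b ≠ 1) {v : V} (hv : b • v = v) :
    v ∈ WW V H R ⊔ fx V B := by
  have two := h.amb.two
  have hm := h.amb.cls.mem B hB
  have hvE : v ∈ Ee V B := by
    by_contra hvE
    exact hb1 (hm.inj v hvE b hb.1 (by rw [hv, two]; exact zero_mem _))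
  obtain ⟨w, hw⟩ := hm.ne
  obtain ⟨x, hx, hbx⟩ := m.shift b hb w hw
  obtain ⟨s, hs, hsv⟩ := hm.surj w hw v hvE
  have h1 := mem_sym hm two hs hb.1 hsv hbx
  rw [hv, two] at h1
  -- `s` fixes `x`
  have h2 : s • x = x := ((HE.add_eq_zero' two).1 h1.symm)
  have hxF : x ∉ fx V B := by
    intro hxF
    apply hb1
    apply hm.inj w hw b hb.1
    have h3 := sub_mem hbx hxF
    rwa [add_sub_cancel_right] at h3
  have hx1 : co x i 1 ≠ 0 := by
    intro h0
    apply hxF
    rw [member_fx_iff h.K h.amb h.a h.we hB hBR m.supp hx]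
    intro l hl
    rw [Set.mem_singleton_iff] at hl
    rw [hl, h0]
  obtain ⟨β, hβ0, hβ⟩ := m.supp.act s hs
  have h4 := hβ.up_fst hx i
  rw [h2] at h4
  have h5 : β i = 0 := (mul_eq_zero.1 (left_eq_add.1 h4)).resolve_right hx1
  have hsQ : s ∈ QQ H R := h.K.mem_Q_of_up_zero two h.a.RH (hBR hs) hβ fun l => by
    by_cases hl : l = i
    · rw [hl, h5]
    · exact hβ0 l (by simpa using hl)
  obtain ⟨y, hy, hsy⟩ := m.shift s ⟨hs, hsQ⟩ w hw
  have h6 : y + v ∈ fx V B := by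
    have h7 := add_mem hsy hsv
    have e : s • w + w + y + (s • w + w + v) = (s • w + s • w) + (w + w) + (y + v) := by abel
    rw [e, two, two, add_zero, zero_add] at h7
    exact h7
  have h8 : v = y + (y + v) := by rw [← add_assoc, two, zero_add]
  rw [h8]
  exact add_mem (AddSubgroup.mem_sup_left hy) (AddSubgroup.mem_sup_right h6)

/-- permutation and line -/
theorem perm_line (K : KNat V H R F k co) (hRH : R ≤ H) {r : Y} (hr : r ∈ R) {i j : Fin k}
    (hij : ∀ v ∈ WW V H R, co (r • v) j = 0 ↔ co v i = 0) {v : V} (hv : v ∈ WW V H R) :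
    co (r • v) j 1 = 0 ↔ co v i 1 = 0 := by
  obtain ⟨τ, hτ⟩ := K.perm r (hRH hr)
  obtain ⟨σ, hσ⟩ := K.line r hr
  have hτi : τ i = j := by
    obtain ⟨x, hx, hxi, hx0⟩ := K.exists_at i ![0, 1]
    by_contra hne
    obtain ⟨l, hl⟩ := τ.surjective j
    have hli : l ≠ i := by
      rintro rfl
      exact hne hl
    have h1 := (hτ x hx l).2 (hx0 l hli)
    rw [hl, hij x hx, hxi] at h1
    have h2 := congrFun h1 1
    simp at h2
  have hσi : σ i = j := by
    obtain ⟨x, hx, hxi, hx0⟩ := K.exists_at i ![0, 1]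
    by_contra hne
    obtain ⟨l, hl⟩ := τ.surjective (σ i)
    have hli : l ≠ i := by
      rintro rfl
      exact hne (hl.symm.trans hτi)
    have h1 := (hτ x hx l).2 (hx0 l hli)
    have h2 := (hσ x hx i).1 (by rw [← hl, h1]; rfl)
    rw [hxi] at h2
    simp at h2
  rw [← hσi]
  exact hσ v hv i

/-- a root element at `i` in `Q'` -/
theorem exists_elt (h : TwoN V U T M H H' R F k co co' t) (hD : DD V U H H' R co co') (hD' : DD V U H' H R co' co)
    (i : Fin k) : ∃ a ∈ QQ H' R, a * a = 1 ∧ (∀ y ∈ WW V H R, a • y = y ↔ co y i 1 = 0) ∧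
      ∀ v : V, ∃ x ∈ WW V H' R, ∃ y ∈ WW V H R, (∀ l, co y l 1 = 0) ∧ a • v + v = x + y := by
  have two := h.amb.two
  obtain ⟨B, hB, hBR, hBQ⟩ := Amal.exists_not_QQ h.a' h.amb
  obtain ⟨g, hg, hgA⟩ := h.K'.lift fun _ => wm 1 one_ne_zero
  obtain ⟨hgen, i', j, d⟩ := hD' B hB hBR hBQ g hg hgA
  have hA : MulAut.conj g • B ∈ U := h.amb.cls.conj B hB g
  have hAH : MulAut.conj g • B ≤ H' := by rw [← hgen]; exact le_sup_right
  have hm := h.amb.cls.mem _ hA
  classical
  obtain ⟨a, ha, haA⟩ := d.supp'.full (Pi.single j 1) fun l hl => Pi.single_eq_of_ne (by simpa using hl) _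
  have haH : a ∈ H := h.a.RH (QQ_le ha.2)
  have hfix : ∀ y ∈ WW V H R, a • y = y ↔ co y j 1 = 0 := by
    intro y hy
    constructor
    · intro h1
      have h2 := haA.up_fst hy j
      rw [h1, Pi.single_eq_same, one_mul] at h2
      exact left_eq_add.1 h2
    · exact root_fix h.K h.amb h.a h.we hD haH (fun l hl => Pi.single_eq_of_ne hl _) haA hy
  have hcomm : ∀ v : V, ∃ x ∈ WW V H' R, ∃ y ∈ WW V H R, (∀ l, co y l 1 = 0) ∧ a • v + v = x + y := by
    intro v
    have hv : v ∈ WW V H R ⊔ Ee V (MulAut.conj g • B) := by rw [d.top]; exact AddSubgroup.mem_top v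
    rw [AddSubgroup.mem_sup] at hv
    obtain ⟨y, hy, e, he, rfl⟩ := hv
    have h1 : a • (y + e) + (y + e) = (a • e + e) + (a • y + y) := by rw [smul_add]; abel
    obtain ⟨w, hw⟩ := hm.ne
    obtain ⟨x, hx, hsx⟩ := d.shift a ha w hw
    obtain ⟨u, hu, hue⟩ := hm.surj w hw e he
    refine ⟨a • e + e, ?_, a • y + y, add_mem (smul_mem_WW haH hy) hy, fun l => ?_, h1⟩
    · rw [mem_sym hm two hu ha.1 hue hsx]
      exact add_mem (smul_mem_WW (hAH hu) hx) hx
    · rw [h.K.add_apply (smul_mem_WW haH hy) hy, haA.up_snd hy, h.K.ff two l]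
  -- conjugate with `r`
  obtain ⟨r, hr, hrs⟩ := h.K.trans j i
  have hri := R.inv_mem hr
  have hback : ∀ v : V, (r * a * r⁻¹) • v = r • a • r⁻¹ • v := by
    intro v
    rw [mul_smul, mul_smul]
  refine ⟨r * a * r⁻¹, conj_mem_QQ (h.a'.RH hr) ha.2, ?_, fun y hy => ?_, fun v => ?_⟩
  · have h1 := hm.sq a ha.1
    have e : r * a * r⁻¹ * (r * a * r⁻¹) = r * (a * a) * r⁻¹ := by group
    rw [e, h1, mul_one, mul_inv_cancel]
  · rw [hback]
    have h1 : r • a • r⁻¹ • y = y ↔ a • r⁻¹ • y = r⁻¹ • y := by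
      rw [smul_eq_iff_eq_inv_smul]
    have hyr := smul_mem_WW (h.a.RH hri) hy
    rw [h1, hfix _ hyr, ← perm_line h.K h.a.RH hr hrs hyr, smul_inv_smul]
  · obtain ⟨x, hx, y, hy, hy1, h1⟩ := hcomm (r⁻¹ • v)
    refine ⟨r • x, smul_mem_WW (h.a'.RH hr) hx, r • y, smul_mem_WW (h.a.RH hr) hy, fun l => ?_, ?_⟩
    · obtain ⟨σ, hσ⟩ := h.K.line r hr
      obtain ⟨m, rfl⟩ := σ.surjective l
      exact (hσ y hy m).2 (hy1 m)
    · rw [hback, ← smul_add, ← h1, smul_add, smul_inv_smul]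

/-- **(1)** a member in `R` which is not in `Q` is not in `Q'` -/
theorem not_le_Q' (h : TwoN V U T M H H' R F k co co' t) {a : ℕ} (w : World V U T M a)
    (hD : DD V U H H' R co co') (hD' : DD V U H' H R co' co)
    {B : Subgroup Y} (hB : B ∈ U) (hBR : B ≤ R) (hBQ : ¬ B ≤ QQ H R) : ¬ B ≤ QQ H' R := by
  intro hQ'
  have two := h.amb.two
  have hm := h.amb.cls.mem B hB
  obtain ⟨i, m⟩ := mb h hD hD' hB hBR hBQ
  obtain ⟨x, hx, hxx, hfix, hcomm⟩ := exists_elt h hD hD' i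
  have hfx : ∀ y ∈ WW V H R, co y i 1 = 0 → y ∈ fx V B := fun y hy h0 =>
    (member_fx_iff h.K h.amb h.a h.we hB hBR m.supp hy).2 fun l hl => by
      rw [Set.mem_singleton_iff] at hl
      rw [hl, h0]
  have hW' : ∀ y ∈ WW V H' R, y ∈ fx V B := fun y hy b hb => Amal.QQ_fix h.a' h.amb (hQ' hb) hy
  -- `[V, x] ≤ F_B`
  have h1 : ∀ v : V, x • v + v ∈ fx V B := by
    intro v
    obtain ⟨z, hz, y, hy, hy1, h2⟩ := hcomm v
    rw [h2]
    exact add_mem (hW' z hz) (hfx y hy (hy1 i))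
  -- `x` fixes `[e, b]`
  have h2 : ∀ b ∈ B ⊓ QQ H R, ∀ e ∈ Ee V B, x • (b • e + e) = b • e + e := by
    intro b hb e he
    obtain ⟨v, hv⟩ := hm.ne
    obtain ⟨z, hz, hbz⟩ := m.shift b hb v hv
    obtain ⟨u, hu, hue⟩ := hm.surj v hv e he
    rw [mem_sym hm two hu hb.1 hue hbz]
    have huH := h.a.RH (hBR hu)
    rw [hfix _ (add_mem (smul_mem_WW huH hz) hz)]
    obtain ⟨β, hβ0, hβ⟩ := m.supp.act u hu
    rw [h.K.add_apply (smul_mem_WW huH hz) hz, hβ.up_snd hz, h.K.ff two i]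
  -- `x` moves `[v, b]`
  have h3 : ∀ b ∈ B ⊓ QQ H R, b ≠ 1 → ∀ v, v ∉ Ee V B → x • (b • v + v) ≠ b • v + v := by
    intro b hb hb1 v hv h4
    have h5 := m.cmem b hb v
    rw [AddSubgroup.mem_sup] at h5
    obtain ⟨z, hz, y, hy, hzy⟩ := h5
    have hy' : y ∈ WW V H' R := II_le_WW h.a'.RH hy
    rw [← hzy, smul_add, Amal.QQ_fix h.a' h.amb hx hy'] at h4
    have h6 : x • z = z := add_right_cancel h4
    apply hb1
    apply hm.inj v hv b hb.1
    rw [← hzy]
    exact add_mem (hfx z hz ((hfix z hz).1 h6)) (hW' y hy')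
  have hact : ∀ b ∈ B ⊓ QQ H R, ∀ v : V, (x * b * x * b) • v = v + (x • (b • v + v) + (b • v + v)) := by
    intro b hb v
    have h4 := h1 (b • v) b hb.1
    rw [smul_add, ← mul_smul b b, hm.sq b hb.1, one_smul] at h4
    -- `b x b v = x b v + b v + v`
    have h5 : b • x • b • v = x • b • v + b • v + v := add_swap two h4
    rw [mul_smul, mul_smul, mul_smul, h5, smul_add, smul_add, ← mul_smul x x, hxx, one_smul, smul_add]
    have e : v + (x • b • v + x • v + (b • v + v)) = b • v + x • b • v + x • v + (v + v) := by abel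
    rw [e, two, add_zero]
  have heq : ∀ {y z : Y}, (∀ v : V, y • v = z • v) → y = z := by
    intro y z hyz
    have h4 : y⁻¹ * z = 1 := h.amb.faith _ fun v => by rw [mul_smul, ← hyz, inv_smul_smul]
    exact (inv_mul_eq_one.1 h4)
  let f : ↥(B ⊓ QQ H R) →* Y :=
    { toFun := fun b => x * b * x * b
      map_one' := by
        change x * (1 : Y) * x * 1 = 1
        rw [mul_one, mul_one, hxx]
      map_mul' := fun b c => by
        change x * ((b : Y) * c) * x * (b * c) = x * b * x * b * (x * c * x * c)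
        apply heq
        intro v
        have hbc := (B ⊓ QQ H R).mul_mem b.2 c.2
        have h4 : (b : Y) • ((c : Y) • v + v) = (c : Y) • v + v := m.quad b b.2 c c.2 v
        have h5 : ((b : Y) * c) • v + v = ((c : Y) • v + v) + ((b : Y) • v + v) := by
          rw [smul_add] at h4
          have h6 : (b : Y) • (c : Y) • v = (c : Y) • v + v + (b : Y) • v := add_swap two h4
          rw [mul_smul, h6]
          abel
        have h7 : (x * (c : Y) * x * c) • v = v + (x • ((c : Y) • v + v) + ((c : Y) • v + v)) := hact c c.2 v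
        rw [hact _ hbc v, mul_smul (x * (b : Y) * x * b), h7, hact b b.2, h5]
        have h8 := h1 ((c : Y) • v + v) b b.2.1
        have h9 : (b : Y) • (v + (x • ((c : Y) • v + v) + ((c : Y) • v + v))) +
            (v + (x • ((c : Y) • v + v) + ((c : Y) • v + v))) = (b : Y) • v + v := by
          rw [smul_add, h8]
          have e : (b : Y) • v + (x • ((c : Y) • v + v) + ((c : Y) • v + v)) +
              (v + (x • ((c : Y) • v + v) + ((c : Y) • v + v))) = (b : Y) • v + v +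
                ((x • ((c : Y) • v + v) + ((c : Y) • v + v)) + (x • ((c : Y) • v + v) + ((c : Y) • v + v))) := by abel
          rw [e, two, add_zero]
        rw [h9, smul_add x ((c : Y) • v + v) ((b : Y) • v + v)]
        abel }
  have hf : ∀ b : ↥(B ⊓ QQ H R), f b = x * b * x * b := fun _ => rfl
  have hinj : Function.Injective f := by
    rw [injective_iff_map_eq_one]
    intro b hb
    by_contra hb1
    obtain ⟨v, hv⟩ := hm.ne
    apply h3 b b.2 (fun h4 => hb1 (Subtype.ext h4)) v hv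
    have h4 := hact b b.2 v
    rw [← hf, hb, one_smul] at h4
    exact (HE.add_eq_zero' two).1 (left_eq_add.1 h4)
  have hcard : Nat.card f.range = Nat.card F := by
    rw [← m.cardB]
    exact (Nat.card_congr (Equiv.ofInjective f hinj)).symm
  have h10 := w.noff f.range (by
    rintro _ ⟨b, rfl⟩ _ ⟨c, rfl⟩
    rw [← map_mul, ← map_mul]
    congr 1
    exact Subtype.ext (hm.comm b b.2.1 c c.2.1)) (by
    rintro _ ⟨b, rfl⟩
    rw [← map_mul]
    have : b * b = 1 := Subtype.ext (hm.sq b b.2.1)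
    rw [this, map_one]) (by
    intro h4
    rw [h4, Subgroup.card_bot] at hcard
    have := Finite.one_lt_card (α := F)
    omega)
  have h11 : Ee V B ≤ fx V f.range := by
    intro e he
    rintro _ ⟨b, rfl⟩
    rw [hf, hact b b.2, h2 b b.2 e he, two, add_zero]
  have h12 := AddSubgroup.index_antitone h11
  rw [w.ind B hB] at h12
  have h13 := w.pf B hB
  rw [m.card] at h13
  have h14 : a ≤ Nat.card F := by
    by_contra h15
    push Not at h15
    exact absurd h13 (not_le.2 (Nat.pow_lt_pow_left h15 two_ne_zero))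
  rw [hcard] at h10
  omega

end one

end Cfsg.Agent.Omega.NO1.TH.K.L2K
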