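import Cfsg.Agent.Omega.NO1.TH.K.Def
import Cfsg.Agent.Omega.NatPair.NormLev

/-!
# N1, natural type with `k` factors: `C_R(W_R)` is the product of the root groups

* `KNat.exists_up` : an element `r` of `R` trivial on `W_R` acts as `(up (b i))_i`;
* `KNat.mem_iSup_of` : an element of `R` which acts as `(up (b i))_i` is in the join of the root groups.
-/

set_option autoImplicit false
set_option linter.unusedSectionVars false
set_option linter.dupNamespace false

namespace Cfsg.Agent.Omega.NO1.TH.K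

open Subgroup Cfsg.Agent.Omega.NO1.AB Cfsg.Agent.Omega.FFBr Cfsg.Agent.Lib.SL2Mat
open Cfsg.Agent.Omega.NatPair (ap ap_zero' ap_one' ap_add ap_smul ap_mul ap_one ext2)
open scoped Pointwise

universe u

variable {Y : Type u} [Group Y] {V : Type u} [AddCommGroup V] [DistribMulAction Y V]
variable {H R : Subgroup Y} {F : Type} [Field F] {k : ℕ} {co : V → Fin k → Fin 2 → F}

namespace KNat

variable (K : KNat V H R F k co) (h2 : ∀ v : V, v + v = 0)
include K h2

theorem up_co_zero : co 0 = 0 := by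
  have h1 := K.add 0 (zero_mem _) 0 (zero_mem _)
  rw [add_zero] at h1
  exact left_eq_add.1 h1

/-- characteristic 2 -/
theorem char_two (x : Fin k → Fin 2 → F) : x + x = 0 := by
  obtain ⟨v, hv, rfl⟩ := K.surj x
  rw [← K.add v hv v hv, h2, K.up_co_zero h2]

theorem F_two (i : Fin k) (c : F) : c + c = 0 := by
  have h1 := K.char_two h2 fun _ _ => c
  exact congrFun (congrFun h1 i) 0

omit h2 in
theorem co_add {v w : V} (hv : v ∈ WW V H R) (hw : w ∈ WW V H R) (i : Fin k) : co (v + w) i = co v i + co w i := by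
  rw [K.add v hv w hw]; rfl

theorem co_eq_iff {v w : V} (hv : v ∈ WW V H R) (hw : w ∈ WW V H R) : co v = co w ↔ co (v + w) = 0 := by
  rw [K.add v hv w hw]
  constructor
  · intro h1
    rw [h1]
    exact K.char_two h2 _
  · intro h1
    have h3 := K.char_two h2 (co w)
    exact add_right_cancel (h1.trans h3.symm)

/-- `g • v` depends on `co v` only, mod `D` -/
theorem co_smul_congr {g : Y} (hg : g ∈ H) {v w : V} (hv : v ∈ WW V H R) (hw : w ∈ WW V H R) {σ : Equiv.Perm (Fin k)}
    (hσ : ∀ v ∈ WW V H R, ∀ i, co (g • v) (σ i) = 0 ↔ co v i = 0) {i : Fin k} (h1 : co v i = co w i) :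
    co (g • v) (σ i) = co (g • w) (σ i) := by
  have h3 : co (v + w) i = 0 := by
    rw [K.co_add hv hw, h1]
    have := K.char_two h2 (co w)
    exact congrFun this i
  have h4 := (hσ _ (add_mem hv hw) i).2 h3
  rw [smul_add, K.co_add (smul_mem_WW hg hv) (smul_mem_WW hg hw)] at h4
  have h5 : co (g • w) (σ i) + co (g • w) (σ i) = 0 := congrFun (K.char_two h2 (co (g • w))) (σ i)
  exact add_right_cancel (h4.trans h5.symm)

omit h2 in
/-- a vector with given coordinate at one place -/
theorem up_exists_single (i : Fin k) (x : Fin 2 → F) : ∃ v ∈ WW V H R, co v i = x ∧ ∀ j, j ≠ i → co v j = 0 := by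
  obtain ⟨v, hv, h1⟩ := K.surj (Pi.single i x)
  refine ⟨v, hv, by rw [h1, Pi.single_eq_same], fun j hj => by rw [h1, Pi.single_eq_of_ne hj]⟩

omit h2 in
/-- an element of `R` trivial on `W_R` normalises every block -/
theorem perm_one (hRH : R ≤ H) {r : Y} (hr : r ∈ R) (hfix : ∀ v ∈ WR V H R co, r • v = v) (v : V)
    (hv : v ∈ WW V H R) (i : Fin k) : co (r • v) i = 0 ↔ co v i = 0 := by
  obtain ⟨σ, hσ⟩ := K.perm r (hRH hr)
  have key : σ i = i := by
    obtain ⟨w, hw, h1, h3⟩ := K.up_exists_single i ![1, 0]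
    have hwR : w ∈ WR V H R co := by
      refine ⟨hw, fun j => ?_⟩
      by_cases hj : j = i
      · rw [hj, h1]; rfl
      · rw [h3 j hj]; rfl
    have h4 := hσ w hw i
    rw [hfix w hwR, h1] at h4
    by_contra hne
    have h5 := h4.1 (h3 _ hne)
    have := congrFun h5 0
    simp at this
  have h1 := hσ v hv i
  rwa [key] at h1

/-- the block maps of an element of `R` trivial on `W_R` -/
theorem exists_T (hRH : R ≤ H) {r : Y} (hr : r ∈ R) (hfix : ∀ v ∈ WR V H R co, r • v = v) (i : Fin k) :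
    ∃ T : (Fin 2 → F) → (Fin 2 → F), (∀ x y, T (x + y) = T x + T y) ∧
      (∀ v ∈ WW V H R, co (r • v) i = T (co v i)) ∧ ∀ x, x 1 = 0 → T x = x := by
  choose s hs using fun x => K.up_exists_single i x
  have hσ := K.perm_one hRH hr hfix
  have h1 : ∀ v ∈ WW V H R, co (r • v) i = co (r • s (co v i)) i := fun v hv =>
    K.co_smul_congr h2 (hRH hr) hv (hs _).1 (σ := Equiv.refl _) (fun v hv i => hσ v hv i) (by rw [(hs _).2.1])
  refine ⟨fun x => co (r • s x) i, fun x y => ?_, h1, fun x hx => ?_⟩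
  · change co (r • s (x + y)) i = co (r • s x) i + co (r • s y) i
    have h3 := h1 (s x + s y) (add_mem (hs x).1 (hs y).1)
    rw [K.co_add (hs x).1 (hs y).1, (hs x).2.1, (hs y).2.1] at h3
    rw [← h3, smul_add, K.co_add (smul_mem_WW (hRH hr) (hs x).1) (smul_mem_WW (hRH hr) (hs y).1)]
  · change co (r • s x) i = x
    rw [hfix (s x) ⟨(hs x).1, fun j => ?_⟩, (hs x).2.1]
    by_cases hj : j = i
    · rw [hj, (hs x).2.1, hx]
    · rw [(hs x).2.2 j hj]; rfl

theorem eq_one_of_pow (i : Fin k) {g : F} (n : ℕ) (hg : g ^ 2 ^ n = 1) : g = 1 := by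
  induction n with
  | zero => rwa [pow_zero, pow_one] at hg
  | succ n ih =>
    apply ih
    rw [pow_succ, pow_mul] at hg
    have h3 : (g ^ 2 ^ n + 1) ^ 2 = 0 := by
      have e : (g ^ 2 ^ n + 1) ^ 2 = (g ^ 2 ^ n) ^ 2 + 1 + (g ^ 2 ^ n + g ^ 2 ^ n) := by ring
      rw [e, hg, K.F_two h2 i, K.F_two h2 i, add_zero]
    have h4 := pow_eq_zero_iff (two_ne_zero) |>.1 h3
    have h5 := K.F_two h2 i 1
    exact add_right_cancel (h4.trans h5.symm)

/-- an element of `R` trivial on `W_R` acts as `(up (b i))_i` -/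
theorem exists_up (hRH : R ≤ H) {r : Y} (hr : r ∈ R) {n : ℕ} (hn : r ^ 2 ^ n = 1)
    (hfix : ∀ v ∈ WR V H R co, r • v = v) : ∃ b : Fin k → F, Acts V H R co r fun i => up (b i) := by
  have hinv : ∀ v ∈ WR V H R co, r⁻¹ • v = v := fun v hv => by
    rw [inv_smul_eq_iff, hfix v hv]
  have key : ∀ i, ∃ b : F, ∀ v ∈ WW V H R, co (r • v) i = ap (up b) (co v i) := by
    intro i
    obtain ⟨T, hadd, hT, hl⟩ := K.exists_T h2 hRH hr hfix i
    obtain ⟨T', hadd', hT', hl'⟩ := K.exists_T h2 hRH (R.inv_mem hr) hinv i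
    choose s hs using fun x => K.up_exists_single i x
    have e1 : ∀ x, T' (T x) = x := by
      intro x
      have h3 := hT (s x) (hs x).1
      have h4 := hT' (r • s x) (smul_mem_WW (hRH hr) (hs x).1)
      rw [inv_smul_smul, (hs x).2.1] at h4
      rw [(hs x).2.1] at h3
      rw [← h3, ← h4]
    have e2 : ∀ x, T (T' x) = x := by
      intro x
      have h3 := hT' (s x) (hs x).1
      have h4 := hT (r⁻¹ • s x) (smul_mem_WW (hRH (R.inv_mem hr)) (hs x).1)
      rw [smul_inv_smul, (hs x).2.1] at h4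
      rw [(hs x).2.1] at h3
      rw [← h3, ← h4]
    have hnm : ∀ A : Matrix.SpecialLinearGroup (Fin 2) F, ∃ B : Matrix.SpecialLinearGroup (Fin 2) F,
        ∀ x, T' (ap A (T x)) = ap B x := by
      intro A
      obtain ⟨h, hhH, hh⟩ := K.lift fun _ => A
      obtain ⟨B, hB⟩ := K.norm r⁻¹ (hRH (R.inv_mem hr)) h hhH (fun _ => A) hh.1
      refine ⟨B i, fun x => ?_⟩
      have h3 := hB (s x) (hs x).1 i
      rw [(hs x).2.1] at h3
      rw [← h3, inv_inv, mul_smul, mul_smul,
        hT' _ (smul_mem_WW hhH (smul_mem_WW (hRH hr) (hs x).1)), hh.1 _ (smul_mem_WW (hRH hr) (hs x).1),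
        hT _ (hs x).1, (hs x).2.1]
    obtain ⟨σ, hσ⟩ := NatPair.exists_semi T T' hadd e1 e2 hnm
    have hσ1 : ∀ c, σ c = c := by
      intro c
      have h3 := hσ c ![1, 0]
      rw [hl ![1, 0] rfl, hl (c • ![1, 0]) (by simp)] at h3
      have h4 := congrFun h3 0
      simp at h4
      exact h4.symm
    set b := T ![0, 1] 0 with hb
    set g := T ![0, 1] 1 with hg
    have hTx : ∀ x, T x = ![x 0 + b * x 1, g * x 1] := by
      intro x
      have e : x = ![x 0, 0] + x 1 • ![0, 1] := by
        apply ext2 <;> simp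
      have h3 : T x = T ![x 0, 0] + T (x 1 • ![0, 1]) := by rw [← hadd, ← e]
      rw [h3, hσ, hσ1, hl ![x 0, 0] rfl]
      apply ext2
      · simp [hb, mul_comm]
      · simp [hg, mul_comm]
    have hpow : ∀ m : ℕ, ∀ v ∈ WW V H R, co (r ^ m • v) i 1 = g ^ m * co v i 1 := by
      intro m
      induction m with
      | zero => intro v _; rw [pow_zero, pow_zero, one_smul, one_mul]
      | succ m ih =>
        intro v hv
        rw [pow_succ, mul_smul, ih _ (smul_mem_WW (hRH hr) hv), hT v hv, hTx, pow_succ]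
        simp [mul_assoc]
    have hg1 : g = 1 := by
      apply K.eq_one_of_pow h2 i n
      have h3 := hpow (2 ^ n) (s ![0, 1]) (hs _).1
      rw [hn, one_smul, (hs _).2.1] at h3
      simpa using h3.symm
    refine ⟨b, fun v hv => ?_⟩
    rw [hT v hv, hTx, NatPair.NormLev.Co.ap_up, hg1, one_mul]
  choose b hb using key
  exact ⟨b, fun v hv i => hb i v hv, fun d hd h0 => hfix d ⟨hd, fun i => by rw [h0]; rfl⟩⟩

/-- an element of `R` acting as `(up (b i))_i` is a product of elements of the root groups -/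
theorem mem_iSup_of (hRH : R ≤ H) (P : Fin k → Subgroup Y)
    (hP : ∀ i, ∀ r ∈ R, ∀ b : Fin k → F, (∀ j, j ≠ i → b j = 0) → Acts V H R co r (fun j => up (b j)) → r ∈ P i)
    (i₀ : Fin k) {r : Y} (hr : r ∈ R) {b : Fin k → F} (hb : Acts V H R co r fun i => up (b i)) : r ∈ ⨆ i, P i := by
  have key : ∀ s : Finset (Fin k), ∀ b : Fin k → F, (∀ j, j ∉ s → b j = 0) → ∀ r ∈ R,
      Acts V H R co r (fun j => up (b j)) → r ∈ ⨆ i, P i := by
    classical
    intro s
    induction s using Finset.induction with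
    | empty =>
      intro b hb r hr hr'
      exact (le_iSup P i₀) (hP i₀ r hr b (fun j _ => hb j (Finset.notMem_empty j)) hr')
    | insert i s hi ih =>
      intro b hb r hr hr'
      obtain ⟨u, hu, hu'⟩ := K.unip (Pi.single i (b i))
      have h3 : u ∈ ⨆ i, P i := (le_iSup P i) (hP i u hu _ (fun j hj => Pi.single_eq_of_ne hj _) hu')
      have h4 : u * r ∈ ⨆ i, P i := by
        apply ih (fun j => (Pi.single i (b i) : Fin k → F) j + b j) (fun j hj => ?_) _ (R.mul_mem hu hr)
        · have h5 := Acts.mul (hRH hr) hu' hr'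
          have e : ((fun j => up ((Pi.single i (b i) : Fin k → F) j)) * fun j => up (b j)) =
              fun j => up ((Pi.single i (b i) : Fin k → F) j + b j) := by
            funext j
            exact up_mul _ _
          rwa [e] at h5
        · by_cases hji : j = i
          · subst hji
            rw [Pi.single_eq_same, K.F_two h2 j]
          · rw [Pi.single_eq_of_ne hji, zero_add]
            exact hb j (by
              rw [Finset.mem_insert]
              rintro (h6 | h6)
              · exact hji h6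
              · exact hj h6)
      have h5 := (⨆ i, P i).mul_mem ((⨆ i, P i).inv_mem h3) h4
      rwa [inv_mul_cancel_left] at h5
  classical
  exact key Finset.univ b (fun j hj => absurd (Finset.mem_univ j) hj) r hr hb

/-- the same for elements of `R` trivial on `W_R` -/
theorem mem_iSup_of_fix (hRH : R ≤ H) (P : Fin k → Subgroup Y)
    (hP : ∀ i, ∀ r ∈ R, ∀ b : Fin k → F, (∀ j, j ≠ i → b j = 0) → Acts V H R co r (fun j => up (b j)) → r ∈ P i)
    (i₀ : Fin k) {r : Y} (hr : r ∈ R) {n : ℕ} (hn : r ^ 2 ^ n = 1) (hfix : ∀ v ∈ WR V H R co, r • v = v) :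
    r ∈ ⨆ i, P i := by
  obtain ⟨b, hb⟩ := K.exists_up h2 hRH hr hn hfix
  exact K.mem_iSup_of h2 hRH P hP i₀ hr hb

end KNat

end Cfsg.Agent.Omega.NO1.TH.K
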