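import Cfsg.Agent.Omega.NO1.TH.K.Base
import Cfsg.Agent.Omega.NO1.TH.K.EOne
import Cfsg.Agent.Omega.NO1.TH.K.Up
import Cfsg.Agent.Omega.NO1.TH.LOneDef

/-!
# N1, natural type with `k` factors: the input `LIn` of (L1) (bb OMEGA 21480 / 20646), assembly

`LIn` from `LFac` on both sides, (a), (e) [`S_X ≤ K`, the support of `B₁` on `W'`] and (z).
-/

set_option autoImplicit false
set_option linter.unusedSectionVars false
set_option linter.dupNamespace false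

namespace Cfsg.Agent.Omega.NO1.TH

open Subgroup Cfsg.Agent.Omega.NO1.AB Cfsg.Agent.Omega.FFBr Cfsg.Agent.Lib.SL2Mat
open scoped Pointwise

universe u

variable {Y : Type u} [Group Y] {V : Type u} [AddCommGroup V] [DistribMulAction Y V]
variable [Finite Y] [Finite V] {U : Set (Subgroup Y)} {T : Sylow 2 Y} {M H R : Subgroup Y} {t : Y}

/-- **`LIn`, any type** -/
theorem lIn_of (a : Amal U T M H R t) (a' : Amal U T M (MulAut.conj t • H) R t) (h : Amb V U T M)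
    (we : WE V U H R) (we' : WE V U (MulAut.conj t • H) R) {ι : Type} {P : ι → Subgroup Y}
    {Ψ : ι → AddSubgroup V} {ι' : Type} {P' : ι' → Subgroup Y} {Ψ' : ι' → AddSubgroup V} {A : Subgroup Y}
    (fac : LFac V U H R P Ψ) (fac' : LFac V U (MulAut.conj t • H) R P' Ψ') (hA : A ∈ U) (hAH : A ≤ H)
    (hAM : ¬ A ≤ M) (hBQ : ¬ A ⊓ QQ H R ≤ QQ (MulAut.conj t • H) R)
    (hS : ∀ w, w ∉ Ee V A → ∀ s ∈ A, s • w + w ∈ WW V H R ⊔ WW V (MulAut.conj t • H) R ⊔ fx V A →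
      s ∈ QQ H R ∧ s ∈ QQ (MulAut.conj t • H) R)
    (faith : ∀ u ∈ A, (∀ w ∈ WW V H R, u • w + w ∈ D0 V U H R) → u ∈ QQ H R)
    (le₁ : ∀ x ∈ H, ∀ w ∈ WW V (MulAut.conj t • H) R, x • w ∈ Ee V A)
    (le₂ : ∀ x ∈ MulAut.conj t • H, ∀ w ∈ WW V H R, x • w ∈ Ee V A)
    (exact : ∃ Δ : Set ι', Δ.Nonempty ∧ (∀ b ∈ A, b ∈ QQ H R → b ∈ ⨆ p ∈ Δ, P' p) ∧
      ∀ p ∈ Δ, ∀ r ∈ P' p, ∃ b ∈ A, b ∈ QQ H R ∧ b⁻¹ * r ∈ QQ (MulAut.conj t • H) R)
    (mov : ∃ p, (∀ x ∈ brk (Ψ p) (P p), x ∈ fx V A → x ∈ D0 V U H R) ∧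
      (∃ u ∈ A, ∃ x ∈ brk (Ψ p) (P p), u • x ∉ brk (Ψ p) (P p)) ∧
      (∀ r ∈ P p, (∃ x ∈ Ψ p, r • x ≠ x) → ∀ z ∈ brk (Ψ p) (P p), ∃ x ∈ Ψ p, r • x + x + z ∈ D0 V U H R)) :
    LIn V U M H R t P Ψ P' Ψ' A := by
  have hAQ : ¬ A ≤ QQ H R := fun h1 => hAM (h1.trans (QQ_le.trans (a.RT.trans h.TM)))
  have hE : WW V (MulAut.conj t • H) R ≤ Ee V A := fun w hw => by
    have h1 := le₁ 1 H.one_mem w hw
    rwa [one_smul] at h1
  exact
    { fac := fac
      fac' := fac'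
      mA := hA
      AH := hAH
      AM := hAM
      AQ := hAQ
      WE := a.WW_le_Ee h we hA hAH
      pre := fun w hw s hs h1 => (hS w hw s hs (by
        rw [sup_right_comm]
        exact (le_sup_left : _ ≤ WW V H R ⊔ fx V A ⊔ WW V (MulAut.conj t • H) R) h1)).1
      faith := faith
      CB := fun v hv => by
        rw [← a.fx_eq h we hA hAH]
        exact fun b hb => hv b hb.1 hb.2
      CK := fun v hv => by
        obtain ⟨w, hw⟩ := (h.cls.mem A hA).ne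
        rw [← Amal.e_CK a a' h we we' hA hAH hE hw hAQ hBQ (hS w hw)]
        exact fun b hb => hv b hb.1.1 hb.1.2 hb.2
      le₁ := le₁
      le₂ := le₂
      exact := exact
      mov := mov.imp fun _ h1 => h1.1 }

end Cfsg.Agent.Omega.NO1.TH

namespace Cfsg.Agent.Omega.NO1.TH.K

open Subgroup Cfsg.Agent.Omega.NO1.AB Cfsg.Agent.Omega.FFBr Cfsg.Agent.Lib.SL2Mat
open scoped Pointwise

universe u

variable {Y : Type u} [Group Y] {V : Type u} [AddCommGroup V] [DistribMulAction Y V]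

/-- the root group `R_i` of `R` (with `Q`) -/
def Rt (V : Type u) [AddCommGroup V] [DistribMulAction Y V] (H R : Subgroup Y) {F : Type} [Field F] {k : ℕ}
    (co : V → Fin k → Fin 2 → F) (i : Fin k) (r : Y) : Prop :=
  r ∈ R ∧ ∃ b : Fin k → F, (∀ j, j ≠ i → b j = 0) ∧ Acts V H R co r fun j => up (b j)

variable {H R : Subgroup Y} {F : Type} [Field F] {k : ℕ} {co : V → Fin k → Fin 2 → F}

/-- an element of `R` acting as `(up (b i))_i`, `b = 0` outside `Δ`, is a product of elements of the root groups,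
`i ∈ Δ` -/
theorem KNat.mem_biSup_of (K : KNat V H R F k co) (h2 : ∀ v : V, v + v = 0) (hRH : R ≤ H) (P : Fin k → Subgroup Y)
    (hP : ∀ i r, Rt V H R co i r → r ∈ P i) {Δ : Set (Fin k)} (hΔ : Δ.Nonempty) {r : Y} (hr : r ∈ R)
    {b : Fin k → F} (hb0 : ∀ i, i ∉ Δ → b i = 0) (hb : Acts V H R co r fun i => up (b i)) : r ∈ ⨆ i ∈ Δ, P i := by
  obtain ⟨i₀, hi₀⟩ := hΔ
  have hle : ∀ i ∈ Δ, P i ≤ ⨆ i ∈ Δ, P i := fun i hi => le_iSup₂_of_le i hi le_rfl
  have key : ∀ s : Finset (Fin k), (∀ i ∈ s, i ∈ Δ) → ∀ b : Fin k → F, (∀ j, j ∉ s → b j = 0) → ∀ r ∈ R,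
      Acts V H R co r (fun j => up (b j)) → r ∈ ⨆ i ∈ Δ, P i := by
    classical
    intro s
    induction s using Finset.induction with
    | empty =>
      intro _ b hb r hr hr'
      exact hle i₀ hi₀ (hP i₀ r ⟨hr, b, fun j _ => hb j (Finset.notMem_empty j), hr'⟩)
    | insert i s hi ih =>
      intro hs b hb r hr hr'
      obtain ⟨u, hu, hu'⟩ := K.unip (Pi.single i (b i))
      have h3 : u ∈ ⨆ i ∈ Δ, P i := hle i (hs i (Finset.mem_insert_self i s))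
        (hP i u ⟨hu, _, fun j hj => Pi.single_eq_of_ne hj _, hu'⟩)
      have h4 : u * r ∈ ⨆ i ∈ Δ, P i := by
        apply ih (fun j hj => hs j (Finset.mem_insert_of_mem hj))
          (fun j => (Pi.single i (b i) : Fin k → F) j + b j) (fun j hj => ?_) _ (R.mul_mem hu hr)
        · exact hu'.up_mul (hRH hr) hr'
        · by_cases hji : j = i
          · subst hji
            rw [Pi.single_eq_same, K.F_two h2 j]
          · rw [Pi.single_eq_of_ne hji, zero_add]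
            exact hb j (by
              rw [Finset.mem_insert]
              rintro (h6 | h6)
              · exact hji h6
              · exact hj h6)
      have h5 := (⨆ i ∈ Δ, P i).mul_mem ((⨆ i ∈ Δ, P i).inv_mem h3) h4
      rwa [inv_mul_cancel_left] at h5
  classical
  refine key (Finset.univ.filter fun i => i ∈ Δ) (fun i hi => (Finset.mem_filter.1 hi).2) b (fun j hj => ?_) r hr hb
  apply hb0
  intro h3
  exact hj (Finset.mem_filter.2 ⟨Finset.mem_univ j, h3⟩)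

variable [Finite Y] [Finite V] {U : Set (Subgroup Y)} {T : Sylow 2 Y} {M : Subgroup Y} {t : Y}

/-- field `exact` of `LIn` from the support of `B₁` on `W'` -/
theorem exact_of (K : KNat V H R F k co) (h2 : ∀ v : V, v + v = 0) (hRH : R ≤ H) {P : Fin k → Subgroup Y}
    (hP : ∀ i r, r ∈ P i ↔ Rt V H R co i r) {B : Subgroup Y} (hBR : B ≤ R) {Δ : Set (Fin k)} (hΔ : Δ.Nonempty)
    (hS : Supp V H R co B Δ) : ∃ Δ : Set (Fin k), Δ.Nonempty ∧ (∀ b ∈ B, b ∈ ⨆ p ∈ Δ, P p) ∧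
      ∀ p ∈ Δ, ∀ r ∈ P p, ∃ b ∈ B, b⁻¹ * r ∈ QQ H R := by
  refine ⟨Δ, hΔ, fun x hx => ?_, fun p hp r hr => ?_⟩
  · obtain ⟨b, hb0, hb⟩ := hS.act x hx
    exact K.mem_biSup_of h2 hRH P (fun i r => (hP i r).2) hΔ (hBR hx) hb0 hb
  · obtain ⟨hrR, b, hb0, hb⟩ := (hP p r).1 hr
    obtain ⟨x, hx, hxb⟩ := hS.full b fun i hi => hb0 i (by
      rintro rfl
      exact hi hp)
    refine ⟨x, hx, ?_⟩
    have h3 := hxb.inv (hRH (hBR hx))
    have e : (fun i => (up (b i))⁻¹) = fun i => up (-b i) := by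
      funext i
      exact up_inv _
    rw [e] at h3
    have h4 := h3.up_mul (hRH hrR) hb
    exact K.mem_Q_of_up_zero h2 hRH (R.mul_mem (R.inv_mem (hBR hx)) hrR) h4 fun i => neg_add_cancel _

/-- `B₁ ≰ Q'` from the support -/
theorem not_le_of_supp (K : KNat V H R F k co) (amb : Amb V U T M) (a : Amal U T M H R t) {B : Subgroup Y}
    {Δ : Set (Fin k)} (hΔ : Δ.Nonempty) (hS : Supp V H R co B Δ) : ¬ B ≤ QQ H R := by
  intro h1
  obtain ⟨i, hi⟩ := hΔ
  classical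
  obtain ⟨u, hu, h4⟩ := hS.full (Pi.single i 1) fun l hl => by
    rw [Pi.single_eq_of_ne]
    rintro rfl
    exact hl hi
  obtain ⟨v, hv, hvi, _⟩ := K.exists_at i ![0, 1]
  have h5 := h4.up_fst hv i
  rw [Q_fix amb a u (h1 hu) v hv, hvi, Pi.single_eq_same] at h5
  simp at h5

end Cfsg.Agent.Omega.NO1.TH.K
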