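import Cfsg.Agent.Omega.NO1.TH.K.Base

/-!
# N1, natural type, `k` factors: an opposite member generates `H` with `R`

`Opp.not_le` : a subgroup of `H` which acts on `W` as the product of the opposite root groups `i ∈ I ≠ ∅` is not in `M`.
`exists_opp` : opposite members exist, with the support of a given member of `R`.
-/

set_option autoImplicit false
set_option linter.unusedSectionVars false
set_option linter.dupNamespace false

namespace Cfsg.Agent.Omega.NO1.TH.K

open Subgroup Cfsg.Agent.Omega.NO1.AB Cfsg.Agent.Omega.FFBr Cfsg.Agent.Lib.SL2Mat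
open Cfsg.Agent.Omega.NatPair (ap)
open scoped Pointwise

universe u

variable {Y : Type u} [Group Y] {V : Type u} [AddCommGroup V] [DistribMulAction Y V]

section coords

variable {H R : Subgroup Y} {F : Type} [Field F] {k : ℕ} {co : V → Fin k → Fin 2 → F}

/-- the elements of `SL₂(F)^k` which are induced by elements of `L` -/
def ind (_ : KNat V H R F k co) {L : Subgroup Y} (hL : L ≤ H) :
    Subgroup (Fin k → Matrix.SpecialLinearGroup (Fin 2) F) where
  carrier := {A | ∃ g ∈ L, Acts V H R co g A}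
  one_mem' := ⟨1, L.one_mem, Acts.one⟩
  mul_mem' := by
    rintro A B ⟨g, hg, h1⟩ ⟨h, hh, h2⟩
    exact ⟨g * h, L.mul_mem hg hh, h1.mul (hL hh) h2⟩
  inv_mem' := by
    rintro A ⟨g, hg, h1⟩
    exact ⟨g⁻¹, L.inv_mem hg, h1.inv (hL hg)⟩

theorem Acts.inj (K : KNat V H R F k co) {g : Y} {A B : Fin k → Matrix.SpecialLinearGroup (Fin 2) F}
    (h1 : Acts V H R co g A) (h2 : Acts V H R co g B) : A = B := by
  funext i
  apply NatPair.ap_inj
  intro x
  obtain ⟨v, hv, hvi, _⟩ := K.exists_at i x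
  rw [← hvi, ← h1.1 v hv i, ← h2.1 v hv i]

theorem mulSingle_up [DecidableEq (Fin k)] (i : Fin k) (b : F) :
    (fun l => up ((Pi.single i b : Fin k → F) l)) = Pi.mulSingle i (up b) := by
  funext l
  by_cases h : l = i
  · subst h
    rw [Pi.single_eq_same, Pi.mulSingle_eq_same]
  · rw [Pi.single_eq_of_ne h, Pi.mulSingle_eq_of_ne h, up_zero]

theorem mulSingle_lo [DecidableEq (Fin k)] (i : Fin k) (b : F) :
    (fun l => lo ((Pi.single i b : Fin k → F) l)) = Pi.mulSingle i (lo b) := by
  funext l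
  by_cases h : l = i
  · subst h
    rw [Pi.single_eq_same, Pi.mulSingle_eq_same]
  · rw [Pi.single_eq_of_ne h, Pi.mulSingle_eq_of_ne h, lo_zero]

theorem inv_mul_one (A : Fin k → Matrix.SpecialLinearGroup (Fin 2) F) : (fun l => (A l)⁻¹) * A = fun _ => 1 := by
  funext l
  exact inv_mul_cancel _

/-- `SL₂(F)` in one block is generated by `R` and an opposite group -/
theorem ind_single (K : KNat V H R F k co) {L : Subgroup Y} (hL : L ≤ H) (hR : R ≤ L) {B : Subgroup Y} (hB : B ≤ L)
    {I : Set (Fin k)} (hO : Opp V H R co B I) {i : Fin k} (hi : i ∈ I)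
    (A : Matrix.SpecialLinearGroup (Fin 2) F) : Pi.mulSingle i A ∈ ind K hL := by
  obtain ⟨p, q, r, s, rfl⟩ := exists_up_lo A
  have hup : ∀ b : F, Pi.mulSingle i (up b) ∈ ind K hL := by
    intro b
    obtain ⟨g, hg, h1⟩ := K.unip (Pi.single i b)
    refine ⟨g, hR hg, ?_⟩
    rw [← mulSingle_up]
    exact h1
  have hlo : ∀ b : F, Pi.mulSingle i (lo b) ∈ ind K hL := by
    intro b
    obtain ⟨g, hg, h1⟩ := hO.full (Pi.single i b) fun l hl => by
      rw [Pi.single_eq_of_ne]
      rintro rfl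
      exact hl hi
    refine ⟨g, hB hg, ?_⟩
    rw [← mulSingle_lo]
    exact h1
  rw [Pi.mulSingle_mul, Pi.mulSingle_mul, Pi.mulSingle_mul]
  exact mul_mem (mul_mem (mul_mem (hup p) (hlo q)) (hup r)) (hlo s)

/-- transport to another block -/
theorem ind_trans [Finite F] (K : KNat V H R F k co) (two : ∀ v : V, v + v = 0) {L : Subgroup Y} (hL : L ≤ H)
    (hR : R ≤ L) {i : Fin k} (hi : ∀ A, Pi.mulSingle i A ∈ ind K hL) (j : Fin k)
    (A : Matrix.SpecialLinearGroup (Fin 2) F) : Pi.mulSingle j A ∈ ind K hL := by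
  classical
  obtain ⟨r, hr, hrs⟩ := K.trans i j
  have hrH : r ∈ H := hL (hR hr)
  obtain ⟨σ, hσ⟩ := K.perm r hrH
  have hσi : σ i = j := by
    by_contra hne
    obtain ⟨v, hv, hvi, hv0⟩ := K.exists_at i ![1, 0]
    have h1 : co (r • v) j ≠ 0 := by
      rw [Ne, hrs v hv, hvi]
      intro h2
      have h3 : (1 : F) = 0 := congrFun h2 0
      exact one_ne_zero h3
    apply h1
    have h2 := (hσ v hv (σ.symm j)).2 (hv0 _ fun h3 => hne (by rw [← h3, Equiv.apply_symm_apply]))
    rwa [Equiv.apply_symm_apply] at h2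
  -- conjugation with `r`
  have key : ∀ A : Matrix.SpecialLinearGroup (Fin 2) F, ∃ (g : Y) (B : Matrix.SpecialLinearGroup (Fin 2) F), g ∈ L ∧
      Acts V H R co g (Pi.mulSingle i A) ∧ Acts V H R co (r * g * r⁻¹) (Pi.mulSingle j B) := by
    intro A
    obtain ⟨g, hg, h1⟩ := hi A
    have hgH := hL hg
    obtain ⟨B, hB⟩ := K.norm r hrH g hgH _ h1.1
    have hcH : r * g * r⁻¹ ∈ H := H.mul_mem (H.mul_mem hrH hgH) (H.inv_mem hrH)
    have h2 : B = Pi.mulSingle j (B j) := by
      funext l
      by_cases h : l = j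
      · subst h
        rw [Pi.mulSingle_eq_same]
      · rw [Pi.mulSingle_eq_of_ne h]
        apply NatPair.ap_inj
        intro x
        obtain ⟨v, hv, hvl, _⟩ := K.exists_at l x
        have h3 := hB v hv l
        rw [hvl] at h3
        rw [← h3, NatPair.ap_one]
        -- the block `σ⁻¹ l ≠ i` of `g` is trivial
        have h4 : σ.symm l ≠ i := by
          intro h5
          apply h
          rw [← hσi, ← h5, Equiv.apply_symm_apply]
        have hvr : r⁻¹ • v ∈ WW V H R := smul_mem_WW (H.inv_mem hrH) hv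
        have h5 : co (g • r⁻¹ • v + r⁻¹ • v) (σ.symm l) = 0 := by
          rw [K.add _ (smul_mem_WW hgH hvr) _ hvr, Pi.add_apply, h1.1 _ hvr, Pi.mulSingle_eq_of_ne h4,
            NatPair.ap_one]
          funext m
          exact K.ff two i _
        have h6 := (hσ _ (add_mem (smul_mem_WW hgH hvr) hvr) (σ.symm l)).2 h5
        rw [Equiv.apply_symm_apply, smul_add, smul_inv_smul, ← mul_smul, ← mul_smul,
          K.add _ (smul_mem_WW hcH hv) _ hv, Pi.add_apply] at h6
        have h7 : co ((r * g * r⁻¹) • v) l + co v l + co v l = co v l := by rw [h6, zero_add]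
        rw [add_assoc] at h7
        have h8 : co v l + co v l = 0 := by
          funext m
          exact K.ff two i _
        rw [h8, add_zero, hvl] at h7
        exact h7
    refine ⟨g, B j, hg, h1, ?_, fun d hd h0 => ?_⟩
    · rw [← h2]; exact hB
    · have h3 : r⁻¹ • d ∈ WW V H R := smul_mem_WW (H.inv_mem hrH) hd
      have h4 : co (r⁻¹ • d) = 0 := by
        funext l
        exact (hσ _ h3 l).1 (by rw [smul_inv_smul, h0]; rfl)
      rw [mul_smul, mul_smul, h1.2 _ h3 h4, smul_inv_smul]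
  choose g B hg h1 h2 using key
  have hinj : Function.Injective B := by
    intro A A' hAA
    -- `r g r⁻¹` and `r g' r⁻¹` act alike
    have h3 : ∀ w ∈ WW V H R, (g A) • w = (g A') • w := by
      intro w hw
      have h4 := h2 A
      have h5 := h2 A'
      rw [← hAA] at h5
      have hrw : r • w ∈ WW V H R := smul_mem_WW hrH hw
      have hcH : ∀ A, r * g A * r⁻¹ ∈ H := fun A => H.mul_mem (H.mul_mem hrH (hL (hg A))) (H.inv_mem hrH)
      have h6 := K.fix_of_one (x := (r * g A' * r⁻¹)⁻¹ * (r * g A * r⁻¹)) (by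
        have h7 := (h5.inv (hcH A')).mul (hcH A) h4
        rwa [inv_mul_one] at h7) (H.mul_mem (H.inv_mem (hcH A')) (hcH A)) hrw
      rw [mul_smul, inv_smul_eq_iff] at h6
      have e : ∀ x : Y, (r * x * r⁻¹) • r • w = r • x • w := by
        intro x
        rw [← mul_smul, ← mul_smul]
        congr 1
        group
      rw [e, e, smul_left_cancel_iff] at h6
      exact h6
    have h4 : Acts V H R co (g A) (Pi.mulSingle i A') := by
      refine ⟨fun v hv l => ?_, fun d hd h0 => ?_⟩
      · rw [h3 v hv]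
        exact (h1 A').1 v hv l
      · rw [h3 d hd]
        exact (h1 A').2 d hd h0
    have h5 := Acts.inj K (h1 A) h4
    have h6 := congrFun h5 i
    rwa [Pi.mulSingle_eq_same, Pi.mulSingle_eq_same] at h6
  obtain ⟨A', hA'⟩ := Finite.surjective_of_injective hinj A
  refine ⟨r * g A' * r⁻¹, L.mul_mem (L.mul_mem (hR hr) (hg A')) (L.inv_mem (hR hr)), ?_⟩
  rw [← hA']
  exact h2 A'

theorem ind_top [Finite F] (K : KNat V H R F k co) (two : ∀ v : V, v + v = 0) {L : Subgroup Y} (hL : L ≤ H)
    (hR : R ≤ L) {B : Subgroup Y} (hB : B ≤ L) {I : Set (Fin k)} (hI : I.Nonempty) (hO : Opp V H R co B I)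
    (A : Fin k → Matrix.SpecialLinearGroup (Fin 2) F) : ∃ g ∈ L, Acts V H R co g A := by
  classical
  obtain ⟨i, hi⟩ := hI
  have h1 : A ∈ ind K hL := Subgroup.pi_mem_of_mulSingle_mem A fun j =>
    ind_trans K two hL hR (fun A => ind_single K hL hR hB hO hi A) j (A j)
  exact h1

end coords

section members

variable [Finite Y] [Finite V] {U : Set (Subgroup Y)} {T : Sylow 2 Y} {M H R : Subgroup Y} {t : Y} {F : Type} [Field F]
  {k : ℕ} {co : V → Fin k → Fin 2 → F}

/-- **an opposite group is not in `M`** -/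
theorem Opp.not_le [Finite F] (K : KNat V H R F k co) (amb : Amb V U T M) (a : Amal U T M H R t) {B : Subgroup Y}
    (hBH : B ≤ H) {I : Set (Fin k)} (hI : I.Nonempty) (hO : Opp V H R co B I) : ¬ B ≤ M := by
  intro hBM
  have hRM : R ≤ M := a.RT.trans amb.TM
  have h1 := K.gen (M ⊓ H) (le_inf hRM a.RH) inf_le_right fun h hh A hA => by
    obtain ⟨g, hg, h2⟩ := ind_top K amb.two (L := M ⊓ H) inf_le_right (le_inf hRM a.RH) (le_inf hBM hBH) hI hO A
    have h3 : Acts V H R co (g⁻¹ * h) fun _ => 1 := by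
      have h4 := (h2.inv hg.2).mul hh hA
      rwa [inv_mul_one] at h4
    have h4 : ∀ w ∈ WW V H R, (g⁻¹ * h) • w = w := fun w hw =>
      K.fix_of_one h3 (H.mul_mem (H.inv_mem hg.2) hh) hw
    have h5 : zpowers (g⁻¹ * h) ≤ M := Amal.ker_le_M a amb (by
      intro x hx v hv
      have h6 : zpowers (g⁻¹ * h) ≤ MulAction.stabilizer Y v := by
        rw [zpowers_le, MulAction.mem_stabilizer_iff]
        exact h4 v (fx_le_WW hv)
      exact h6 hx)
    have h6 := M.mul_mem hg.1 (h5 (mem_zpowers _))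
    rw [mul_inv_cancel_left] at h6
    exact ⟨h6, hh⟩
  apply Amal.H_not_le a amb
  rw [← h1]
  exact inf_le_left

/-- `⟨R, U₁⟩ = H` -/
theorem Opp.gen [Finite F] (K : KNat V H R F k co) (amb : Amb V U T M) (a : Amal U T M H R t) {B : Subgroup Y}
    (hBH : B ≤ H) {I : Set (Fin k)} (hI : I.Nonempty) (hO : Opp V H R co B I) : R ⊔ B = H :=
  a.gen hBH (hO.not_le K amb a hBH hI)

/-- opposite members -/
theorem exists_opp (K : KNat V H R F k co) {B : Subgroup Y} (hBH : B ≤ H) {I : Set (Fin k)}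
    (hS : Supp V H R co B I) : ∃ h ∈ H, (Acts V H R co h fun _ => wm 1 one_ne_zero) ∧
      Opp V H R co (MulAut.conj h • B) I := by
  obtain ⟨h, hh, hA⟩ := K.lift fun _ => wm 1 one_ne_zero
  exact ⟨h, hh, hA, hS.opp hh hA hBH⟩

end members

end Cfsg.Agent.Omega.NO1.TH.K
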