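import Cfsg.Agent.Omega.NO1.TH.K.Opp

/-!
# N1, natural type, `k` factors: `R / Q` (bb OMEGA 20646 (b))

`acts_of_lin` : an element of `R` acting on `W / D₀` as an element of `SL₂(F)^k` is a root element;
`acts_of_comm` : so is an element of `R` commuting with all root elements (`C_{R/Q}(∏ R_i) = ∏ R_i`);
`exists_root` : a normal subgroup `N ≰ Q` of `R` contains root elements `≠ 1`;
`co_one_of_fix` : a vector of `W` fixed by such an `N` lies in `W_R`;
`TwoN.inf_le` : `W ∩ W' ⊆ W_R` (#20646 (b)).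
-/

set_option autoImplicit false
set_option linter.unusedSectionVars false
set_option linter.dupNamespace false

namespace Cfsg.Agent.Omega.NO1.TH.K

open Subgroup Cfsg.Agent.Omega.NO1.AB Cfsg.Agent.Omega.FFBr Cfsg.Agent.Lib.SL2Mat
open Cfsg.Agent.Omega.NatPair (ap)
open scoped Pointwise

universe u

variable {Y : Type u} [Group Y] {V : Type u} [AddCommGroup V] [DistribMulAction Y V]

section coords

variable {H R : Subgroup Y} {F : Type} [Field F] {k : ℕ} {co : V → Fin k → Fin 2 → F}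

theorem KNat.add' (K : KNat V H R F k co) {v w : V} (hv : v ∈ WW V H R) (hw : w ∈ WW V H R) (i : Fin k) :
    co (v + w) i = co v i + co w i := by
  rw [K.add v hv w hw]; rfl

theorem KNat.ff' (K : KNat V H R F k co) (two : ∀ v : V, v + v = 0) (i : Fin k) (x : Fin 2 → F) : x + x = 0 := by
  funext m
  exact K.ff two i _

theorem KNat.charP (K : KNat V H R F k co) (two : ∀ v : V, v + v = 0) (i : Fin k) : CharP F 2 :=
  CharTwo.of_one_ne_zero_of_two_eq_zero one_ne_zero (by
    have h := K.ff two i (1 : F)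
    rwa [one_add_one_eq_two] at h)

/-- `r ∈ R` acting as the scalar `δ` on the second coordinates: `δ = 1` -/
theorem KNat.scal_eq_one (K : KNat V H R F k co) (two : ∀ v : V, v + v = 0) (hRH : R ≤ H) (hR2 : IsPGroup 2 R) {r : Y}
    (hr : r ∈ R) {i : Fin k} {δ : F} (h : ∀ v ∈ WW V H R, co (r • v) i 1 = δ * co v i 1) : δ = 1 := by
  have : Fact (Nat.Prime 2) := ⟨Nat.prime_two⟩
  have := K.charP two i
  have h1 : ∀ n : ℕ, ∀ v ∈ WW V H R, co (r ^ n • v) i 1 = δ ^ n * co v i 1 := by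
    intro n
    induction n with
    | zero => intro v _; rw [pow_zero, pow_zero, one_smul, one_mul]
    | succ n ih =>
      intro v hv
      rw [pow_succ, mul_smul, ih _ (smul_mem_WW (hRH hr) hv), h v hv, pow_succ, mul_assoc]
  obtain ⟨m, hm⟩ := hR2 ⟨r, hr⟩
  have h2 : r ^ 2 ^ m = 1 := congrArg Subtype.val hm
  obtain ⟨v, hv, hvi, _⟩ := K.exists_at i ![0, 1]
  have h3 := h1 (2 ^ m) v hv
  rw [h2, one_smul, hvi] at h3
  have h4 : δ ^ 2 ^ m = 1 := by
    have h5 : (![0, 1] : Fin 2 → F) 1 = 1 := rfl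
    rw [h5, mul_one] at h3
    exact h3.symm
  have h5 : (δ - 1) ^ 2 ^ m = 0 := by
    rw [sub_pow_char_pow, h4, one_pow, sub_self]
  exact sub_eq_zero.1 (pow_eq_zero_iff (by positivity) |>.1 h5)

/-- an element of `R` which acts on `W / D₀` as a root element is one -/
theorem KNat.acts_of_up (K : KNat V H R F k co) (hRH : R ≤ H) {r : Y} (hr : r ∈ R) {b : Fin k → F}
    (h : ∀ v ∈ WW V H R, ∀ i, co (r • v) i = ap (up (b i)) (co v i)) : Acts V H R co r fun i => up (b i) := by
  obtain ⟨r', hr', h1⟩ := K.unip b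
  refine ⟨h, fun d hd h0 => ?_⟩
  have h2 := K.trivH (r'⁻¹ * r) (H.mul_mem (H.inv_mem (hRH hr')) (hRH hr)) (by
    intro w hw
    funext i
    have h3 := (h1.inv (hRH hr')).1 (r • w) (smul_mem_WW (hRH hr) hw) i
    rw [mul_smul, h3, h w hw, NatPair.ap_inv_ap]) d hd
  rw [mul_smul, inv_smul_eq_iff, h1.2 d hd h0] at h2
  exact h2

/-- an element of `R` acting on `W / D₀` as an element of `SL₂(F)^k` is a root element -/
theorem KNat.acts_of_lin (K : KNat V H R F k co) (two : ∀ v : V, v + v = 0) (hRH : R ≤ H) (hR2 : IsPGroup 2 R) {r : Y}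
    (hr : r ∈ R) {C : Fin k → Matrix.SpecialLinearGroup (Fin 2) F}
    (h : ∀ v ∈ WW V H R, ∀ i, co (r • v) i = ap (C i) (co v i)) :
    ∃ b : Fin k → F, Acts V H R co r fun i => up (b i) := by
  obtain ⟨σ, hσ⟩ := K.line r hr
  have h1 : ∀ i, σ i = i := by
    intro i
    by_contra hne
    obtain ⟨v, hv, hvi, hv0⟩ := K.exists_at i ![0, 1]
    have h2 : co (r • v) (σ i) 1 = 0 := by
      rw [h v hv, hv0 _ hne, NatPair.ap_one']
      simp
    rw [hσ v hv, hvi] at h2
    exact one_ne_zero (show (1 : F) = 0 from h2)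
  have h2 : ∀ i, ent (C i) 1 0 = 0 := by
    intro i
    obtain ⟨v, hv, hvi, hv0⟩ := K.exists_at i ![1, 0]
    have h3 := (hσ v hv i).2 (by rw [hvi]; rfl)
    rw [h1, h v hv, NatPair.ap_one', hvi] at h3
    simpa using h3
  have h3 : ∀ i, ent (C i) 1 1 = 1 := by
    intro i
    apply K.scal_eq_one two hRH hR2 hr (i := i)
    intro v hv
    rw [h v hv, NatPair.ap_one', h2, zero_mul, zero_add]
  have h4 : ∀ i, C i = up (ent (C i) 0 1) := by
    intro i
    have h5 := det_eq (C i)
    rw [h2, h3, mul_zero, sub_zero, mul_one] at h5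
    refine ext_ent ?_ ?_ ?_ ?_
    · rw [up_00, h5]
    · rw [up_01]
    · rw [up_10, h2]
    · rw [up_11, h3]
  refine ⟨fun i => ent (C i) 0 1, K.acts_of_up hRH hr fun v hv i => ?_⟩
  rw [h v hv i]
  exact congrArg (fun D => ap D (co v i)) (h4 i)

/-- an element of `R` commuting on `W` with all root elements is a root element -/
theorem KNat.acts_of_comm [Finite F] (K : KNat V H R F k co) (two : ∀ v : V, v + v = 0) (hRH : R ≤ H)
    (hR2 : IsPGroup 2 R) {n : Y} (hn : n ∈ R)
    (h : ∀ r ∈ R, ∀ b : Fin k → F, (Acts V H R co r fun i => up (b i)) → ∀ w ∈ WW V H R, n • r • w = r • n • w) :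
    ∃ b : Fin k → F, Acts V H R co n fun i => up (b i) := by
  classical
  have hnH : n ∈ H := hRH hn
  have hnH' : n⁻¹ ∈ H := H.inv_mem hnH
  obtain ⟨σ, hσ⟩ := K.perm n hnH
  -- `n` fixes every block
  have h1 : ∀ i, σ i = i := by
    intro i
    by_contra hne
    obtain ⟨r, hr, hrb⟩ := K.unip (Pi.single i 1)
    obtain ⟨v, hv, hvi, hv0⟩ := K.exists_at i ![0, 1]
    have hrv : r • v ∈ WW V H R := smul_mem_WW (hRH hr) hv
    have hnv : n • v ∈ WW V H R := smul_mem_WW hnH hv
    have h2 : co (n • (r • v + v)) (σ i) = 0 := by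
      rw [smul_add, h r hr _ hrb v hv, K.add' (smul_mem_WW (hRH hr) hnv) hnv, hrb.1 _ hnv]
      have e : up ((Pi.single i (1 : F) : Fin k → F) (σ i)) = 1 := by
        rw [Pi.single_eq_of_ne hne, up_zero]
      simp only [e, NatPair.ap_one]
      exact K.ff' two i _
    rw [hσ _ (add_mem hrv hv), K.add' hrv hv] at h2
    have h3 := congrFun h2 0
    rw [Pi.add_apply, hrb.up_fst hv, hvi, Pi.single_eq_same] at h3
    simp at h3
  -- the block maps
  have hblk : ∀ i, ∃ μ : F, ∀ v ∈ WW V H R, co (n • v) i = ap (up μ) (co v i) := by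
    intro i
    choose ve hve hvei _ using K.exists_at i
    have hdep : ∀ v ∈ WW V H R, ∀ w ∈ WW V H R, co v i = co w i → co (n • v) i = co (n • w) i := by
      intro v hv w hw hvw
      have h2 := (hσ (v + w) (add_mem hv hw) i).2 (by rw [K.add' hv hw, hvw]; exact K.ff' two i _)
      rw [h1, smul_add, K.add' (smul_mem_WW hnH hv) (smul_mem_WW hnH hw)] at h2
      have h3 : co (n • v) i + co (n • w) i + co (n • w) i = co (n • w) i := by rw [h2, zero_add]
      rwa [add_assoc, K.ff' two i, add_zero] at h3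
    have hdep' : ∀ v ∈ WW V H R, ∀ w ∈ WW V H R, co v i = co w i → co (n⁻¹ • v) i = co (n⁻¹ • w) i := by
      intro v hv w hw hvw
      have hv' := smul_mem_WW hnH' hv
      have hw' := smul_mem_WW hnH' hw
      have h2 := (hσ (n⁻¹ • v + n⁻¹ • w) (add_mem hv' hw') i).1 (by
        rw [h1, smul_add, smul_inv_smul, smul_inv_smul, K.add' hv hw, hvw]
        exact K.ff' two i _)
      rw [K.add' hv' hw'] at h2
      have h3 : co (n⁻¹ • v) i + co (n⁻¹ • w) i + co (n⁻¹ • w) i = co (n⁻¹ • w) i := by rw [h2, zero_add]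
      rwa [add_assoc, K.ff' two i, add_zero] at h3
    set α : (Fin 2 → F) → (Fin 2 → F) := fun x => co (n • ve x) i with hα
    set β : (Fin 2 → F) → (Fin 2 → F) := fun x => co (n⁻¹ • ve x) i with hβ
    have hαv : ∀ v ∈ WW V H R, co (n • v) i = α (co v i) := fun v hv => hdep v hv _ (hve _) (hvei _).symm
    have hβv : ∀ v ∈ WW V H R, co (n⁻¹ • v) i = β (co v i) := fun v hv => hdep' v hv _ (hve _) (hvei _).symm
    have hadd : ∀ x y, α (x + y) = α x + α y := by
      intro x y
      rw [← hvei x, ← hvei y, ← K.add' (hve x) (hve y), ← hαv _ (add_mem (hve x) (hve y)), ← hαv _ (hve x),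
        ← hαv _ (hve y), smul_add, K.add' (smul_mem_WW hnH (hve x)) (smul_mem_WW hnH (hve y))]
    have hβα : ∀ x, β (α x) = x := by
      intro x
      rw [← hvei x, ← hαv _ (hve x), ← hβv _ (smul_mem_WW hnH (hve x)), inv_smul_smul]
    have hαβ : ∀ x, α (β x) = x := by
      intro x
      rw [← hvei x, ← hβv _ (hve x), ← hαv _ (smul_mem_WW hnH' (hve x)), smul_inv_smul]
    obtain ⟨s, hs⟩ := NatPair.exists_semi α β hadd hβα hαβ (by
      intro A
      obtain ⟨g, hg, hgA⟩ := K.lift fun _ => A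
      obtain ⟨B, hB⟩ := K.norm n⁻¹ hnH' g hg _ hgA.1
      refine ⟨B i, fun x => ?_⟩
      have h2 := hB _ (hve x) i
      rw [hvei, inv_inv, mul_smul, mul_smul] at h2
      rw [← h2]
      have h3 := hgA.1 (n • ve x) (smul_mem_WW hnH (hve x)) i
      rw [← h3, ← hβv _ (smul_mem_WW hg (smul_mem_WW hnH (hve x)))])
    -- commuting with the root elements
    have hcom : ∀ (β' : F) (x : Fin 2 → F), α ![β' * x 1, 0] = ![β' * α x 1, 0] := by
      intro β' x
      obtain ⟨r, hr, hrb⟩ := K.unip (Pi.single i β')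
      have hrv : r • ve x ∈ WW V H R := smul_mem_WW (hRH hr) (hve x)
      have hnv : n • ve x ∈ WW V H R := smul_mem_WW hnH (hve x)
      have h2 := congrArg (fun v => co v i) (h r hr _ hrb _ (hve x))
      change co (n • r • ve x) i = co (r • n • ve x) i at h2
      rw [hαv _ hrv, hrb.1 _ (hve x), hrb.1 _ hnv, hαv _ (hve x), hvei] at h2
      simp only [Pi.single_eq_same] at h2
      rw [ap_up, ap_up] at h2
      have e1 : (![x 0 + β' * x 1, x 1] : Fin 2 → F) = x + ![β' * x 1, 0] := by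
        apply NatPair.ext2
        · rfl
        · change x 1 = x 1 + 0
          rw [add_zero]
      have e2 : (![α x 0 + β' * α x 1, α x 1] : Fin 2 → F) = α x + ![β' * α x 1, 0] := by
        apply NatPair.ext2
        · rfl
        · change α x 1 = α x 1 + 0
          rw [add_zero]
      rw [e1, e2, hadd] at h2
      exact add_left_cancel h2
    set ν : F := α ![0, 1] 1 with hν
    set μ : F := α ![0, 1] 0 with hμ
    have h5 : ∀ c : F, α ![c, 0] = ![c * ν, 0] := by
      intro c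
      have h6 := hcom c ![0, 1]
      have e : (![0, 1] : Fin 2 → F) 1 = 1 := rfl
      rwa [e, mul_one] at h6
    have hν0 : ν ≠ 0 := by
      intro h0
      have h6 := h5 1
      rw [h0, mul_zero] at h6
      have h7 : α (0 : Fin 2 → F) = 0 := by
        have := hadd 0 0
        rw [add_zero] at this
        exact left_eq_add.1 this
      have e : (![0, 0] : Fin 2 → F) = 0 := by
        apply NatPair.ext2 <;> rfl
      rw [e, ← h7] at h6
      have h8 := congrArg β h6
      rw [hβα, hβα] at h8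
      exact one_ne_zero (show (1 : F) = 0 from congrFun h8 0)
    have hs1 : ∀ c, s c = c := by
      intro c
      have h6 := hs c ![1, 0]
      have e : c • (![1, 0] : Fin 2 → F) = ![c, 0] := by
        apply NatPair.ext2
        · change c * 1 = c
          rw [mul_one]
        · change c * 0 = 0
          rw [mul_zero]
      rw [e, h5, h5] at h6
      have h7 := congrFun h6 0
      change c * ν = s c * (1 * ν) at h7
      rw [one_mul] at h7
      exact (mul_right_cancel₀ hν0 h7).symm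
    have hlin : ∀ x, α x = ![x 0 * ν + x 1 * μ, x 1 * ν] := by
      intro x
      have e : x = ![x 0, 0] + x 1 • ![0, 1] := by
        apply NatPair.ext2
        · change x 0 = x 0 + x 1 * 0
          rw [mul_zero, add_zero]
        · change x 1 = 0 + x 1 * 1
          rw [mul_one, zero_add]
      rw [e, hadd, hs, hs1, h5, ← e]
      apply NatPair.ext2
      · change x 0 * ν + x 1 * α ![0, 1] 0 = x 0 * ν + x 1 * μ
        rfl
      · change 0 + x 1 * α ![0, 1] 1 = x 1 * ν
        rw [zero_add]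
    have hν1 : ν = 1 := by
      apply K.scal_eq_one two hRH hR2 hn (i := i)
      intro v hv
      rw [hαv v hv, hlin, mul_comm ν]
      rfl
    refine ⟨μ, fun v hv => ?_⟩
    rw [hαv v hv, hlin, ap_up, hν1, mul_one, mul_one, mul_comm]
  choose b hb using hblk
  exact ⟨b, K.acts_of_up hRH hn fun v hv i => hb i v hv⟩

/-- **a normal subgroup `N ≰ Q` of `R` contains root elements `≠ 1`** -/
theorem KNat.exists_root [Finite F] (K : KNat V H R F k co) (two : ∀ v : V, v + v = 0) (hRH : R ≤ H)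
    (hR2 : IsPGroup 2 R) {N : Subgroup Y} (hNR : N ≤ R) (hNn : ∀ r ∈ R, ∀ n ∈ N, r * n * r⁻¹ ∈ N)
    (hNQ : ¬ N ≤ QQ H R) :
    ∃ n ∈ N, ∃ b : Fin k → F, (Acts V H R co n fun i => up (b i)) ∧ ∃ i, b i ≠ 0 := by
  by_contra hcon
  push Not at hcon
  apply hNQ
  intro n hn
  have hnR := hNR hn
  obtain ⟨b, hb⟩ := K.acts_of_comm two hRH hR2 hnR (by
    intro r hr b hb
    have hnH := hRH hnR
    have hrH := hRH hr
    have hc : n * r * n⁻¹ * r⁻¹ ∈ N := by
      have h1 := N.mul_mem hn (hNn r hr _ (N.inv_mem hn))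
      have e : n * (r * n⁻¹ * r⁻¹) = n * r * n⁻¹ * r⁻¹ := by group
      rwa [e] at h1
    have hcH := hRH (hNR hc)
    obtain ⟨B, hB⟩ := K.norm n hnH r hrH _ hb.1
    have hri := (hb.inv hrH).1
    obtain ⟨c, hcc⟩ := K.acts_of_lin two hRH hR2 (hNR hc) (C := fun i => B i * (up (b i))⁻¹) (by
      intro v hv i
      rw [mul_smul, hB _ (smul_mem_WW (H.inv_mem hrH) hv), hri v hv, ← NatPair.ap_mul])
    have hc0 := hcon _ hc c hcc
    have hone : ∀ w ∈ WW V H R, (n * r * n⁻¹ * r⁻¹) • w = w := by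
      intro w hw
      apply K.fix_of_one _ hcH hw
      have e : (fun i => up (c i)) = fun _ : Fin k => (1 : Matrix.SpecialLinearGroup (Fin 2) F) := by
        funext i
        rw [hc0 i, up_zero]
      rwa [e] at hcc
    intro w hw
    have h1 := hone (r • n • w) (smul_mem_WW hrH (smul_mem_WW hnH hw))
    have e : (n * r * n⁻¹ * r⁻¹) • r • n • w = n • r • w := by
      rw [← mul_smul, ← mul_smul, ← mul_smul]
      congr 1
      group
    rw [e] at h1
    exact h1)
  exact K.mem_Q_of_up_zero two hRH hnR hb (hcon n hn b hb)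

/-- the permutation of the lines is the permutation of the blocks -/
theorem KNat.line_eq (K : KNat V H R F k co) (hRH : R ≤ H) {r : Y} (hr : r ∈ R) {i j : Fin k}
    (hij : ∀ v ∈ WW V H R, co (r • v) j = 0 ↔ co v i = 0) {v : V} (hv : v ∈ WW V H R) :
    co (r • v) j 1 = 0 ↔ co v i 1 = 0 := by
  obtain ⟨σ, hσ⟩ := K.perm r (hRH hr)
  obtain ⟨τ, hτ⟩ := K.line r hr
  have h1 : σ i = j := by
    by_contra hne
    obtain ⟨v, hv, hvi, hv0⟩ := K.exists_at i ![1, 0]
    have h1 : co (r • v) j ≠ 0 := by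
      rw [Ne, hij v hv, hvi]
      intro h2
      have h3 : (1 : F) = 0 := congrFun h2 0
      exact one_ne_zero h3
    apply h1
    have h2 := (hσ v hv (σ.symm j)).2 (hv0 _ fun h3 => hne (by rw [← h3, Equiv.apply_symm_apply]))
    rwa [Equiv.apply_symm_apply] at h2
  have h2 : τ i = j := by
    rw [← h1]
    by_contra hne
    obtain ⟨v, hv, hvi, hv0⟩ := K.exists_at i ![0, 1]
    have h2 : co (r • v) (τ i) 1 ≠ 0 := by
      rw [Ne, hτ v hv, hvi]
      exact one_ne_zero
    apply h2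
    have h3 := (hσ v hv (σ.symm (τ i))).2 (hv0 _ fun h3 => hne ((Equiv.symm_apply_eq σ).1 h3))
    rw [Equiv.apply_symm_apply] at h3
    rw [h3]; rfl
  rw [← h2]
  exact hτ v hv i

/-- **a vector of `W` fixed by a normal subgroup `N ≰ Q` of `R` lies in `W_R`** -/
theorem KNat.co_one_of_fix [Finite F] (K : KNat V H R F k co) (two : ∀ v : V, v + v = 0) (hRH : R ≤ H)
    (hR2 : IsPGroup 2 R) {N : Subgroup Y} (hNR : N ≤ R) (hNn : ∀ r ∈ R, ∀ n ∈ N, r * n * r⁻¹ ∈ N)
    (hNQ : ¬ N ≤ QQ H R) {w : V} (hw : w ∈ WW V H R) (hfix : ∀ n ∈ N, n • w = w) (j : Fin k) : co w j 1 = 0 := by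
  obtain ⟨n, hn, b, hb, i, hi⟩ := K.exists_root two hRH hR2 hNR hNn hNQ
  obtain ⟨r, hr, hrs⟩ := K.trans i j
  have hw' : r⁻¹ • w ∈ WW V H R := smul_mem_WW (H.inv_mem (hRH hr)) hw
  have h1 : n • r⁻¹ • w = r⁻¹ • w := by
    have h2 := hfix _ (hNn r hr n hn)
    rw [mul_smul, mul_smul] at h2
    rw [eq_inv_smul_iff]
    exact h2
  have h2 := hb.up_fst hw' i
  rw [h1] at h2
  have h3 : co (r⁻¹ • w) i 1 = 0 := (mul_eq_zero.1 (left_eq_add.1 h2)).resolve_left hi
  have h4 := (K.line_eq hRH hr hrs hw').2 h3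
  rwa [smul_inv_smul] at h4

end coords

namespace TwoN

variable [Finite Y] [Finite V] {U : Set (Subgroup Y)} {T : Sylow 2 Y} {M H H' R : Subgroup Y} {F : Type} [Field F]
  {k : ℕ} {co co' : V → Fin k → Fin 2 → F} {t : Y} (h : TwoN V U T M H H' R F k co co' t)
include h

theorem W'_eq : WW V H' R = t • WW V H R := by
  rw [h.H'_eq]
  exact WW_conj (fun v => h.a.smul_V0) fun v => h.a.smul_V0'

theorem Q'_eq : QQ H' R = MulAut.conj t • QQ H R := by
  rw [h.H'_eq]
  exact QQ_conj h.a.t_norm fun r hr => h.a.symm_smul hr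

/-- **(*)** -/
theorem star {B : Subgroup Y} (hB : B ∈ U) (hBH : B ≤ H) (hBM : ¬ B ≤ M) :
    ∃ b ∈ B ⊓ QQ H R, b ∉ QQ H' R := by
  rw [h.Q'_eq]
  exact h.a.star h.amb h.we hB hBH hBM

theorem two (v : V) : v + v = 0 := h.amb.two v

theorem Q_norm {r q : Y} (hr : r ∈ R) (hq : q ∈ QQ H R) : r * q * r⁻¹ ∈ QQ H R := conj_mem_QQ (h.a.RH hr) hq

/-- `Q' ≰ Q` -/
theorem Q'_not_le : ¬ QQ H' R ≤ QQ H R := by
  intro h1
  have h2 : QQ H' R = QQ H R := by
    apply eq_of_le_of_card_ge h1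
    rw [h.Q'_eq, conj_card]
  have h3 : QQ H R = ⊥ := by
    apply h.a.no_inv h.amb.core (T.2.to_le (QQ_le.trans h.a.RT))
    · intro x hx y hy
      exact conj_mem_QQ hx hy
    · intro y hy
      have h4 := conj_mem_conj (g := t) hy
      rw [← h.Q'_eq, h2] at h4
      exact h4
    · intro y hy
      rw [← h2, h.Q'_eq, mem_conj] at hy
      exact hy
  obtain ⟨B, hB, hBR⟩ := h.a.memR
  apply Amal.ne_bot h.a h.amb h.we hB (hBR.trans h.a.RH)
  rw [h3, inf_bot_eq]

/-- **(b)** : `W ∩ W' ⊆ W_R` -/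
theorem inf_le [Finite F] {w : V} (hw : w ∈ WW V H R) (hw' : w ∈ WW V H' R) (j : Fin k) : co w j 1 = 0 :=
  h.K.co_one_of_fix h.two h.a.RH h.a.R2 (N := QQ H' R) QQ_le (fun _ hr _ hn => h.swap.Q_norm hr hn) h.Q'_not_le hw
    (fun _ hn => Amal.QQ_fix h.a' h.amb hn hw') j

end TwoN

end Cfsg.Agent.Omega.NO1.TH.K
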