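import Cfsg.Agent.Omega.NO1.TH.K.Off
import Cfsg.Agent.Omega.NO1.TH.K.Root
import Cfsg.Agent.Omega.NO1.TH.K.Gsym

/-!
# N1, natural type with `k` factors: (z) of bb OMEGA 20646

* `KNat.zcore` : the common argument for both halves of (z) (over helper29's `KNat.card_le'`);
* `TwoN.z_one` : `⟨W'^H⟩ ≤ E_A`; `TwoN.z_two` : `⟨W^H'⟩ ≤ E_A`, for an opposite member `A` with `W' ≤ E_A`.
-/

set_option autoImplicit false
set_option linter.unusedSectionVars false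
set_option linter.dupNamespace false

namespace Cfsg.Agent.Omega.NO1.TH.K

open Subgroup Cfsg.Agent.Omega.NO1.AB Cfsg.Agent.Omega.FFBr Cfsg.Agent.Lib.SL2Mat
open scoped Pointwise

universe u

variable {Y : Type u} [Group Y] {V : Type u} [AddCommGroup V] [DistribMulAction Y V] [Finite Y] [Finite V]

/-- the common core of (z) -/
theorem KNat.zcore {H R : Subgroup Y} {F : Type} [Field F] [Finite F] [CharP F 2] {k : ℕ}
    {co : V → Fin k → Fin 2 → F} (K : KNat V H R F k co) (two : ∀ v : V, v + v = 0) (hRH : R ≤ H)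
    {A : Subgroup Y} (hm : Mem A (Ee V A) (fx V A)) {g : Y} {N : Subgroup Y} (hNA : N ≤ A)
    (hNR : MulAut.conj g⁻¹ • N ≤ R) {X : AddSubgroup V} (hX : ∀ n ∈ N, ∀ v ∈ X, n • v = v)
    (hS : ∀ w, w ∉ Ee V A → ∀ s ∈ A, s • w + w ∈ X → s ∈ N)
    (hcard : ∀ w, w ∉ Ee V A → Nat.card F ≤ Nat.card {s : Y // s ∈ A ∧ s • w + w ∈ X})
    (hfx : ∀ v ∈ fx V R, g • v ∈ Ee V A) (hW : ¬ ∀ v ∈ WW V H R, g • v ∈ Ee V A) :
    Nat.card N ≤ Nat.card F := by
  obtain ⟨j, v₀, hv₀, hE, hline⟩ := K.exists_off two hRH (g⁻¹ • Ee V A)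
    (fun v hv => by rw [mem_smul_as, inv_inv]; exact hfx v hv)
    (fun h1 => hW fun v hv => by
      have h3 := h1 hv
      rwa [mem_smul_as, inv_inv] at h3)
  rw [mem_smul_as, inv_inv] at hE
  set w := g • v₀ with hw
  have hgs : ∀ s : Y, (g * s * g⁻¹) • w = g • s • v₀ := fun s => by
    rw [hw, mul_smul, mul_smul, inv_smul_smul]
  have hmem : ∀ {b : Y}, b ∈ MulAut.conj g⁻¹ • N ↔ g * b * g⁻¹ ∈ N := by
    intro b
    rw [mem_conj, inv_inv]
  rw [← conj_card g⁻¹ N]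
  refine K.card_le' hRH (A := MulAut.conj g⁻¹ • N) hNR (((Mem.elAb hm).mono hNA).conj g⁻¹)
    (S := {s | g * s * g⁻¹ ∈ A ∧ (g * s * g⁻¹) • w + w ∈ X}) (fun s hs => hmem.2 (hS w hE _ hs.1 hs.2)) ?_
    (PP_le_WW j hv₀) (fun i hi => K.pp_supp hv₀ hi) hline ?_ ?_
  · refine (hcard w hE).trans ?_
    have hback : ∀ s : Y, g * (g⁻¹ * s * g) * g⁻¹ = s := fun s => by group
    refine Nat.card_le_card_of_injective (fun s : {s : Y // s ∈ A ∧ s • w + w ∈ X} =>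
      (⟨g⁻¹ * s * g, by
        rw [Set.mem_ofPred_eq, hback]
        exact s.2⟩ : {s | g * s * g⁻¹ ∈ A ∧ (g * s * g⁻¹) • w + w ∈ X})) ?_
    intro s s' h1
    have h3 : g⁻¹ * (s : Y) * g = g⁻¹ * s' * g := congrArg Subtype.val h1
    exact Subtype.ext (mul_left_cancel (mul_right_cancel h3))
  · intro a ha haj
    have h1 := K.pp_fix two (hRH (hNR ha)) haj hv₀
    have h3 : g * a * g⁻¹ = 1 := by
      apply hm.inj w hE _ (hNA (hmem.1 ha))
      rw [hgs, h1, ← hw, two]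
      exact zero_mem _
    have h4 : a = g⁻¹ * (g * a * g⁻¹) * g := by group
    rw [h4, h3]
    group
  · intro b hb s hs
    have h1 := hX _ (hmem.1 hb) _ hs.2
    have hc := hm.comm _ (hNA (hmem.1 hb)) _ hs.1
    rw [smul_add, ← mul_smul, hc, mul_smul, hgs, hgs] at h1
    -- `s' b' w + b' w = s' w + w`
    have e : (g * s * g⁻¹) • g • b • v₀ = g • s • b • v₀ := by
      rw [mul_smul, mul_smul, inv_smul_smul]
    rw [e, hw, ← smul_add, ← smul_add, smul_left_cancel_iff] at h1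
    rw [smul_add]
    have h3 : s • b • v₀ = s • v₀ + v₀ + b • v₀ := by
      rw [← h1, add_assoc, two, add_zero]
    rw [h3]
    have e2 : s • v₀ + v₀ + b • v₀ + s • v₀ = (s • v₀ + s • v₀) + (b • v₀ + v₀) := by abel
    rw [e2, two, zero_add]

namespace TwoN

variable {U : Set (Subgroup Y)} {T : Sylow 2 Y} {M H H' R : Subgroup Y} {F : Type} [Field F] [Finite F] [CharP F 2]
  {k : ℕ} {co co' : V → Fin k → Fin 2 → F} {t : Y} (h : TwoN V U T M H H' R F k co co' t)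
include h

variable {A : Subgroup Y} (hA : A ∈ U) (hAH : A ≤ H) {I : Set (Fin k)} (hI : I.Nonempty) (hO : Opp V H R co A I)
  (hE : WW V H' R ≤ Ee V A)
include hA hAH hI hO hE

/-- **(z), second half** : `⟨W^H'⟩ ≤ E_A` -/
theorem z_two : ∀ x ∈ H', ∀ v ∈ WW V H R, x • v ∈ Ee V A := by
  intro g hg
  by_contra hW
  have hAM := hO.not_le h.K h.amb h.a hAH hI
  have hm := h.amb.cls.mem A hA
  have hb : ∀ v ∈ WW V H R, v ∈ WW V H' R → ∀ i, co v i 1 = 0 := fun v hv hv' i => h.inf_le hv hv' i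
  obtain ⟨w, hw⟩ := hm.ne
  have hSK := fun w hw => h.e_SK hb hA hAH hAM hO hE (w := w) hw
  have hcd := fun w hw => (h.e_card hb hA hAH hAM hO hE (w := w) hw hI).1
  have hc2 : 2 ≤ Nat.card F := Finite.one_lt_card
  have h1 := h.K.zcore h.amb.two h.a.RH hm (g := g) (N := A ⊓ QQ H R ⊓ QQ H' R)
    (X := WW V H R ⊔ WW V H' R ⊔ fx V A) (inf_le_left.trans inf_le_left) (by
      intro x hx
      rw [mem_conj, inv_inv] at hx
      have h3 := conj_mem_QQ (H'.inv_mem hg) hx.2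
      have e : g⁻¹ * (g * x * g⁻¹) * g⁻¹⁻¹ = x := by group
      rw [e] at h3
      exact QQ_le h3) (by
      intro n hn v hv
      obtain ⟨z, hz, f, hf, rfl⟩ := AddSubgroup.mem_sup.1 hv
      obtain ⟨x, hx, y, hy, rfl⟩ := AddSubgroup.mem_sup.1 hz
      rw [smul_add, smul_add, Amal.QQ_fix h.a h.amb hn.1.2 hx, Amal.QQ_fix h.a' h.amb hn.2 hy, hf n hn.1.1])
    (fun w hw s hs h1 => ⟨⟨hs, (hSK w hw s hs h1).1⟩, (hSK w hw s hs h1).2⟩)
    (fun w hw => by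
      refine le_trans ?_ (hcd w hw)
      nlinarith)
    (fun v hv => hE (smul_mem_WW hg (fx_le_WW hv))) hW
  have h3 : Nat.card {s : Y // s ∈ A ∧ s • w + w ∈ WW V H R ⊔ WW V H' R ⊔ fx V A} ≤
      Nat.card ↥(A ⊓ QQ H R ⊓ QQ H' R) := by
    apply Nat.card_le_card_of_injective
      (fun s : {s : Y // s ∈ A ∧ s • w + w ∈ WW V H R ⊔ WW V H' R ⊔ fx V A} =>
        (⟨s, ⟨s.2.1, (hSK w hw s s.2.1 s.2.2).1⟩, (hSK w hw s s.2.1 s.2.2).2⟩ : ↥(A ⊓ QQ H R ⊓ QQ H' R)))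
    intro s r hsr
    exact Subtype.ext (congrArg (fun z : ↥(A ⊓ QQ H R ⊓ QQ H' R) => (z : Y)) hsr)
  have h4 := hcd w hw
  nlinarith

/-- **(z), first half** : `⟨W'^H⟩ ≤ E_A` -/
theorem z_one : ∀ x ∈ H, ∀ v ∈ WW V H' R, x • v ∈ Ee V A := by
  intro g hg
  by_contra hW
  have hAM := hO.not_le h.K h.amb h.a hAH hI
  have hm := h.amb.cls.mem A hA
  have hWE : WW V H R ≤ Ee V A := h.a.WW_le_Ee h.amb h.we hA hAH
  have hb : ∀ v ∈ WW V H R, v ∈ WW V H' R → ∀ i, co v i 1 = 0 := fun v hv hv' i => h.inf_le hv hv' i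
  obtain ⟨w, hw⟩ := hm.ne
  have hc2 : 2 ≤ Nat.card F := Finite.one_lt_card
  have hcA := (h.e_card hb hA hAH hAM hO hE hw hI).2
  have hS : ∀ w, w ∉ Ee V A → ∀ s ∈ A, s • w + w ∈ WW V H R ⊔ fx V A → s ∈ A ⊓ QQ H R := by
    intro w hw s hs h1
    obtain ⟨x, hx, f, hf, hxf⟩ := AddSubgroup.mem_sup.1 h1
    refine ⟨hs, mem_Q_of_shift h.K h.amb h.a h.we hA hAH hw hx hs ?_⟩
    rw [← hxf]
    have e : x + f + x = (x + x) + f := by abel
    rw [e, h.amb.two, zero_add]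
    exact hf
  -- `|S_W| |A ⊓ Q| = |A|`
  have hcS : ∀ w, w ∉ Ee V A →
      Nat.card {s : Y // s ∈ A ∧ s • w + w ∈ WW V H R ⊔ fx V A} * Nat.card ↥(A ⊓ QQ H R) = Nat.card A := by
    intro w hw
    have h1 := card_SX h.amb.two hm hw (X := WW V H R ⊔ fx V A) le_sup_right (sup_le hWE hm.FE)
    have h3 := card_sup_as (WW V H R) (fx V A)
    have h4 := h.a.exact' h.amb h.we hA hAH
    rw [h1] at h3
    have h5 : 0 < Nat.card ↥(fx V A) := Nat.card_pos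
    have h6 : 0 < Nat.card ↥(WW V H R ⊓ fx V A) := Nat.card_pos
    apply Nat.eq_of_mul_eq_mul_right (Nat.mul_pos h5 h6)
    calc _ = Nat.card ↥(fx V A) * Nat.card {s : Y // s ∈ A ∧ s • w + w ∈ WW V H R ⊔ fx V A} *
          Nat.card ↥(WW V H R ⊓ fx V A) * Nat.card ↥(A ⊓ QQ H R) := by ring
      _ = Nat.card ↥(WW V H R) * Nat.card ↥(A ⊓ QQ H R) * Nat.card ↥(fx V A) := by rw [h3]; ring
      _ = _ := by rw [h4]; ring
  have hcF : ∀ w, w ∉ Ee V A → Nat.card F ≤ Nat.card {s : Y // s ∈ A ∧ s • w + w ∈ WW V H R ⊔ fx V A} := by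
    intro w hw
    have h1 := hcS w hw
    have h3 := h.opp_card hA hAH hO
    have h4 := card_le_fun (F := F) hI
    have h5 : 0 < Nat.card ↥(A ⊓ QQ H R) := Nat.card_pos
    apply Nat.le_of_mul_le_mul_right _ h5
    rw [h1]
    refine le_trans ?_ h3
    rw [mul_comm]
    exact Nat.mul_le_mul_left _ h4
  have h1 := h.K'.zcore h.amb.two h.a'.RH hm (g := g) (N := A ⊓ QQ H R)
    (X := WW V H R ⊔ fx V A) inf_le_left (by
      intro x hx
      rw [mem_conj, inv_inv] at hx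
      have h3 := conj_mem_QQ (H.inv_mem hg) hx.2
      have e : g⁻¹ * (g * x * g⁻¹) * g⁻¹⁻¹ = x := by group
      rw [e] at h3
      exact QQ_le h3) (by
      intro n hn v hv
      obtain ⟨y, hy, f, hf, rfl⟩ := AddSubgroup.mem_sup.1 hv
      rw [smul_add, Amal.QQ_fix h.a h.amb hn.2 hy, hf n hn.1]) hS hcF
    (fun v hv => hWE (smul_mem_WW hg (fx_le_WW hv))) hW
  have h3 : Nat.card {s : Y // s ∈ A ∧ s • w + w ∈ WW V H R ⊔ fx V A} ≤ Nat.card ↥(A ⊓ QQ H R) := by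
    apply Nat.card_le_card_of_injective
      (fun s : {s : Y // s ∈ A ∧ s • w + w ∈ WW V H R ⊔ fx V A} =>
        (⟨s, hS w hw s s.2.1 s.2.2⟩ : ↥(A ⊓ QQ H R)))
    intro s r hsr
    exact Subtype.ext (congrArg (fun z : ↥(A ⊓ QQ H R) => (z : Y)) hsr)
  have h4 := hcS w hw
  have h5 : Nat.card A ≤ Nat.card F ^ 2 := by
    rw [← h4, pow_two]
    exact Nat.mul_le_mul (h3.trans h1) h1
  have h6 : Nat.card F ^ 2 < Nat.card F ^ 4 := Nat.pow_lt_pow_right hc2 (by norm_num)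
  omega

end TwoN

end Cfsg.Agent.Omega.NO1.TH.K
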