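import Cfsg.Agent.Omega.NO1.TH.K.LFacN
import Cfsg.Agent.Omega.NO1.TH.K.Opp
import Cfsg.Agent.Omega.NO1.TH.K.Root
import Cfsg.Agent.Omega.NO1.TH.K.LIn
import Cfsg.Agent.Omega.NO1.TH.K.ZedN
import Cfsg.Agent.Omega.NO1.TH.LOne

/-!
# N1, natural type with `k` factors: (L1), the case `W' ≤ E_A` for an opposite member `A` (bb OMEGA 21480 / 20646)

* `TwoN.false_of` : impossible, given (e) `S_X ≤ K` and (z) `⟨W'^H⟩, ⟨W^H'⟩ ≤ E_A`;
* `TwoN.not_le_Ee` : `W' ≰ E_A` for every opposite member `A`.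
-/

set_option autoImplicit false
set_option linter.unusedSectionVars false
set_option linter.dupNamespace false

namespace Cfsg.Agent.Omega.NO1.TH.K

open Subgroup Cfsg.Agent.Omega.NO1.AB Cfsg.Agent.Omega.FFBr Cfsg.Agent.Lib.SL2Mat
open scoped Pointwise

universe u

variable {Y : Type u} [Group Y] {V : Type u} [AddCommGroup V] [DistribMulAction Y V] [Finite Y] [Finite V]
  {U : Set (Subgroup Y)} {T : Sylow 2 Y} {M H H' R : Subgroup Y} {t : Y} {F : Type} [Field F] [Finite F] {k : ℕ}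
  {co co' : V → Fin k → Fin 2 → F}

/-- **(L1), natural type** -/
theorem TwoN.false_of (h : TwoN V U T M H H' R F k co co' t) {A : Subgroup Y} (hA : A ∈ U) (hAH : A ≤ H)
    {I : Set (Fin k)} (hI : I.Nonempty) (hO : Opp V H R co A I)
    (hS : ∀ w, w ∉ Ee V A → ∀ s ∈ A, s • w + w ∈ WW V H R ⊔ WW V H' R ⊔ fx V A → s ∈ QQ H R ∧ s ∈ QQ H' R)
    (le₁ : ∀ x ∈ H, ∀ w ∈ WW V H' R, x • w ∈ Ee V A) (le₂ : ∀ x ∈ H', ∀ w ∈ WW V H R, x • w ∈ Ee V A) :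
    False := by
  obtain rfl := h.H'_eq
  have hAM := hO.not_le h.K h.amb h.a hAH hI
  obtain ⟨b, hb, hb'⟩ := h.star hA hAH hAM
  have hBQ : ¬ A ⊓ QQ H R ≤ QQ (MulAut.conj t • H) R := fun h1 => hb' (h1 hb)
  have hE : WW V (MulAut.conj t • H) R ≤ Ee V A := fun w hw => by
    have h1 := le₁ 1 H.one_mem w hw
    rwa [one_smul] at h1
  have e1 := (Amal.e_one h.a h.a' h.amb h.we h.we' hA hAH hE).1
  obtain ⟨i, hi⟩ := hI
  obtain ⟨Δ, hΔ, d1, d2⟩ := LF.exact_of h.amb h.a' h.K' (B₁ := A ⊓ QQ H R) (inf_le_right.trans QQ_le)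
    (ElAb.mono (Mem.elAb (h.amb.cls.mem A hA)) inf_le_left) hBQ e1.le
  exact Amal.lOne h.a h.amb (lIn_of h.a h.a' h.amb h.we h.we' (LF.lfac h.amb h.a h.we h.K)
    (LF.lfac h.amb h.a' h.we' h.K') hA hAH hAM hBQ hS (LF.faith h.amb h.a h.we h.K hA hAH) le₁ le₂
    ⟨Δ, hΔ, fun b hb hbQ => d1 b ⟨hb, hbQ⟩, fun p hp r hr => by
      obtain ⟨b, hb, h1⟩ := d2 p hp r hr
      exact ⟨b, hb.1, hb.2, h1⟩⟩
    ⟨i, LF.mov_opp h.amb h.a h.we h.K hO hi⟩)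

/-- **(L1), natural type: `W' ≰ E_A` for every opposite member `A`** -/
theorem TwoN.not_le_Ee [CharP F 2] (h : TwoN V U T M H H' R F k co co' t) {A : Subgroup Y} (hA : A ∈ U) (hAH : A ≤ H)
    {I : Set (Fin k)} (hI : I.Nonempty) (hO : Opp V H R co A I) : ¬ WW V H' R ≤ Ee V A := by
  intro hE
  have hAM := hO.not_le h.K h.amb h.a hAH hI
  exact h.false_of hA hAH hI hO
    (fun w hw => h.e_SK (fun v hv hv' i => h.inf_le hv hv' i) hA hAH hAM hO hE hw)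
    (h.z_one hA hAH hI hO hE) (h.z_two hA hAH hI hO hE)

end Cfsg.Agent.Omega.NO1.TH.K
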