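import Cfsg.Agent.Omega.NO1.TH.K.Base

/-!
# N1-ONE, (B) of #19584, natural type, any `k` (helper247 #20646): the action on one component

`N : KNat V H R F k co`.

* `CA` : the action of `g ∈ H` on the components: a permutation `σ` and semilinear maps `β i`; `KNat.exists_ca`,
  `KNat.exists_caR` (for `r ∈ R` the line `x 1 = 0` is invariant);
* `PP co j = [W_j^+, L_j]`; `pp_supp`, `KNat.pp_onto`, `KNat.pp_fix`, `KNat.le_pp`.
-/

set_option autoImplicit false
set_option linter.unusedSectionVars false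

namespace Cfsg.Agent.Omega.NO1.TH.K

open Subgroup Cfsg.Agent.Omega.NO1.AB Cfsg.Agent.Lib.SL2Mat
open Cfsg.Agent.Omega.NatPair (ap)
open scoped Pointwise

universe u

variable {Y : Type u} [Group Y] {V : Type u} [AddCommGroup V] [DistribMulAction Y V] {H R : Subgroup Y}
  {F : Type} [Field F] {k : ℕ} {co : V → Fin k → Fin 2 → F}

/-- the action of `g` on the components -/
structure CA (V : Type u) [AddCommGroup V] [DistribMulAction Y V] (H R : Subgroup Y) (co : V → Fin k → Fin 2 → F)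
    (g : Y) (σ : Equiv.Perm (Fin k)) (β : Fin k → (Fin 2 → F) → Fin 2 → F) (s : Fin k → F ≃+* F) : Prop where
  act : ∀ v ∈ WW V H R, ∀ i, co (g • v) (σ i) = β i (co v i)
  add : ∀ i x y, β i (x + y) = β i x + β i y
  smul : ∀ i (c : F) x, β i (c • x) = s i c • β i x
  inj : ∀ i x, β i x = 0 → x = 0

namespace KNat

variable (N : KNat V H R F k co)
include N

theorem exists_sgl [CharP F 2] (j : Fin k) (x : Fin 2 → F) : ∃ v ∈ WW V H R, co v = Pi.single j x := N.surj _

theorem sub_ad [CharP F 2] {v w : V} (hv : v ∈ WW V H R) (hw : w ∈ WW V H R) (i : Fin k) :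
    co (v + w) i = 0 ↔ co v i = co w i := by
  rw [N.add v hv w hw, Pi.add_apply]
  constructor
  · intro h
    have h1 : co w i + co w i = 0 := by
      funext j; exact CharTwo.add_self_eq_zero _
    exact add_right_cancel (h.trans h1.symm)
  · intro h
    rw [h]
    funext j; exact CharTwo.add_self_eq_zero _

theorem co_smul_zero {g : Y} (hg : g ∈ H) {v : V} (hv : v ∈ WW V H R) : co (g • v) = 0 ↔ co v = 0 := by
  obtain ⟨σ, hσ⟩ := N.perm g hg
  constructor
  · intro h
    funext i
    exact (hσ v hv i).1 (congrFun h _)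
  · intro h
    funext i
    obtain ⟨j, rfl⟩ := σ.surjective i
    exact (hσ v hv j).2 (congrFun h j)

theorem co_eq [CharP F 2] {v w : V} (hv : v ∈ WW V H R) (hw : w ∈ WW V H R) : co (v + w) = 0 ↔ co v = co w := by
  constructor
  · intro h
    funext i
    exact (N.sub_ad hv hw i).1 (congrFun h i)
  · intro h
    funext i
    exact (N.sub_ad hv hw i).2 (congrFun h i)

/-- two elements of `H` with the same action on `W / D₀` agree on `W` -/
theorem eqOn [CharP F 2] {g h : Y} (hg : g ∈ H) (hh : h ∈ H) (he : ∀ w ∈ WW V H R, co (g • w) = co (h • w)) {w : V}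
    (hw : w ∈ WW V H R) : g • w = h • w := by
  have h1 := N.trivH (h⁻¹ * g) (H.mul_mem (H.inv_mem hh) hg) (by
    intro w hw
    have h2 : h⁻¹ * g ∈ H := H.mul_mem (H.inv_mem hh) hg
    rw [← N.co_eq (smul_mem_WW h2 hw) hw, ← N.co_smul_zero hh (add_mem (smul_mem_WW h2 hw) hw), smul_add, ← mul_smul,
      mul_inv_cancel_left, N.co_eq (smul_mem_WW hg hw) (smul_mem_WW hh hw)]
    exact he w hw) w hw
  rw [mul_smul, inv_smul_eq_iff] at h1
  exact h1

theorem exists_ca [Finite F] [CharP F 2] {g : Y} (hg : g ∈ H) :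
    ∃ σ β s, CA V H R co g σ β s := by
  obtain ⟨σ, hσ⟩ := N.perm g hg
  have hgm : ∀ {v : V}, v ∈ WW V H R → g • v ∈ WW V H R := fun hv => smul_mem_WW hg hv
  have hgm' : ∀ {v : V}, v ∈ WW V H R → g⁻¹ • v ∈ WW V H R := fun hv => smul_mem_WW (H.inv_mem hg) hv
  choose u huW hu using fun (i : Fin k) (x : Fin 2 → F) => N.exists_sgl i x
  -- the component map
  let β : Fin k → (Fin 2 → F) → Fin 2 → F := fun i x => co (g • u i x) (σ i)
  have hact : ∀ v ∈ WW V H R, ∀ i, co (g • v) (σ i) = β i (co v i) := by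
    intro v hv i
    rw [← N.sub_ad (hgm hv) (hgm (huW i _)), ← smul_add, hσ _ (add_mem hv (huW _ _)), N.sub_ad hv (huW _ _), hu,
      Pi.single_eq_same]
  have hadd : ∀ i x y, β i (x + y) = β i x + β i y := by
    intro i x y
    have h1 := hact _ (add_mem (huW i x) (huW i y)) i
    rw [smul_add, N.add _ (hgm (huW _ _)) _ (hgm (huW _ _)), Pi.add_apply, N.add _ (huW _ _) _ (huW _ _),
      Pi.add_apply, hu, hu, Pi.single_eq_same, Pi.single_eq_same] at h1
    exact h1.symm
  have hinj : ∀ i x, β i x = 0 → x = 0 := by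
    intro i x h
    have h1 := (hσ _ (huW i x) i).1 h
    rwa [hu, Pi.single_eq_same] at h1
  -- the inverse
  let β' : Fin k → (Fin 2 → F) → Fin 2 → F := fun i x => co (g⁻¹ • u (σ i) x) i
  have hact' : ∀ v ∈ WW V H R, ∀ i, co (g⁻¹ • v) i = β' i (co v (σ i)) := by
    intro v hv i
    rw [← N.sub_ad (hgm' hv) (hgm' (huW (σ i) _)), ← smul_add,
      ← hσ _ (hgm' (add_mem hv (huW _ _))), smul_inv_smul, N.sub_ad hv (huW _ _), hu, Pi.single_eq_same]
  have hββ : ∀ i x, β' i (β i x) = x := by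
    intro i x
    have h1 := hact' _ (hgm (huW i x)) i
    rw [inv_smul_smul, hu, Pi.single_eq_same] at h1
    exact h1.symm
  have hββ' : ∀ i x, β i (β' i x) = x := by
    intro i x
    have h1 := hact _ (hgm' (huW (σ i) x)) i
    rw [smul_inv_smul, hu, Pi.single_eq_same] at h1
    exact h1.symm
  have hs : ∀ i, ∃ s : F ≃+* F, ∀ (c : F) x, β i (c • x) = s c • β i x := by
    intro i
    obtain ⟨τ, hτ⟩ := NatPair.exists_semi (β i) (β' i) (hadd i) (hββ i) (hββ' i) (by
      intro A
      obtain ⟨h, hh, hA⟩ := N.lift (Pi.mulSingle (σ i) A)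
      obtain ⟨B, hB⟩ := N.norm g⁻¹ (H.inv_mem hg) h hh _ hA.1
      refine ⟨B i, fun x => ?_⟩
      have h1 := hB _ (huW i x) i
      rw [inv_inv, mul_smul, mul_smul, hact' _ (smul_mem_WW hh (hgm (huW _ _))), hA.1 _ (hgm (huW _ _)),
        hact _ (huW _ _), hu, Pi.single_eq_same, Pi.mulSingle_eq_same] at h1
      exact h1)
    exact NatPair.exists_ringEquiv (β i) (β' i) (hadd i) (hββ i) τ hτ
  choose s hs using hs
  exact ⟨σ, β, s, hact, hadd, hs, hinj⟩

theorem exists_caR [Finite F] [CharP F 2] (hRH : R ≤ H) {r : Y} (hr : r ∈ R) :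
    ∃ σ β s, CA V H R co r σ β s ∧ ∀ i x, β i x 1 = 0 ↔ x 1 = 0 := by
  obtain ⟨σ, β, s, hc⟩ := N.exists_ca (hRH hr)
  obtain ⟨τ, hτ⟩ := N.line r hr
  refine ⟨σ, β, s, hc, fun i x => ?_⟩
  have hστ : τ i = σ i := by
    obtain ⟨v, hv, hvx⟩ := N.exists_sgl i (![0, 1] : Fin 2 → F)
    by_contra hne
    have h1 := (hτ v hv i).1 (by
      obtain ⟨j, hj⟩ := σ.surjective (τ i)
      have hij : j ≠ i := fun e => hne (by rw [← hj, e])
      rw [← hj, hc.act v hv j, hvx, Pi.single_eq_of_ne hij]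
      have h2 : β j 0 = 0 := by
        have h3 := hc.add j 0 0
        rw [add_zero] at h3
        exact left_eq_add.1 h3
      rw [h2]; rfl)
    rw [hvx, Pi.single_eq_same] at h1
    simp at h1
  obtain ⟨v, hv, hvx⟩ := N.exists_sgl i x
  have h1 := hτ v hv i
  rw [hστ, hc.act v hv i, hvx, Pi.single_eq_same] at h1
  exact h1

end KNat

/-! ### `PP j` -/

/-- `[W, L_j]` -/
def PP (V : Type u) [AddCommGroup V] [DistribMulAction Y V] (H R : Subgroup Y) (co : V → Fin k → Fin 2 → F)
    (j : Fin k) : AddSubgroup V :=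
  AddSubgroup.closure {v | ∃ g ∈ H, ∃ A : Fin k → Matrix.SpecialLinearGroup (Fin 2) F, Acts V H R co g A ∧
    (∀ i, i ≠ j → A i = 1) ∧ ∃ w ∈ WW V H R, v = g • w + w}

theorem PP_le_WW (j : Fin k) : PP V H R co j ≤ WW V H R := by
  refine (AddSubgroup.closure_le _).2 ?_
  rintro _ ⟨g, hg, A, -, -, w, hw, rfl⟩
  exact add_mem (smul_mem_WW hg hw) hw

namespace KNat

variable (N : KNat V H R F k co)
include N

theorem pp_supp [CharP F 2] {j : Fin k} {v : V} (hv : v ∈ PP V H R co j) {i : Fin k} (hij : i ≠ j) : co v i = 0 := by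
  have key : v ∈ WW V H R ∧ co v i = 0 := by
    refine AddSubgroup.closure_induction ?_ ?_ ?_ ?_ hv
    · rintro _ ⟨g, hg, A, hA, hAi, w, hw, rfl⟩
      refine ⟨add_mem (smul_mem_WW hg hw) hw, ?_⟩
      rw [N.sub_ad (smul_mem_WW hg hw) hw, hA.1 w hw, hAi i hij, NatPair.ap_one]
    · exact ⟨zero_mem _, by rw [N.zero]; rfl⟩
    · rintro a b - - ⟨ha, ha'⟩ ⟨hb, hb'⟩
      exact ⟨add_mem ha hb, by rw [N.add a ha b hb, Pi.add_apply, ha', hb', add_zero]⟩
    · rintro a - ⟨ha, ha'⟩
      refine ⟨neg_mem ha, ?_⟩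
      have h1 := N.add a ha (-a) (neg_mem ha)
      rw [add_neg_cancel, N.zero] at h1
      have h2 := congrFun h1 i
      rw [Pi.add_apply, ha', zero_add] at h2
      exact h2.symm
  exact key.2

end KNat

/-- a fixed point free element of `SL₂(F)` -/
def om [CharP F 2] : Matrix.SpecialLinearGroup (Fin 2) F := mk 0 1 1 1 (by
  have h : (1 : F) + 1 = 0 := CharTwo.add_self_eq_zero 1
  linear_combination (-1 : F) * h)

theorem exists_om [CharP F 2] (x : Fin 2 → F) : ∃ z : Fin 2 → F, ap om z + z = x := by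
  refine ⟨![x 1, x 0 + x 1], ?_⟩
  have h2 : ∀ a : F, a + a = 0 := fun a => CharTwo.add_self_eq_zero a
  apply NatPair.ext2
  · rw [Pi.add_apply, NatPair.ap_zero', om]
    simp only [mk_00, mk_01, Matrix.cons_val_zero, Matrix.cons_val_one, zero_mul, one_mul, zero_add]
    linear_combination h2 (x 1)
  · rw [Pi.add_apply, NatPair.ap_one', om]
    simp only [mk_10, mk_11, Matrix.cons_val_zero, Matrix.cons_val_one, one_mul]
    linear_combination h2 (x 0) + h2 (x 1)

theorem ap_zero (A : Matrix.SpecialLinearGroup (Fin 2) F) : ap A 0 = 0 := by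
  apply NatPair.ext2
  · rw [NatPair.ap_zero']; simp
  · rw [NatPair.ap_one']; simp

namespace KNat

variable (N : KNat V H R F k co)
include N

/-- `PP j` maps onto the component `j` -/
theorem pp_onto [CharP F 2] (j : Fin k) (x : Fin 2 → F) : ∃ v ∈ PP V H R co j, co v = Pi.single j x := by
  obtain ⟨z, hz⟩ := exists_om x
  obtain ⟨w, hw, hwz⟩ := N.surj (Pi.single j z)
  obtain ⟨g, hg, hA⟩ := N.lift (Pi.mulSingle j om)
  refine ⟨g • w + w, AddSubgroup.subset_closure ⟨g, hg, _, hA, fun i hi => Pi.mulSingle_eq_of_ne hi _, w, hw, rfl⟩, ?_⟩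
  rw [N.add _ (smul_mem_WW hg hw) w hw]
  funext i
  rw [Pi.add_apply, hA.1 w hw, hwz]
  by_cases hi : i = j
  · subst hi
    rw [Pi.mulSingle_eq_same, Pi.single_eq_same, Pi.single_eq_same, hz]
  · rw [Pi.mulSingle_eq_of_ne hi, Pi.single_eq_of_ne hi, Pi.single_eq_of_ne hi, NatPair.ap_one, add_zero]

/-- `L_j` centralises the vectors without `j`-component -/
theorem comm_triv [CharP F 2] (h2 : ∀ v : V, v + v = 0) {j : Fin k} {g : Y} (hg : g ∈ H)
    {A : Fin k → Matrix.SpecialLinearGroup (Fin 2) F} (hA : Acts V H R co g A) (hAi : ∀ i, i ≠ j → A i = 1) {x : V}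
    (hx : x ∈ WW V H R) (hxj : co x j = 0) : g • x = x := by
  classical
  choose z hz using fun i => exists_om (co x i)
  obtain ⟨y, hy, hyz⟩ := N.surj (Function.update z j 0)
  obtain ⟨t, ht, hB⟩ := N.lift (Function.update (fun _ => om) j 1)
  set B : Fin k → Matrix.SpecialLinearGroup (Fin 2) F := Function.update (fun _ => om) j 1 with hBdef
  -- `x = t y + y + d`
  have hty := smul_mem_WW ht hy
  have hd : co (x + (t • y + y)) = 0 := by
    funext i
    rw [Pi.zero_apply, N.sub_ad hx (add_mem hty hy), N.add _ hty _ hy, Pi.add_apply, hB.1 y hy, hyz]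
    by_cases hi : i = j
    · subst hi
      rw [Function.update_self, ap_zero, add_zero, hxj]
    · rw [Function.update_of_ne hi, hBdef, Function.update_of_ne hi, hz]
  have hdW : x + (t • y + y) ∈ WW V H R := add_mem hx (add_mem hty hy)
  -- `g y = y + d'`
  have hd' : co (g • y + y) = 0 := by
    funext i
    rw [Pi.zero_apply, N.sub_ad (smul_mem_WW hg hy) hy, hA.1 y hy]
    by_cases hi : i = j
    · subst hi
      rw [hyz, Function.update_self, ap_zero]
    · rw [hAi i hi, NatPair.ap_one]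
  have hd'W : g • y + y ∈ WW V H R := add_mem (smul_mem_WW hg hy) hy
  have hgy : g • y = y + (g • y + y) := by rw [add_comm, add_assoc, h2, add_zero]
  -- `g t y = t g y`
  have hgt : ∀ w ∈ WW V H R, g • t • w = t • g • w := by
    intro w hw
    rw [← mul_smul, ← mul_smul]
    refine N.eqOn (H.mul_mem hg ht) (H.mul_mem ht hg) ?_ hw
    intro w hw
    rw [mul_smul, mul_smul]
    funext i
    rw [hA.1 _ (smul_mem_WW ht hw), hB.1 w hw, hB.1 _ (smul_mem_WW hg hw), hA.1 w hw]
    by_cases hi : i = j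
    · subst hi
      rw [hBdef, Function.update_self, NatPair.ap_one, NatPair.ap_one]
    · rw [hAi i hi, NatPair.ap_one, NatPair.ap_one]
  have hx' : x = (x + (t • y + y)) + (t • y + y) := by rw [add_assoc, h2, add_zero]
  rw [hx', smul_add, hA.2 _ hdW hd, smul_add, hgt y hy]
  nth_rewrite 1 [hgy]
  rw [smul_add, hB.2 _ hd'W hd']
  have h5 : t • y + (g • y + y) + g • y = t • y + y + (g • y + g • y) := by abel
  rw [h5, h2, add_zero]

/-- an element of `H` which is trivial on the component `j` centralises `PP j` -/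
theorem pp_fix [CharP F 2] (h2 : ∀ v : V, v + v = 0) {j : Fin k} {b : Y} (hb : b ∈ H)
    (hbj : ∀ w ∈ WW V H R, co (b • w) j = co w j) {v : V} (hv : v ∈ PP V H R co j) : b • v = v := by
  refine AddSubgroup.closure_induction ?_ ?_ ?_ ?_ hv
  · rintro _ ⟨g, hg, A, hA, hAi, w, hw, rfl⟩
    -- `b g = g b` on `W`
    have hbg : ∀ w ∈ WW V H R, b • g • w = g • b • w := by
      intro w hw
      rw [← mul_smul, ← mul_smul]
      refine N.eqOn (H.mul_mem hb hg) (H.mul_mem hg hb) ?_ hw
      intro w hw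
      rw [mul_smul, mul_smul]
      obtain ⟨σ, hσ⟩ := N.perm b hb
      have hσj : σ j = j := by
        obtain ⟨v, hv, hvx⟩ := N.exists_sgl j (![1, 0] : Fin 2 → F)
        by_contra hne
        obtain ⟨i, hi⟩ := σ.surjective j
        have hij : i ≠ j := fun e => hne (by rw [e] at hi; exact hi)
        have h3 := (hσ v hv i).2 (by rw [hvx, Pi.single_eq_of_ne hij])
        rw [hi, hbj v hv, hvx, Pi.single_eq_same] at h3
        have h4 := congrFun h3 0
        simp at h4
      have hgw := smul_mem_WW hg hw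
      have hbw := smul_mem_WW hb hw
      funext i
      by_cases hi : i = j
      · subst hi
        rw [hbj _ hgw, hA.1 w hw, hA.1 _ hbw, hbj w hw]
      · rw [hA.1 _ hbw, hAi i hi, NatPair.ap_one, ← N.sub_ad (smul_mem_WW hb hgw) hbw, ← smul_add]
        obtain ⟨i', rfl⟩ := σ.surjective i
        have hi' : i' ≠ j := fun e => hi (by rw [e, hσj])
        rw [hσ _ (add_mem hgw hw), N.sub_ad hgw hw, hA.1 w hw, hAi i' hi', NatPair.ap_one]
    rw [smul_add, hbg w hw]
    -- `b w = w + x`, `x` without `j`-component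
    have hbw := smul_mem_WW hb hw
    have h3 := N.comm_triv h2 hg hA hAi (x := b • w + w) (add_mem hbw hw) ((N.sub_ad hbw hw j).2 (hbj w hw))
    rw [smul_add] at h3
    have h4 : g • b • w + b • w + (g • w + w) = (g • b • w + g • w) + (b • w + w) := by abel
    rw [h3, h2] at h4
    have h5 : g • b • w + b • w = g • b • w + b • w + ((g • w + w) + (g • w + w)) := by rw [h2, add_zero]
    rw [h5, ← add_assoc, h4, zero_add]
  · exact smul_zero b
  · intro a c _ _ ha hc
    rw [smul_add, ha, hc]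
  · intro a _ ha
    rw [smul_neg, ha]

end KNat

end Cfsg.Agent.Omega.NO1.TH.K
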