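import Cfsg.Agent.Omega.NO1.TH.K.LocCard

/-!
# N1-ONE, (B) of #19584, natural type (helper247 #20646): `|A| ≤ |F|`

* `KNat.card_le` : an elementary abelian `A ≤ R` which fixes `j` and is faithful on the component `j` has `|A| ≤ |F|`;
* `KNat.card_le'` : the same without "fixes `j`", if `[v₀, A, S] = 0` for some `S ⊆ A`, `|F| ≤ |S|`, and some `v₀`
  supported on `j`, not in the line.
-/

set_option autoImplicit false
set_option linter.unusedSectionVars false

namespace Cfsg.Agent.Omega.NO1.TH.K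

open Subgroup Cfsg.Agent.Omega.NO1.AB Cfsg.Agent.Lib.SL2Mat
open Cfsg.Agent.Omega.NatPair (ap)
open scoped Pointwise

universe u

variable {Y : Type u} [Group Y] {V : Type u} [AddCommGroup V] [DistribMulAction Y V] {H R : Subgroup Y}
  {F : Type} [Field F] {k : ℕ} {co : V → Fin k → Fin 2 → F}

theorem CA.zero {g : Y} {σ : Equiv.Perm (Fin k)} {β : Fin k → (Fin 2 → F) → Fin 2 → F} {s : Fin k → F ≃+* F}
    (hc : CA V H R co g σ β s) (i : Fin k) : β i 0 = 0 := by
  have h3 := hc.add i 0 0
  rw [add_zero] at h3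
  exact left_eq_add.1 h3

namespace KNat

variable (N : KNat V H R F k co)
include N

/-- the matrix of a semilinear element -/
theorem semi_form [Finite F] [CharP F 2] (hRH : R ≤ H) {j : Fin k} {a : Y} (ha' : a ∈ R) {s : F ≃+* F}
    (ha : SLin V H R co j a s) : ∃ α κ δ : F, α ≠ 0 ∧ δ ≠ 0 ∧ ∀ w ∈ WW V H R,
      co (a • w) j = ![α * s (co w j 0) + κ * s (co w j 1), δ * s (co w j 1)] := by
  obtain ⟨σ, β, s', hc, hl⟩ := N.exists_caR hRH ha'
  have hσ : σ j = j := by
    by_contra hne
    obtain ⟨i, hi⟩ := σ.surjective j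
    have hij : i ≠ j := fun e => hne (by rw [e] at hi; exact hi)
    obtain ⟨v, hv, hvx⟩ := N.exists_sgl i (![1, 0] : Fin 2 → F)
    have h1 := SLin.fix ha hv (by rw [hvx, Pi.single_eq_of_ne hij.symm])
    rw [← hi, hc.act v hv, hvx, Pi.single_eq_same] at h1
    have h3 := congrFun (hc.inj i _ h1) 0
    simp at h3
  have hact : ∀ w ∈ WW V H R, co (a • w) j = β j (co w j) := by
    intro w hw
    have h1 := hc.act w hw j
    rwa [hσ] at h1
  have hsm : ∀ (c : F) x, β j (c • x) = s c • β j x := by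
    intro c x
    obtain ⟨w, hw, hwx⟩ := N.exists_sgl j x
    obtain ⟨w', hw', hwx'⟩ := N.exists_sgl j (c • x)
    have h1 := ha w hw w' hw' c (by rw [hwx, hwx', Pi.single_eq_same, Pi.single_eq_same])
    rw [hact w hw, hact w' hw', hwx, hwx', Pi.single_eq_same, Pi.single_eq_same] at h1
    exact h1
  have h10 : β j ![1, 0] 1 = 0 := (hl j _).2 (by simp)
  have e1 : β j ![1, 0] = (β j ![1, 0] 0) • ![1, 0] := by
    apply NatPair.ext2
    · simp
    · rw [h10]; simp
  have hα : β j ![1, 0] 0 ≠ 0 := by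
    intro h
    rw [h, zero_smul] at e1
    have h3 := congrFun (hc.inj j _ e1) 0
    simp at h3
  have hδ : β j ![0, 1] 1 ≠ 0 := by
    intro h
    have h1 := (hl j ![0, 1]).1 h
    simp at h1
  refine ⟨β j ![1, 0] 0, β j ![0, 1] 0, β j ![0, 1] 1, hα, hδ, fun w hw => ?_⟩
  rw [hact w hw]
  have e3 : co w j = (co w j 0) • ![1, 0] + (co w j 1) • ![0, 1] := by
    apply NatPair.ext2
    · simp
    · simp
  conv_lhs => rw [e3, hc.add, hsm, hsm]
  apply NatPair.ext2
  · simp only [Pi.add_apply, Pi.smul_apply, smul_eq_mul, Matrix.cons_val_zero]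
    ring
  · simp only [Pi.add_apply, Pi.smul_apply, smul_eq_mul, Matrix.cons_val_one, Matrix.cons_val_zero, h10, mul_zero,
      zero_add]
    ring

theorem exists_vec [CharP F 2] (j : Fin k) (x y : F) : ∃ w ∈ WW V H R, co w j 0 = x ∧ co w j 1 = y := by
  obtain ⟨v, hv, hvx⟩ := N.exists_sgl j (![x, y] : Fin 2 → F)
  exact ⟨v, hv, by rw [hvx, Pi.single_eq_same]; simp, by rw [hvx, Pi.single_eq_same]; simp⟩

omit N in
/-- products of two non-linear involutions are linear -/
theorem lin_mul [Finite F] [CharP F 2] (N : KNat V H R F k co) (hRH : R ≤ H) {j : Fin k} {a b : Y} (ha' : a ∈ R)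
    (hb' : b ∈ R) (haa : a * a = 1) (hbb : b * b = 1) {s t : F ≃+* F} (ha : SLin V H R co j a s)
    (hb : SLin V H R co j b t) (hs : s ≠ RingEquiv.refl F) (ht : t ≠ RingEquiv.refl F) :
    SLin V H R co j (a * b) (RingEquiv.refl F) := by
  have h1 := SLin.mul hRH hb' ha hb
  have h3 : (s : F →+* F) = (t : F →+* F) := by
    refine CloseA.invol_unique (fun x => N.SLin_sq hRH ha' haa ha x) (fun x => N.SLin_sq hRH hb' hbb hb x) ?_ ?_
    · by_contra hc
      push Not at hc
      exact hs (RingEquiv.ext fun x => hc x)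
    · by_contra hc
      push Not at hc
      exact ht (RingEquiv.ext fun x => hc x)
  have h4 : t.trans s = RingEquiv.refl F := by
    ext x
    have h5 : s (t x) = t (t x) := RingHom.congr_fun h3 (t x)
    change s (t x) = x
    rw [h5]
    exact N.SLin_sq hRH hb' hbb hb x
  rwa [h4] at h1

theorem card_le [Finite Y] [Finite F] [CharP F 2] (hRH : R ≤ H) {A : Subgroup Y} (hA : A ≤ R) (hel : ElAb A)
    {j : Fin k} (hfix : ∀ a ∈ A, ∀ w ∈ WW V H R, co w j = 0 → co (a • w) j = 0)
    (hfaith : ∀ a ∈ A, (∀ w ∈ WW V H R, co (a • w) j = co w j) → a = 1) : Nat.card A ≤ Nat.card F := by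
  classical
  have hSL : ∀ a ∈ A, ∃ s, SLin V H R co j a s := fun a ha => N.exists_SLin hRH (hA ha) (hfix a ha)
  set S0 : Set Y := {a | a ∈ A ∧ SLin V H R co j a (RingEquiv.refl F)} with hS0
  have hγ : ∀ a : S0, ∃ γ : F, ∀ w ∈ WW V H R, co ((a : Y) • w) j = ![co w j 0 + γ * co w j 1, co w j 1] :=
    fun a => N.lin_of hRH (hA a.2.1) (hel.2 _ a.2.1) a.2.2
  choose γ hγ using hγ
  have hinj : Function.Injective γ := by
    intro a b hab
    have h1 : (b : Y)⁻¹ * a = 1 := by
      have h3 : (b : Y)⁻¹ = b := inv_eq_of_mul_eq_one_left (hel.2 _ b.2.1)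
      rw [h3]
      refine hfaith _ (A.mul_mem b.2.1 a.2.1) fun w hw => ?_
      have h2 : ∀ x : F, x + x = 0 := fun x => CharTwo.add_self_eq_zero x
      have haw := smul_mem_WW (hRH (hA a.2.1)) hw
      rw [mul_smul, hγ b _ haw, hγ a _ hw, hab]
      apply NatPair.ext2
      · simp only [Matrix.cons_val_zero, Matrix.cons_val_one]
        linear_combination h2 (γ b * co w j 1)
      · simp
    exact Subtype.ext (inv_mul_eq_one.1 h1).symm
  by_cases hall : ∀ a ∈ A, a ∈ S0
  · have h1 : Function.Injective (fun a : A => γ ⟨a, hall a a.2⟩) := by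
      intro a b hab
      have h1 := hinj hab
      simp only [Subtype.mk.injEq] at h1
      exact Subtype.ext h1
    exact Nat.card_le_card_of_injective _ h1
  push Not at hall
  obtain ⟨f, hf, hfn⟩ := hall
  obtain ⟨s, hs⟩ := hSL f hf
  have hsn : s ≠ RingEquiv.refl F := by
    rintro rfl
    exact hfn ⟨hf, hs⟩
  have hff := hel.2 f hf
  have hmul : ∀ a ∈ A, a ∉ S0 → f * a ∈ S0 := by
    intro a ha han
    obtain ⟨t, ht⟩ := hSL a ha
    refine ⟨A.mul_mem hf ha, lin_mul N hRH (hA hf) (hA ha) hff (hel.2 a ha) hs ht hsn ?_⟩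
    rintro rfl
    exact han ⟨ha, ht⟩
  have c1 : Nat.card A ≤ 2 * Nat.card S0 := by
    have h1 : Function.Injective (fun a : A => if h : (a : Y) ∈ S0 then ((false, ⟨a, h⟩) : Bool × S0)
        else (true, ⟨f * a, hmul a a.2 h⟩)) := by
      intro a b hab
      by_cases ha : (a : Y) ∈ S0 <;> by_cases hb : (b : Y) ∈ S0
      · simp only [ha, hb, dif_pos, Prod.mk.injEq, Subtype.mk.injEq, true_and] at hab
        exact Subtype.ext hab
      · simp [ha, hb] at hab
      · simp [ha, hb] at hab
      · simp only [ha, hb, dif_neg, not_false_eq_true, Prod.mk.injEq, Subtype.mk.injEq, true_and,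
          mul_right_inj] at hab
        exact Subtype.ext hab
    have h3 := Nat.card_le_card_of_injective _ h1
    rw [Nat.card_prod, Nat.card_eq_fintype_card (α := Bool), Fintype.card_bool] at h3
    exact h3
  have c2 : Nat.card S0 ≤ Nat.card {x : F // s x = x} := by
    by_cases h1 : ∀ a ∈ S0, a = 1
    · have h3 : Subsingleton S0 := ⟨fun a b => Subtype.ext ((h1 a a.2).trans (h1 b b.2).symm)⟩
      have h4 : Nonempty {x : F // s x = x} := ⟨⟨0, map_zero s⟩⟩
      have h5 := (Finite.card_le_one_iff_subsingleton (α := S0)).2 h3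
      have h6 : 0 < Nat.card {x : F // s x = x} := Nat.card_pos
      omega
    · push Not at h1
      obtain ⟨a0, ha0, hne⟩ := h1
      obtain ⟨α, κ, δ, hα, hδ, hform⟩ := N.semi_form hRH (hA hf) hs
      -- `γ_a δ = α s(γ_a)`
      have hrel : ∀ a : S0, γ a * δ = α * s (γ a) := by
        intro a
        obtain ⟨w, hw, hw0, hw1⟩ := N.exists_vec j 0 1
        have h3 := hγ a _ (smul_mem_WW (hRH (hA hf)) hw)
        have h4 := hform _ (smul_mem_WW (hRH (hA a.2.1)) hw)
        rw [← mul_smul, hel.1 _ a.2.1 _ hf, mul_smul, h4, hγ a w hw, hform w hw, hw0, hw1] at h3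
        have h5 := congrFun h3 0
        simp only [Matrix.cons_val_zero, Matrix.cons_val_one, map_one, mul_one, map_zero, mul_zero, zero_add] at h5
        linear_combination -h5
      have hγ0 : γ ⟨a0, ha0⟩ ≠ 0 := by
        intro h
        apply hne
        refine hfaith a0 ha0.1 fun w hw => ?_
        rw [hγ ⟨a0, ha0⟩ w hw, h]
        apply NatPair.ext2 <;> simp
      set g0 := γ ⟨a0, ha0⟩ with hg0
      have hsg0 : s g0 ≠ 0 := fun h => hγ0 ((map_eq_zero s).1 h)
      have hfx : ∀ a : S0, s (γ a * g0⁻¹) = γ a * g0⁻¹ := by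
        intro a
        rw [map_mul, map_inv₀]
        have h3 := hrel a
        have h4 := hrel ⟨a0, ha0⟩
        rw [← hg0] at h4
        rw [← div_eq_mul_inv, ← div_eq_mul_inv, div_eq_div_iff hsg0 hγ0]
        have h5 : α * (s (γ a) * g0) = α * (γ a * s g0) := by linear_combination -(g0 * h3) + γ a * h4
        exact mul_left_cancel₀ hα h5
      have h3 : Function.Injective (fun a : S0 => (⟨γ a * g0⁻¹, hfx a⟩ : {x : F // s x = x})) := by
        intro a b hab
        have h4 : γ a * g0⁻¹ = γ b * g0⁻¹ := congrArg Subtype.val hab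
        exact hinj (mul_right_cancel₀ (inv_ne_zero hγ0) h4)
      exact Nat.card_le_card_of_injective _ h3
  have c3 := fix_card s (by
    by_contra hc
    push Not at hc
    exact hsn (RingEquiv.ext fun x => hc x))
  omega

/-- (d), (z) : `|A| ≤ |F|` -/
theorem card_le' [Finite Y] [Finite F] [CharP F 2] (hRH : R ≤ H) {A : Subgroup Y} (hA : A ≤ R) (hel : ElAb A)
    {S : Set Y} (hSA : S ⊆ A) (hS : Nat.card F ≤ Nat.card S) {j : Fin k} {v₀ : V} (hv₀ : v₀ ∈ WW V H R)
    (hsupp : ∀ i, i ≠ j → co v₀ i = 0) (hline : co v₀ j 1 ≠ 0)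
    (hfaith : ∀ a ∈ A, (∀ w ∈ WW V H R, co (a • w) j = co w j) → a = 1)
    (hq : ∀ b ∈ A, ∀ s ∈ S, s • (b • v₀ + v₀) = b • v₀ + v₀) : Nat.card A ≤ Nat.card F := by
  classical
  by_cases hmv : ∀ a ∈ A, co (a • v₀) j ≠ 0
  · refine N.card_le hRH hA hel (j := j) ?_ hfaith
    intro a ha w hw hwj
    obtain ⟨σ, β, s, hc⟩ := N.exists_ca (hRH (hA ha))
    have hσ : σ j = j := by
      by_contra hne
      obtain ⟨i, hi⟩ := σ.surjective j
      have hij : i ≠ j := fun e => hne (by rw [e] at hi; exact hi)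
      apply hmv a ha
      rw [← hi, hc.act v₀ hv₀, hsupp i hij, hc.zero]
    have h1 := hc.act w hw j
    rw [hσ, hwj] at h1
    rw [h1, hc.zero]
  push Not at hmv
  obtain ⟨b, hb, hbj⟩ := hmv
  have hne : co v₀ j ≠ 0 := fun h => hline (by rw [h]; rfl)
  -- supports
  have hsup : ∀ a ∈ A, ∀ i, co (a • v₀) i ≠ 0 → ∀ i', i' ≠ i → co (a • v₀) i' = 0 := by
    intro a ha i hi i' hi'
    obtain ⟨σ, β, s, hc⟩ := N.exists_ca (hRH (hA ha))
    have hz : ∀ i, β i 0 = 0 := hc.zero
    obtain ⟨l, rfl⟩ := σ.surjective i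
    obtain ⟨l', rfl⟩ := σ.surjective i'
    have hlj : l = j := by
      by_contra h
      apply hi
      rw [hc.act v₀ hv₀, hsupp l h, hz]
    subst hlj
    have hl' : l' ≠ l := fun e => hi' (by rw [e])
    rw [hc.act v₀ hv₀, hsupp l' hl', hz]
  have hmemW : ∀ a ∈ A, ∀ w ∈ WW V H R, a • w ∈ WW V H R := fun a ha w hw => smul_mem_WW (hRH (hA ha)) hw
  set E0 : Set Y := {n | n ∈ A ∧ co (n • v₀) j = co v₀ j} with hE0
  -- the key relation
  have hkey : ∀ b ∈ A, co (b • v₀) j = 0 → ∀ s ∈ S, (s ∈ E0 ∨ (co (s • v₀) j = 0 ∧ s * b ∈ E0)) := by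
    intro b hb hbj s hs
    have hsA := hSA hs
    have h1 := hq b hb s hs
    have h3 : co (s • b • v₀ + s • v₀) j = co v₀ j := by
      rw [← smul_add, h1, N.add _ (hmemW b hb _ hv₀) _ hv₀, Pi.add_apply, hbj, zero_add]
    rw [N.add _ (hmemW s hsA _ (hmemW b hb _ hv₀)) _ (hmemW s hsA _ hv₀), Pi.add_apply] at h3
    by_cases hsj : co (s • v₀) j = 0
    · right
      refine ⟨hsj, A.mul_mem hsA hb, ?_⟩
      rw [hsj, add_zero] at h3
      rw [mul_smul]
      exact h3
    · left
      refine ⟨hsA, ?_⟩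
      -- `s` fixes `j`, `b` moves `j`
      have h4 : co (s • b • v₀) j = 0 := by
        obtain ⟨σ, β, t, hc⟩ := N.exists_ca (hRH (hA hsA))
        have hz : ∀ i, β i 0 = 0 := hc.zero
        have hσ : σ j = j := by
          by_contra hne
          obtain ⟨i, hi⟩ := σ.surjective j
          have hij : i ≠ j := fun e => hne (by rw [e] at hi; exact hi)
          apply hsj
          rw [← hi, hc.act v₀ hv₀, hsupp i hij, hz]
        have h5 := hc.act _ (hmemW b hb _ hv₀) j
        rw [hσ, hbj, hz] at h5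
        exact h5
      rw [h4, zero_add] at h3
      exact h3
  -- elements of `E0` fix `j`
  have hEfix : ∀ n ∈ E0, ∀ w ∈ WW V H R, co w j = 0 → co (n • w) j = 0 := by
    intro n hn w hw hwj
    obtain ⟨σ, β, t, hc⟩ := N.exists_ca (hRH (hA hn.1))
    have hz : ∀ i, β i 0 = 0 := hc.zero
    have hσ : σ j = j := by
      by_contra hne'
      obtain ⟨i, hi⟩ := σ.surjective j
      have hij : i ≠ j := fun e => hne' (by rw [e] at hi; exact hi)
      apply hne
      rw [← hn.2, ← hi, hc.act v₀ hv₀, hsupp i hij, hz]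
    have h1 := hc.act w hw j
    rw [hσ, hwj, hz] at h1
    exact h1
  -- linear elements of `E0` are trivial
  have hElin : ∀ n ∈ E0, SLin V H R co j n (RingEquiv.refl F) → n = 1 := by
    intro n hn hl
    obtain ⟨γ, hγ⟩ := N.lin_of hRH (hA hn.1) (hel.2 n hn.1) hl
    have h1 := hγ v₀ hv₀
    rw [hn.2] at h1
    have h3 := congrFun h1 0
    simp only [Matrix.cons_val_zero] at h3
    have h4 : γ = 0 := by
      rcases mul_eq_zero.1 (left_eq_add.1 h3) with h | h
      · exact h
      · exact absurd h hline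
    refine hfaith n hn.1 fun w hw => ?_
    rw [hγ w hw, h4]
    apply NatPair.ext2 <;> simp
  have c1 : 2 * Nat.card E0 ≤ Nat.card F := by
    have hF2 : 2 ≤ Nat.card F := Finite.one_lt_card
    by_cases h1 : ∀ n ∈ E0, n = 1
    · have h3 : Subsingleton E0 := ⟨fun a b => Subtype.ext ((h1 a a.2).trans (h1 b b.2).symm)⟩
      have h5 := (Finite.card_le_one_iff_subsingleton (α := E0)).2 h3
      omega
    · push Not at h1
      obtain ⟨f, hf, hf1⟩ := h1
      obtain ⟨s, hs⟩ := N.exists_SLin hRH (hA hf.1) (hEfix f hf)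
      have hsn : s ≠ RingEquiv.refl F := by
        rintro rfl
        exact hf1 (hElin f hf hs)
      have h3 : ∀ n : E0, n = ⟨f, hf⟩ ∨ (n : Y) = 1 := by
        rintro ⟨n, hn⟩
        by_cases hn1 : n = 1
        · exact Or.inr hn1
        left
        obtain ⟨t, ht⟩ := N.exists_SLin hRH (hA hn.1) (hEfix n hn)
        have htn : t ≠ RingEquiv.refl F := by
          rintro rfl
          exact hn1 (hElin n hn ht)
        have h4 := lin_mul N hRH (hA hf.1) (hA hn.1) (hel.2 f hf.1) (hel.2 n hn.1) hs ht hsn htn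
        have h5 : f * n ∈ E0 := by
          refine ⟨A.mul_mem hf.1 hn.1, ?_⟩
          -- `n v₀ = v₀` mod other stuff
          have h6 : co (n • v₀) = co v₀ := by
            funext i
            by_cases hi : i = j
            · subst hi; exact hn.2
            · rw [hsupp i hi]
              exact hsup n hn.1 j (by rw [hn.2]; exact hne) i hi
          have h7 : co (f • n • v₀) = co (f • v₀) := by
            rw [← N.co_eq (hmemW f hf.1 _ (hmemW n hn.1 _ hv₀)) (hmemW f hf.1 _ hv₀), ← smul_add,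
              N.co_smul_zero (hRH (hA hf.1)) (add_mem (hmemW n hn.1 _ hv₀) hv₀),
              N.co_eq (hmemW n hn.1 _ hv₀) hv₀]
            exact h6
          rw [mul_smul, h7, hf.2]
        have h8 := hElin _ h5 h4
        apply Subtype.ext
        have h9 : f⁻¹ = f := inv_eq_of_mul_eq_one_left (hel.2 f hf.1)
        have h10 := eq_inv_of_mul_eq_one_right h8
        rw [h9] at h10
        exact h10
      have h4 : Nat.card E0 ≤ 2 := by
        have h5 : Function.Injective (fun n : E0 => decide ((n : Y) = 1)) := by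
          intro a b hab
          have hab' : ((a : Y) = 1) ↔ ((b : Y) = 1) := by simpa using hab
          rcases h3 a with ha | ha
          · rcases h3 b with hb | hb
            · rw [ha, hb]
            · exact Subtype.ext ((hab'.2 hb).trans hb.symm)
          · exact Subtype.ext (ha.trans (hab'.1 ha).symm)
        have h6 := Nat.card_le_card_of_injective _ h5
        rwa [Nat.card_eq_fintype_card (α := Bool), Fintype.card_bool] at h6
      have h5 := fix_card s (by
        by_contra hc
        push Not at hc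
        exact hsn (RingEquiv.ext fun x => hc x))
      have h6 : 2 ≤ Nat.card {x : F // s x = x} := by
        have h7 : Function.Injective (fun b : Bool =>
            (if b then ⟨1, map_one s⟩ else ⟨0, map_zero s⟩ : {x : F // s x = x})) := by
          intro b b' hb
          cases b <;> cases b' <;> simp at hb ⊢
        have h8 := Nat.card_le_card_of_injective _ h7
        rwa [Nat.card_eq_fintype_card (α := Bool), Fintype.card_bool] at h8
      omega
  -- some `s ∈ S` moves `j`
  have hex : ∃ s ∈ S, co (s • v₀) j = 0 := by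
    by_contra hc
    push Not at hc
    have h1 : S ⊆ E0 := by
      intro s hs
      rcases hkey b hb hbj s hs with h | ⟨h, -⟩
      · exact h
      · exact absurd h (hc s hs)
    have h3 : Nat.card S ≤ Nat.card E0 := Nat.card_mono (Set.toFinite _) h1
    have h4 : 0 < Nat.card F := Nat.card_pos
    omega
  obtain ⟨s, hs, hsj⟩ := hex
  have hsA := hSA hs
  have hsE : s ∉ E0 := fun h => hne (by rw [← h.2, hsj])
  have hm : ∀ a ∈ A, co (a • v₀) j = 0 → s * a ∈ E0 := by
    intro a ha haj
    rcases hkey a ha haj s hs with h | ⟨-, h⟩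
    · exact absurd h hsE
    · exact h
  have hfx : ∀ a ∈ A, co (a • v₀) j ≠ 0 → a ∈ E0 := by
    intro a ha haj
    have h1 := hm (s * a) (A.mul_mem hsA ha) (by
      rw [hel.1 s hsA a ha, mul_smul]
      obtain ⟨σ, β, t, hc⟩ := N.exists_ca (hRH (hA ha))
      have hz : ∀ i, β i 0 = 0 := hc.zero
      have hσ : σ j = j := by
        by_contra hne'
        obtain ⟨i, hi⟩ := σ.surjective j
        have hij : i ≠ j := fun e => hne' (by rw [e] at hi; exact hi)
        apply haj
        rw [← hi, hc.act v₀ hv₀, hsupp i hij, hz]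
      have h5 := hc.act _ (hmemW s hsA _ hv₀) j
      rw [hσ, hsj, hz] at h5
      exact h5)
    rwa [← mul_assoc, hel.2 s hsA, one_mul] at h1
  have h1 : Function.Injective (fun a : A => if h : co ((a : Y) • v₀) j = 0 then
      ((true, ⟨s * a, hm a a.2 h⟩) : Bool × E0) else (false, ⟨a, hfx a a.2 h⟩)) := by
    intro a b hab
    by_cases ha : co ((a : Y) • v₀) j = 0 <;> by_cases hb : co ((b : Y) • v₀) j = 0
    · simp only [ha, hb, dif_pos, Prod.mk.injEq, Subtype.mk.injEq, true_and, mul_right_inj] at hab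
      exact Subtype.ext hab
    · simp [ha, hb] at hab
    · simp [ha, hb] at hab
    · simp only [ha, hb, dif_neg, not_false_eq_true, Prod.mk.injEq, Subtype.mk.injEq, true_and] at hab
      exact Subtype.ext hab
  have h3 := Nat.card_le_card_of_injective _ h1
  rw [Nat.card_prod, Nat.card_eq_fintype_card (α := Bool), Fintype.card_bool] at h3
  omega

end KNat

end Cfsg.Agent.Omega.NO1.TH.K
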