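import Cfsg.Agent.Omega.NO1.TH.K.Loc
import Cfsg.Agent.Omega.CloseA.Semi

/-!
# N1-ONE, (B) of #19584, natural type (helper247 #20646): elementary abelian subgroups on one component

`SLin R co j a s` : `a` fixes the component `j` and is `s`-semilinear on it.

* `KNat.card_le` : an elementary abelian `A ≤ R` which fixes `j` and is faithful on the component `j` has `|A| ≤ |F|`;
* `KNat.card_le'` : the same without "fixes `j`", if `[W, A, S] = 0` for some `1 ≠ S ≤ A`;
* `KNat.bound` : (z).
-/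

set_option autoImplicit false
set_option linter.unusedSectionVars false

namespace Cfsg.Agent.Omega.NO1.TH.K

open Subgroup Cfsg.Agent.Omega.NO1.AB Cfsg.Agent.Lib.SL2Mat
open Cfsg.Agent.Omega.NatPair (ap)
open scoped Pointwise

universe u

variable {Y : Type u} [Group Y] {V : Type u} [AddCommGroup V] [DistribMulAction Y V] {H R : Subgroup Y}
  {F : Type} [Field F] {k : ℕ} {co : V → Fin k → Fin 2 → F}

/-- `a` is `s`-semilinear on the component `j` -/
def SLin (V : Type u) [AddCommGroup V] [DistribMulAction Y V] (H R : Subgroup Y) (co : V → Fin k → Fin 2 → F)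
    (j : Fin k) (a : Y) (s : F ≃+* F) : Prop :=
  ∀ w ∈ WW V H R, ∀ w' ∈ WW V H R, ∀ c : F, co w' j = c • co w j → co (a • w') j = s c • co (a • w) j

theorem fix_card [Finite F] (s : F ≃+* F) (hs : ∃ x, s x ≠ x) : 2 * Nat.card {x : F // s x = x} ≤ Nat.card F := by
  obtain ⟨z, hz⟩ := hs
  have h1 : Function.Injective (fun p : {x : F // s x = x} × {x : F // s x = x} => p.1.1 + p.2.1 * z) := by
    rintro ⟨⟨a, ha⟩, ⟨b, hb⟩⟩ ⟨⟨a', ha'⟩, ⟨b', hb'⟩⟩ h
    change a + b * z = a' + b' * z at h
    by_cases hbb : b = b'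
    · subst hbb
      have : a = a' := add_right_cancel h
      subst this
      rfl
    · exfalso
      apply hz
      have h3 : (b - b') * z = a' - a := by linear_combination h
      have h4 : b - b' ≠ 0 := sub_ne_zero.2 hbb
      have h5 : z = (a' - a) * (b - b')⁻¹ := by
        field_simp
        linear_combination h3
      rw [h5, map_mul, map_inv₀, map_sub, map_sub, ha, ha', hb, hb']
  have h3 := Nat.card_le_card_of_injective _ h1
  rw [Nat.card_prod] at h3
  have h4 : 2 ≤ Nat.card {x : F // s x = x} := by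
    have h5 : Function.Injective (fun b : Bool => (if b then ⟨1, map_one s⟩ else ⟨0, map_zero s⟩ : {x : F // s x = x})) := by
      intro b b' hb
      cases b <;> cases b' <;> simp at hb ⊢
    have h6 := Nat.card_le_card_of_injective _ h5
    rwa [Nat.card_eq_fintype_card (α := Bool), Fintype.card_bool] at h6
  exact (Nat.mul_le_mul_right _ h4).trans h3

namespace KNat

variable (N : KNat V H R F k co)
include N

theorem exists_SLin [Finite F] [CharP F 2] (hRH : R ≤ H) {j : Fin k} {a : Y} (ha : a ∈ R)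
    (hf : ∀ w ∈ WW V H R, co w j = 0 → co (a • w) j = 0) : ∃ s, SLin V H R co j a s := by
  obtain ⟨σ, β, s, hc⟩ := N.exists_ca (hRH ha)
  have hσ : σ j = j := by
    by_contra hne
    obtain ⟨i, hi⟩ := σ.surjective j
    have hij : i ≠ j := fun e => hne (by rw [e] at hi; exact hi)
    obtain ⟨v, hv, hvx⟩ := N.exists_sgl i (![1, 0] : Fin 2 → F)
    have h1 := hf v hv (by rw [hvx, Pi.single_eq_of_ne hij.symm])
    rw [← hi, hc.act v hv, hvx, Pi.single_eq_same] at h1
    have h3 := congrFun (hc.inj i _ h1) 0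
    simp at h3
  refine ⟨s j, fun w hw w' hw' c h => ?_⟩
  have h1 := hc.act w hw j
  have h3 := hc.act w' hw' j
  rw [hσ] at h1 h3
  rw [h1, h3, h, hc.smul]

omit N in
theorem SLin.mul {j : Fin k} {a b : Y} {s t : F ≃+* F} (hRH : R ≤ H) (hb' : b ∈ R) (ha : SLin V H R co j a s)
    (hb : SLin V H R co j b t) : SLin V H R co j (a * b) (t.trans s) := by
  intro w hw w' hw' c h
  rw [mul_smul, mul_smul]
  exact ha _ (smul_mem_WW (hRH hb') hw) _ (smul_mem_WW (hRH hb') hw') _ (hb w hw w' hw' c h)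

omit N in
theorem SLin.fix {j : Fin k} {a : Y} {s : F ≃+* F} (ha : SLin V H R co j a s) {w : V} (hw : w ∈ WW V H R)
    (h : co w j = 0) : co (a • w) j = 0 := by
  have h1 := ha w hw w hw 0 (by rw [h, smul_zero])
  rwa [map_zero, zero_smul] at h1

theorem exists_ne [CharP F 2] (hRH : R ≤ H) {j : Fin k} {a : Y} (ha : a ∈ R) : ∃ w ∈ WW V H R, co (a • w) j ≠ 0 := by
  obtain ⟨v, hv, hvx⟩ := N.exists_sgl j (![1, 0] : Fin 2 → F)
  refine ⟨a⁻¹ • v, smul_mem_WW (H.inv_mem (hRH ha)) hv, fun h => ?_⟩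
  rw [smul_inv_smul, hvx, Pi.single_eq_same] at h
  have h4 := congrFun h 0
  simp at h4

theorem SLin_uniq [CharP F 2] (hRH : R ≤ H) {j : Fin k} {a : Y} (ha' : a ∈ R) {s t : F ≃+* F}
    (ha : SLin V H R co j a s) (hb : SLin V H R co j a t) : s = t := by
  obtain ⟨w, hw, hne⟩ := N.exists_ne hRH (j := j) ha'
  ext c
  obtain ⟨w', hw', hww⟩ := N.exists_sgl j (c • co w j)
  have e : co w' j = c • co w j := by rw [hww, Pi.single_eq_same]
  have h1 := ha w hw w' hw' c e
  rw [hb w hw w' hw' c e] at h1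
  exact (smul_left_injective F hne h1).symm

omit N in
theorem SLin_one {j : Fin k} : SLin V H R co j (1 : Y) (RingEquiv.refl F) := by
  intro w hw w' hw' c h
  rw [one_smul, one_smul, h]
  rfl

theorem SLin_sq [CharP F 2] (hRH : R ≤ H) {j : Fin k} {a : Y} (ha' : a ∈ R) (haa : a * a = 1) {s : F ≃+* F}
    (ha : SLin V H R co j a s) (x : F) : s (s x) = x := by
  have h1 := SLin.mul hRH ha' ha ha
  rw [haa] at h1
  have h3 := N.SLin_uniq hRH R.one_mem h1 SLin_one
  exact RingEquiv.congr_fun h3 x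

/-- linear involutions -/
theorem lin_of [Finite F] [CharP F 2] (hRH : R ≤ H) {j : Fin k} {a : Y} (ha' : a ∈ R) (haa : a * a = 1)
    (ha : SLin V H R co j a (RingEquiv.refl F)) :
    ∃ γ : F, ∀ w ∈ WW V H R, co (a • w) j = ![co w j 0 + γ * co w j 1, co w j 1] := by
  obtain ⟨σ, β, s, hc, hl⟩ := N.exists_caR hRH ha'
  have hσ : σ j = j := by
    by_contra hne
    obtain ⟨i, hi⟩ := σ.surjective j
    have hij : i ≠ j := fun e => hne (by rw [e] at hi; exact hi)
    obtain ⟨v, hv, hvx⟩ := N.exists_sgl i (![1, 0] : Fin 2 → F)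
    have h1 := SLin.fix ha hv (by rw [hvx, Pi.single_eq_of_ne hij.symm])
    rw [← hi, hc.act v hv, hvx, Pi.single_eq_same] at h1
    have h3 := congrFun (hc.inj i _ h1) 0
    simp at h3
  have hact : ∀ w ∈ WW V H R, co (a • w) j = β j (co w j) := by
    intro w hw
    have h1 := hc.act w hw j
    rwa [hσ] at h1
  have hsm : ∀ (c : F) x, β j (c • x) = c • β j x := by
    intro c x
    obtain ⟨w, hw, hwx⟩ := N.exists_sgl j x
    obtain ⟨w', hw', hwx'⟩ := N.exists_sgl j (c • x)
    have h1 := ha w hw w' hw' c (by rw [hwx, hwx', Pi.single_eq_same, Pi.single_eq_same])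
    rw [hact w hw, hact w' hw', hwx, hwx', Pi.single_eq_same, Pi.single_eq_same] at h1
    exact h1
  have hbb : ∀ x, β j (β j x) = x := by
    intro x
    obtain ⟨w, hw, hwx⟩ := N.exists_sgl j x
    have h1 := hact _ (smul_mem_WW (hRH ha') hw)
    rw [← mul_smul, haa, one_smul, hact w hw, hwx, Pi.single_eq_same] at h1
    exact h1.symm
  have h10 : β j ![1, 0] 1 = 0 := (hl j _).2 (by simp)
  set α := β j ![1, 0] 0 with hα
  have e1 : β j ![1, 0] = α • ![1, 0] := by
    apply NatPair.ext2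
    · simp [hα]
    · rw [h10]; simp
  have h1 := hbb ![1, 0]
  rw [e1, hsm, e1, smul_smul] at h1
  have h3 : α * α = 1 := by
    have := congrFun h1 0
    simpa using this
  have sq1 : ∀ x : F, x * x = 1 → x = 1 := by
    intro x hx
    have h5 : (x + 1) * (x + 1) = 0 := by
      have h6 : (1 : F) + 1 = 0 := CharTwo.add_self_eq_zero 1
      linear_combination hx + (1 + x) * h6
    have h7 : x + 1 = 0 := by simpa using h5
    have h8 : (1 : F) + 1 = 0 := CharTwo.add_self_eq_zero 1
    exact add_right_cancel (h7.trans h8.symm)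
  have hα1 := sq1 α h3
  rw [hα1, one_smul] at e1
  have e2 : β j ![0, 1] = (β j ![0, 1] 0) • ![1, 0] + (β j ![0, 1] 1) • ![0, 1] := by
    apply NatPair.ext2
    · simp
    · simp
  have h4 := hbb ![0, 1]
  rw [e2, hc.add, hsm, hsm, e1] at h4
  have h5 : β j ![0, 1] 1 * β j ![0, 1] 1 = 1 := by
    have := congrFun h4 1
    simpa using this
  have hδ := sq1 _ h5
  refine ⟨β j ![0, 1] 0, fun w hw => ?_⟩
  rw [hact w hw]
  have e3 : co w j = (co w j 0) • ![1, 0] + (co w j 1) • ![0, 1] := by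
    apply NatPair.ext2
    · simp
    · simp
  rw [e3, hc.add, hsm, hsm, e1]
  apply NatPair.ext2
  · simp only [Pi.add_apply, Pi.smul_apply, smul_eq_mul, Matrix.cons_val_zero, Matrix.cons_val_one, mul_one, mul_zero,
      add_zero, zero_add]
    ring
  · simp only [Pi.add_apply, Pi.smul_apply, smul_eq_mul, Matrix.cons_val_zero, Matrix.cons_val_one, mul_one, mul_zero,
      add_zero, zero_add]
    rw [hδ, mul_one]

end KNat

end Cfsg.Agent.Omega.NO1.TH.K
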