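import Cfsg.Agent.Omega.NO1.TH.K.EOne

/-!
# N1, BETA, `S_n` type: the computation (a) of bb OMEGA 20646 / 21203 (helper247, helper864)

`co : V → Fin k → Fin n → ZMod 2` coordinates on `W` (even vectors), `B` a commutative group which acts by disjoint
transpositions, `σ : W → B` with `σ y • y = y` and `[x, σ y] = [y, σ x]`: then every `σ y` is trivial on the
coordinates.
-/

set_option autoImplicit false
set_option linter.unusedSectionVars false

namespace Cfsg.Agent.Omega.NO1.TH.K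

open Subgroup
open scoped Pointwise

universe u

variable {Y : Type u} [Group Y] {V : Type u} [AddCommGroup V] [DistribMulAction Y V]

/-- a vector with two non-zero coordinates -/
theorem exists_pair {W : AddSubgroup V} {k n : ℕ} {co : V → Fin k → Fin n → ZMod 2}
    (surj : ∀ y : Fin k → Fin n → ZMod 2, (∀ i, ∑ x, y i x = 0) → ∃ v ∈ W, co v = y) (i : Fin k) {p r : Fin n}
    (hpr : p ≠ r) : ∃ v ∈ W, co v i p = 1 ∧ co v i r = 1 ∧ ∀ x, x ≠ p → x ≠ r → co v i x = 0 := by
  obtain ⟨v, hv, h1⟩ := surj (fun j => if j = i then (Pi.single p 1 + Pi.single r 1) else 0) (by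
    intro j
    by_cases hj : j = i
    · rw [if_pos hj]
      simp only [Pi.add_apply, Finset.sum_add_distrib, Finset.sum_pi_single', Finset.mem_univ, if_true]
      exact CharTwo.add_self_eq_zero 1
    · rw [if_neg hj]; simp)
  have h2 : co v i = Pi.single p 1 + Pi.single r 1 := by rw [h1]; exact if_pos rfl
  refine ⟨v, hv, ?_, ?_, fun x hxp hxr => ?_⟩
  · rw [h2, Pi.add_apply, Pi.single_eq_same, Pi.single_eq_of_ne hpr, add_zero]
  · rw [h2, Pi.add_apply, Pi.single_eq_same, Pi.single_eq_of_ne hpr.symm, zero_add]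
  · rw [h2, Pi.add_apply, Pi.single_eq_of_ne hxp, Pi.single_eq_of_ne hxr, add_zero]

/-- commuting transpositions -/
theorem swap_comm_eq {W : AddSubgroup V} {k n : ℕ} {co : V → Fin k → Fin n → ZMod 2}
    (surj : ∀ y : Fin k → Fin n → ZMod 2, (∀ i, ∑ x, y i x = 0) → ∃ v ∈ W, co v = y) {b c : Y}
    (hbW : ∀ v ∈ W, b • v ∈ W) (hcW : ∀ v ∈ W, c • v ∈ W) (hbc : b * c = c * b) {i : Fin k} {p q r : Fin n}
    (hb : ∀ v ∈ W, ∀ x, co (b • v) i x = co v i (Equiv.swap p q x))
    (hc : ∀ v ∈ W, ∀ x, co (c • v) i x = co v i (Equiv.swap r q x)) (hpq : p ≠ q) (hrq : r ≠ q) : r = p := by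
  by_contra hrp
  obtain ⟨v, hv, h1, h2, h3⟩ := exists_pair surj i hpq
  have h4 : co (b • c • v) i p = co (c • b • v) i p := by rw [← mul_smul, ← mul_smul, hbc]
  rw [hb _ (hcW v hv), hc v hv, hc _ (hbW v hv), hb v hv, Equiv.swap_apply_left, Equiv.swap_apply_right,
    Equiv.swap_apply_of_ne_of_ne (Ne.symm hrp) hpq, Equiv.swap_apply_left, h2, h3 r hrp hrq] at h4
  exact zero_ne_one h4

/-- **the computation (a), `S_n` type** -/
theorem dtr_triv {W : AddSubgroup V} {k n : ℕ} (hn : 3 ≤ n) {co : V → Fin k → Fin n → ZMod 2}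
    (add : ∀ v ∈ W, ∀ w ∈ W, co (v + w) = co v + co w)
    (surj : ∀ y : Fin k → Fin n → ZMod 2, (∀ i, ∑ x, y i x = 0) → ∃ v ∈ W, co v = y) {B : Subgroup Y}
    (comm : ∀ a ∈ B, ∀ b ∈ B, a * b = b * a) (hBW : ∀ b ∈ B, ∀ v ∈ W, b • v ∈ W)
    (tr : ∀ a ∈ B, ∃ τ : Fin k → Equiv.Perm (Fin n), (∀ v ∈ W, ∀ i x, co (a • v) i (τ i x) = co v i x) ∧
      ∀ i x, τ i x ≠ x → ∃ b ∈ B, ∀ v ∈ W, ∀ y, co (b • v) i (Equiv.swap x (τ i x) y) = co v i y)
    {σ : V → Y} (h1 : ∀ y ∈ W, σ y ∈ B) (h2 : ∀ y ∈ W, σ y • y = y)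
    (h3 : ∀ x ∈ W, ∀ y ∈ W, σ y • x + x = σ x • y + y) : ∀ y ∈ W, ∀ z ∈ W, co (σ y • z) = co z := by
  have hsw : ∀ {b : Y} {i : Fin k} {p q : Fin n}, (∀ v ∈ W, ∀ y, co (b • v) i (Equiv.swap p q y) = co v i y) →
      ∀ v ∈ W, ∀ y, co (b • v) i y = co v i (Equiv.swap p q y) := by
    intro b i p q hb v hv y
    have h4 := hb v hv (Equiv.swap p q y)
    rwa [Equiv.swap_apply_self] at h4
  intro y hy z hz
  obtain ⟨τ, hτ, hτ2⟩ := tr _ (h1 y hy)
  have hid : ∀ i x, τ i x = x := by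
    intro i p
    by_contra hpq
    obtain ⟨b, hb, hb2⟩ := hτ2 i p hpq
    set q := τ i p with hq
    -- a third point
    obtain ⟨r, hrp, hrq⟩ : ∃ r : Fin n, r ≠ p ∧ r ≠ q := by
      by_contra hcon
      push Not at hcon
      have h5 : (Finset.univ : Finset (Fin n)) ⊆ {p, q} := by
        intro w _
        rw [Finset.mem_insert, Finset.mem_singleton]
        by_cases h6 : w = p
        · exact Or.inl h6
        · exact Or.inr (hcon w h6)
      have h6 := Finset.card_le_card h5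
      rw [Finset.card_univ, Fintype.card_fin] at h6
      have h7 := Finset.card_insert_le p {q}
      rw [Finset.card_singleton] at h7
      omega
    obtain ⟨x', hx', e1, e2, e3⟩ := exists_pair surj i (p := p) (r := r) (Ne.symm hrp)
    have e4 : co x' i q = 0 := e3 q hpq (Ne.symm hrq)
    obtain ⟨τ', hτ', hτ2'⟩ := tr _ (h1 x' hx')
    -- `τ'` fixes `q`
    have hfix : (τ' i).symm q = q := by
      by_contra hne
      set q' := (τ' i).symm q with hq'
      have hq2 : τ' i q' = q := by rw [hq']; exact Equiv.apply_symm_apply _ _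
      obtain ⟨c, hc, hc2⟩ := hτ2' i q' (by rw [hq2]; exact Ne.symm hne)
      rw [hq2] at hc2
      have h5 : q' = p := swap_comm_eq surj (hBW b hb) (hBW c hc) (comm b hb c hc) (hsw hb2) (hsw hc2)
        (Ne.symm hpq) hne
      have h6 := hτ' x' hx' i q'
      rw [h2 x' hx', hq2, h5, e1, e4] at h6
      exact zero_ne_one h6
    have h5 := h3 x' hx' y hy
    have h6 : co (σ y • x' + x') i q = co (σ x' • y + y) i q := by rw [h5]
    rw [add _ (hBW _ (h1 y hy) x' hx') x' hx', add _ (hBW _ (h1 x' hx') y hy) y hy] at h6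
    change co (σ y • x') i q + co x' i q = co (σ x' • y) i q + co y i q at h6
    have h7 : co (σ y • x') i q = 1 := by rw [hq, hτ x' hx' i p, e1]
    have h8 : co (σ x' • y) i q = co y i q := by
      have h9 := hτ' y hy i q
      have h10 : τ' i q = q := by
        conv_rhs => rw [← Equiv.apply_symm_apply (τ' i) q, hfix]
      rw [h10] at h9
      exact h9
    rw [h7, h8, e4, add_zero, CharTwo.add_self_eq_zero] at h6
    exact one_ne_zero h6
  funext i x
  have h4 := hτ z hz i x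
  rwa [hid] at h4

end Cfsg.Agent.Omega.NO1.TH.K
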