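import Cfsg.Agent.Omega.NO1.TH.K.SPI
import Cfsg.Agent.Omega.NO1.TH.K.SETriv

/-!
# N1, BETA, `S_n` type: (a), (b), (g) of bb OMEGA 20646 / 21203 (helper247, helper864)

`W = WW V H R`, `W' = WW V H' R`, `Q = QQ H R`, `Q' = QQ H' R`:
* (a) `TwoS.pre` : `A ≤ H` a member, `w ∉ E_A`, `s ∈ A`, `[w, s] ∈ W + F_A` ⟹ `s ∈ Q`;
* (b) `TwoS.inf_PI` : the vectors of `W ∩ W'` are constant on the pairs of `R`;
* (g) `TwoS.gg` : `A` opposite, `y ∈ W' ∩ E_A` ⟹ `s_y ∈ Q`, and `S₁` centralises `y`.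
-/

set_option autoImplicit false
set_option linter.unusedSectionVars false
set_option linter.dupNamespace false

namespace Cfsg.Agent.Omega.NO1.TH.K

open Subgroup Cfsg.Agent.Omega.NO1.AB
open scoped Pointwise

universe u

variable {Y : Type u} [Group Y] {V : Type u} [AddCommGroup V] [DistribMulAction Y V]

namespace KSym

variable {H R : Subgroup Y} {k m : ℕ} {co : V → Fin k → Fin (2 ^ m + 1) → ZMod 2} (K : KSym V H R k m co)
include K

theorem three_le : 3 ≤ 2 ^ m + 1 := by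
  have h1 : 2 ^ 2 ≤ 2 ^ m := Nat.pow_le_pow_right (by norm_num) K.two_le
  omega

theorem abg_co_zero : co 0 = 0 := by
  have h1 := K.add 0 (zero_mem _) 0 (zero_mem _)
  rw [add_zero] at h1
  exact (add_eq_left.1 h1.symm)

theorem co_eq_of_add (two : ∀ v : V, v + v = 0) {v w : V} (hv : v ∈ WW V H R) (hw : w ∈ WW V H R)
    (h : co (v + w) = 0) : co v = co w := by
  have h1 := K.add w hw w hw
  rw [two, K.abg_co_zero] at h1
  rw [K.add v hv w hw] at h
  exact add_right_cancel (h.trans h1)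

theorem co_add_self (two : ∀ v : V, v + v = 0) {v w : V} (hv : v ∈ WW V H R) (hw : w ∈ WW V H R)
    (h : co v = co w) : co (v + w) = 0 := by
  rw [K.add v hv w hw, h, ← K.add w hw w hw, two, K.abg_co_zero]

/-- the computation (a) for an exact offender `B ≤ R` -/
theorem htriv (two : ∀ v : V, v + v = 0) (hRH : R ≤ H) {B : Subgroup Y} (hBR : B ≤ R) (hel : ElAb B)
    (hex : Nat.card ↥(B ⊓ QQ H R) * Nat.card ↥(WW V H R) ≤ Nat.card B * Nat.card ↥(fx V B ⊓ WW V H R))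
    {σ : V → Y} (h1 : ∀ y ∈ WW V H R, σ y ∈ B) (h2 : ∀ y ∈ WW V H R, σ y • y = y)
    (h3 : ∀ x ∈ WW V H R, ∀ y ∈ WW V H R, σ y • x + x = σ x • y + y) : ∀ y ∈ WW V H R, σ y ∈ QQ H R := by
  intro y hy
  by_cases hBQ : B ≤ QQ H R
  · exact hBQ (h1 y hy)
  obtain ⟨-, h4⟩ := K.off B hBR hel hBQ hex
  have h5 := dtr_triv K.three_le K.add K.surj hel.1 (fun b hb v hv => smul_mem_WW (hRH (hBR hb)) hv) (by
    intro a ha
    obtain ⟨τ, hτ, hτ2⟩ := h4 a ha
    refine ⟨τ, fun v hv i x => hτ v hv i x, fun i x hx => ?_⟩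
    obtain ⟨_, b, hb, hb2⟩ := hτ2 i x hx
    refine ⟨b, hb, fun v hv y => ?_⟩
    have h6 := hb2 v hv i y
    rw [Function.update_self] at h6
    exact h6) h1 h2 h3 y hy
  apply K.triv _ (hBR (h1 y hy))
  intro w hw
  exact K.co_add_self two (smul_mem_WW (hRH (hBR (h1 y hy))) hw) hw (h5 w hw)

end KSym

section pre

variable [Finite Y] [Finite V] {U : Set (Subgroup Y)} {T : Sylow 2 Y} {M H R : Subgroup Y} {k m : ℕ}
  {co : V → Fin k → Fin (2 ^ m + 1) → ZMod 2} {t : Y}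

/-- **(a)** for members in `R` -/
theorem KSym.pre_R (amb : Amb V U T M) (a : Amal U T M H R t) (we : WE V U H R) (K : KSym V H R k m co)
    {A : Subgroup Y} (hA : A ∈ U) (hAR : A ≤ R) {w : V} (hw : w ∉ Ee V A) {s : Y} (hs : s ∈ A)
    (h1 : s • w + w ∈ WW V H R ⊔ fx V A) : s ∈ QQ H R := by
  classical
  have hm := amb.cls.mem A hA
  have hWE : WW V H R ≤ Ee V A := we A hA hAR
  have hex : ∀ y : V, ∃ s : Y, y ∈ WW V H R → s ∈ A ∧ s • w + w + y ∈ fx V A := by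
    intro y
    by_cases hy : y ∈ WW V H R
    · obtain ⟨s, hs, h1⟩ := hm.surj w hw y (hWE hy)
      exact ⟨s, fun _ => ⟨hs, h1⟩⟩
    · exact ⟨1, fun h1 => absurd h1 hy⟩
  choose σ hσ using hex
  have h2 := a.exact' amb we hA (hAR.trans a.RH)
  have h3 := K.htriv amb.two a.RH hAR (Mem.elAb hm) (by
    rw [inf_comm (fx V A), ← h2, mul_comm]) (σ := σ) (fun y hy => (hσ y hy).1)
    (fun y hy => Amal.smul_self_of hm (hσ y hy).1 (hσ y hy).2)
    (fun x hx y hy => s_symm amb.two hm (hσ x hx).1 (hσ y hy).1 (hσ x hx).2 (hσ y hy).2)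
  obtain ⟨x, hx, f, hf, hxf⟩ := AddSubgroup.mem_sup.1 h1
  have h4 : s • w + w + x ∈ fx V A := by
    rw [← hxf]
    have e : x + f + x = (x + x) + f := by abel
    rw [e, amb.two, zero_add]
    exact hf
  rw [s_uniq amb.two hm hw hs (hσ x hx).1 (hWE hx) h4 (hσ x hx).2]
  exact h3 x hx

/-- **(a)** -/
theorem KSym.pre (amb : Amb V U T M) (a : Amal U T M H R t) (we : WE V U H R) (K : KSym V H R k m co)
    {A : Subgroup Y} (hA : A ∈ U) (hAH : A ≤ H) {w : V} (hw : w ∉ Ee V A) {s : Y} (hs : s ∈ A)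
    (h1 : s • w + w ∈ WW V H R ⊔ fx V A) : s ∈ QQ H R := by
  obtain ⟨x, hx, hxU, hxR⟩ := a.exists_conj amb hA hAH
  have h2 := K.pre_R amb a we hxU hxR (w := x • w) (by
    intro h3
    rw [Ee_conj, mem_smul_as, inv_smul_smul] at h3
    exact hw h3) (s := x * s * x⁻¹) (conj_mem_conj hs) (by
    have e : (x * s * x⁻¹) • x • w + x • w = x • (s • w + w) := by
      rw [smul_add, ← mul_smul, ← mul_smul]
      congr 2; group
    rw [e]
    obtain ⟨y, hy, f, hf, hyf⟩ := AddSubgroup.mem_sup.1 h1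
    rw [← hyf, smul_add]
    refine add_mem (AddSubgroup.mem_sup_left (smul_mem_WW hx hy)) (AddSubgroup.mem_sup_right ?_)
    rw [fx_conj, mem_smul_as, inv_smul_smul]
    exact hf)
  have h3 := conj_mem_QQ (H.inv_mem hx) h2
  have e : x⁻¹ * (x * s * x⁻¹) * x⁻¹⁻¹ = s := by group
  rwa [e] at h3

end pre

/-! ### (b) -/

section cap

variable {H R : Subgroup Y} {k m : ℕ} {co : V → Fin k → Fin (2 ^ m + 1) → ZMod 2}

/-- `q` conjugates the transposition of a pair -/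
theorem PI.conj (hRH : R ≤ H) {q : Y} (hq : q ∈ R) {σ : Equiv.Perm (Fin k)} {τ : Fin k → Equiv.Perm (Fin (2 ^ m + 1))}
    (hqa : ActS V H R co q σ τ) {i : Fin k} {x y : Fin (2 ^ m + 1)} {r : Y} (hr : r ∈ R)
    (h1 : ActS V H R co r 1 (Function.update 1 i (Equiv.swap x y))) :
    ActS V H R co (q * r * q⁻¹) 1 (Function.update 1 (σ i) (Equiv.swap (τ i x) (τ i y))) := by
  intro v hv j z
  have hqv : q⁻¹ • v ∈ WW V H R := smul_mem_WW (H.inv_mem (hRH hq)) hv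
  have hrv : r • q⁻¹ • v ∈ WW V H R := smul_mem_WW (hRH hr) hqv
  obtain ⟨j, rfl⟩ := σ.surjective j
  obtain ⟨z, rfl⟩ := (τ j).surjective z
  -- `co v (σ j) (τ j z) = co (q⁻¹ v) j z`
  have e1 : co v (σ j) (τ j z) = co (q⁻¹ • v) j z := by
    have h2 := hqa _ hqv j z
    rwa [smul_inv_smul] at h2
  have e2 : (q * r * q⁻¹) • v = q • r • q⁻¹ • v := by rw [mul_smul, mul_smul]
  rw [e1, e2]
  by_cases hj : j = i
  · subst hj
    rw [Function.update_self]
    have h3 : Equiv.swap (τ j x) (τ j y) (τ j z) = τ j (Equiv.swap x y z) := by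
      rw [(τ j).swap_apply_apply]
      simp
    rw [Equiv.Perm.one_apply, h3, hqa _ hrv j]
    have h4 := h1 _ hqv j z
    rw [Function.update_self] at h4
    exact h4
  · rw [Function.update_of_ne (fun h => hj (σ.injective h)), Equiv.Perm.one_apply, Pi.one_apply, Equiv.Perm.one_apply,
      hqa _ hrv j]
    have h4 := h1 _ hqv j z
    rw [Function.update_of_ne hj] at h4
    exact h4

/-- the facts about the pairs of `R` which are used in (b) -/
structure PrsS (V : Type u) [AddCommGroup V] [DistribMulAction Y V] (H R : Subgroup Y) {k m : ℕ}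
    (co : V → Fin k → Fin (2 ^ m + 1) → ZMod 2) : Prop where
  partner : ∀ (i : Fin k) (x : Fin (2 ^ m + 1)), x ≠ 0 → ∃ y, PI V H R co i x y
  uniq : ∀ (i : Fin k) (x y z : Fin (2 ^ m + 1)), PI V H R co i x y → PI V H R co i x z → y = z
  trans : ∀ (i j : Fin k) (x y x' y' : Fin (2 ^ m + 1)), PI V H R co i x y → PI V H R co j x' y' →
    ∃ r ∈ R, ∃ σ τ, ActS V H R co r σ τ ∧ σ i = j ∧ (τ i x = x' ∧ τ i y = y' ∨ τ i x = y' ∧ τ i y = x')

theorem TrD.conj (hRH : R ≤ H) {q : Y} (hq : q ∈ R) {σ : Equiv.Perm (Fin k)}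
    {τ : Fin k → Equiv.Perm (Fin (2 ^ m + 1))} (hqa : ActS V H R co q σ τ) {r : Y} (hr : TrD V H R co r) :
    TrD V H R co (q * r * q⁻¹) := by
  intro d hd h0
  have hqd : q⁻¹ • d ∈ WW V H R := smul_mem_WW (H.inv_mem (hRH hq)) hd
  have h1 : co (q⁻¹ • d) = 0 := by
    funext i x
    have h2 := hqa _ hqd i x
    rw [smul_inv_smul, h0] at h2
    exact h2.symm
  rw [mul_smul, mul_smul, hr _ hqd h1, smul_inv_smul]

/-- vectors fixed by a normal subgroup `N ≰ Q` of `R` are constant on the pairs of `R` -/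
theorem KSym.const_of_fix (K : KSym V H R k m co) (two : ∀ v : V, v + v = 0) (hRH : R ≤ H)
    (p : PrsS V H R co) {N : Subgroup Y} (hNR : N ≤ R) (hN : ∀ r ∈ R, ∀ n ∈ N, r * n * r⁻¹ ∈ N) (hNQ : ¬ N ≤ QQ H R) {v : V}
    (hv : v ∈ WW V H R) (hfix : ∀ n ∈ N, n • v = v) {j : Fin k} {x' y' : Fin (2 ^ m + 1)}
    (hxy : PI V H R co j x' y') : co v j x' = co v j y' := by
  -- one pair
  obtain ⟨i, x, y, hPI, hone⟩ : ∃ i x y, PI V H R co i x y ∧
      ∀ v ∈ WW V H R, (∀ n ∈ N, n • v = v) → co v i x = co v i y := by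
    obtain ⟨q, hq, hqQ⟩ := SetLike.not_le_iff_exists.1 hNQ
    obtain ⟨σ, τ, hqa⟩ := K.perm q (hRH (hNR hq))
    by_cases hall : ∀ i x y, PI V H R co i x y → σ i = i ∧ (τ i x = x ∨ τ i x = y)
    · -- all pairs are preserved
      obtain ⟨i, x, hx⟩ : ∃ i x, τ i x ≠ x := by
        by_contra hcon
        push Not at hcon
        apply hqQ
        apply K.triv q (hNR hq)
        intro w hw
        apply K.co_add_self two (smul_mem_WW (hRH (hNR hq)) hw) hw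
        funext i x
        have h1 : (1 : Fin (2 ^ m + 1)) ≠ 0 := by
          intro h0
          have h2 := K.three_le
          have h3 := congrArg Fin.val h0
          rw [Fin.val_one', Nat.mod_eq_of_lt (by omega)] at h3
          exact absurd h3 (by norm_num)
        obtain ⟨y, hy⟩ := p.partner i 1 h1
        have h2 := hqa w hw i x
        rwa [(hall i 1 y hy).1, hcon i x] at h2
      have hx0 : x ≠ 0 := fun h0 => hx (by rw [h0]; exact K.fix0 q (hNR hq) σ τ hqa i)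
      obtain ⟨y, hy⟩ := p.partner i x hx0
      refine ⟨i, x, y, hy, fun v hv hf => ?_⟩
      obtain ⟨h1, h2⟩ := hall i x y hy
      have h3 := hqa v hv i x
      rw [hf q hq, h1, h2.resolve_left hx] at h3
      exact h3.symm
    · push Not at hall
      obtain ⟨i, x, y, hPI, hmov⟩ := hall
      obtain ⟨hxy, r, hr, hra, hrD⟩ := hPI
      have hc : q * r * q⁻¹ * r⁻¹ ∈ N := by
        have h1 := N.mul_mem hq (hN r hr _ (N.inv_mem hq))
        have e : q * (r * q⁻¹ * r⁻¹) = q * r * q⁻¹ * r⁻¹ := by group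
        rwa [e] at h1
      have hg := PI.conj hRH (hNR hq) hqa hr hra
      have hgR : q * r * q⁻¹ ∈ R := R.mul_mem (R.mul_mem (hNR hq) hr) (R.inv_mem (hNR hq))
      refine ⟨i, x, y, ⟨hxy, r, hr, hra, hrD⟩, fun v hv hf => ?_⟩
      -- `u = r⁻¹ v`
      obtain ⟨u, hu⟩ : ∃ u, u = r⁻¹ • v := ⟨_, rfl⟩
      have huW : u ∈ WW V H R := by rw [hu]; exact smul_mem_WW (H.inv_mem (hRH hr)) hv
      have hv1 : (q * r * q⁻¹) • u = v := by rw [hu, ← mul_smul]; exact hf _ hc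
      have hv2 : r • u = v := by rw [hu, smul_inv_smul]
      have e1 : co u i x = co v i y := by
        have h1 := hra u huW i x
        rw [Function.update_self, Equiv.swap_apply_left, hv2] at h1
        exact h1.symm
      rw [← e1]
      by_cases hσ : σ i = i
      · have hpi : PI V H R co i (τ i x) (τ i y) := by
          rw [hσ] at hg
          exact ⟨fun h1 => hxy ((τ i).injective h1), _, hgR, hg, TrD.conj hRH (hNR hq) hqa hrD⟩
        have hm1 : τ i x ≠ x ∧ τ i x ≠ y := hmov hσ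
        have hx1 : x ≠ τ i x := Ne.symm hm1.1
        have hx2 : x ≠ τ i y := by
          intro h1
          apply hm1.2
          rw [← h1] at hpi
          exact p.uniq i x _ _ hpi.symm ⟨hxy, r, hr, hra, hrD⟩
        have h1 := hg u huW i x
        rw [hσ, Function.update_self, Equiv.swap_apply_of_ne_of_ne hx1 hx2, hv1] at h1
        exact h1
      · have h1 := hg u huW i x
        rw [Function.update_of_ne (Ne.symm hσ), hv1] at h1
        exact h1
  obtain ⟨r, hr, σ, τ, hra, hσ, hτ⟩ := p.trans i j x y x' y' hPI hxy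
  have hvW : r⁻¹ • v ∈ WW V H R := smul_mem_WW (H.inv_mem (hRH hr)) hv
  have h1 := hone (r⁻¹ • v) hvW (by
    intro n hn
    have h2 := hfix _ (hN r hr n hn)
    have e : n • r⁻¹ • v = r⁻¹ • (r * n * r⁻¹) • v := by
      rw [← mul_smul, ← mul_smul]; congr 1; group
    rw [e, h2])
  have h2 := hra _ hvW i x
  have h3 := hra _ hvW i y
  rw [smul_inv_smul, hσ] at h2 h3
  rw [← h2, ← h3] at h1
  rcases hτ with ⟨h4, h5⟩ | ⟨h4, h5⟩
  · rwa [h4, h5] at h1
  · rw [h4, h5] at h1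
    exact h1.symm

end cap

/-! ### Both sides -/

namespace TwoS

variable [Finite Y] [Finite V] {U : Set (Subgroup Y)} {T : Sylow 2 Y} {M H H' R : Subgroup Y} {k m : ℕ}
  {co co' : V → Fin k → Fin (2 ^ m + 1) → ZMod 2} {t : Y} (h : TwoS V U T M H H' R k m co co' t)
include h

theorem W'_eq : WW V H' R = t • WW V H R := by
  rw [h.H'_eq]
  exact WW_conj (fun v => h.a.smul_V0) fun v => h.a.smul_V0'

theorem Q'_eq : QQ H' R = MulAut.conj t • QQ H R := by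
  rw [h.H'_eq]
  exact QQ_conj h.a.t_norm fun r hr => h.a.symm_smul hr

/-- **(*)** -/
theorem star {B : Subgroup Y} (hB : B ∈ U) (hBH : B ≤ H) (hBM : ¬ B ≤ M) :
    ¬ B ⊓ QQ H R ≤ QQ H' R := by
  rw [h.Q'_eq]
  obtain ⟨b, hb, hb'⟩ := h.a.star h.amb h.we hB hBH hBM
  exact fun h1 => hb' (h1 hb)

/-- `Q' ≰ Q` -/
theorem not_Q' : ¬ QQ H' R ≤ QQ H R := by
  intro h1
  have h2 : QQ H' R = QQ H R := by
    apply eq_of_le_of_card_ge h1
    rw [h.Q'_eq, conj_card]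
  have hQ : QQ H R ≠ ⊥ := by
    intro h3
    obtain ⟨B, hB, hBR⟩ := h.a.memR
    apply Amal.ne_bot h.a h.amb h.we hB (hBR.trans h.a.RH)
    rw [h3, inf_bot_eq]
  obtain ⟨q, hq, h3⟩ := Amal.QQ_ne h.a h.amb hQ
  rw [h.Q'_eq] at h2
  rcases h3 with h3 | h3
  · apply h3
    rw [← h2]
    exact conj_mem_conj hq
  · apply h3
    rw [← h2, mem_conj] at hq
    exact hq

/-- (a) -/
theorem pre {A : Subgroup Y} (hA : A ∈ U) (hAH : A ≤ H) (w : V) (hw : w ∉ Ee V A) (s : Y) (hs : s ∈ A)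
    (h1 : s • w + w ∈ WW V H R ⊔ fx V A) : s ∈ QQ H R := KSym.pre h.amb h.a h.we h.K hA hAH hw hs h1

/-- **(b)** -/
theorem inf_PI (p : PrsS V H R co) {v : V} (hv : v ∈ WW V H R) (hv' : v ∈ WW V H' R) {i : Fin k}
    {x y : Fin (2 ^ m + 1)} (hxy : PI V H R co i x y) : co v i x = co v i y :=
  h.K.const_of_fix h.amb.two h.a.RH p QQ_le (fun _ hr _ hn => conj_mem_QQ (h.a'.RH hr) hn) h.not_Q' hv
    (fun _ hn => Amal.QQ_fix h.a' h.amb hn hv') hxy

/-- **(g)** -/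
theorem gg (p : PrsS V H R co) {A : Subgroup Y} (hA : A ∈ U) (hAH : A ≤ H) (hO : OppS V M H R co A) {w : V}
    (hw : w ∉ Ee V A) {y : V} (hy : y ∈ WW V H' R) (hyE : y ∈ Ee V A) :
    (∀ s ∈ A, s • w + w + y ∈ fx V A → s ∈ QQ H R) ∧
      ∀ s ∈ A, s • w + w ∈ WW V H R ⊔ fx V A → s • y = y := by
  have hm := h.amb.cls.mem A hA
  have hWE : WW V H R ≤ Ee V A := h.a.WW_le_Ee h.amb h.we hA hAH
  -- `s_y`
  obtain ⟨r, hr, hry⟩ := hm.surj w hw y hyE
  have key : ∀ x ∈ WW V H R, ∀ s ∈ A, s • w + w + x ∈ fx V A → co (r • x + x) = 0 ∧ r • x + x = s • y + y := by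
    intro x hx s hs hsx
    have h1 := s_symm h.amb.two hm hs hr hsx hry
    refine ⟨?_, h1⟩
    have h2 : s ∈ QQ H R := h.pre hA hAH w hw s hs (by
      have h3 : s • w + w = x + (s • w + w + x) := by
        have e : x + (s • w + w + x) = (x + x) + (s • w + w) := by abel
        rw [e, h.amb.two, zero_add]
      rw [h3]
      exact add_mem (AddSubgroup.mem_sup_left hx) (AddSubgroup.mem_sup_right hsx))
    apply hO.2 _ (AddSubgroup.subset_closure ⟨x, hx, r, hr, rfl⟩)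
    intro i x' y' hxy
    refine h.inf_PI p (add_mem (smul_mem_WW (hAH hr) hx) hx) ?_ hxy
    rw [h1]
    exact add_mem (smul_mem_WW (h.a'.RH (QQ_le h2)) hy) hy
  have hrW : ∀ x ∈ WW V H R, r • x = x := by
    apply h.K.trivH r (hAH hr)
    intro x hx
    obtain ⟨s, hs, hsx⟩ := hm.surj w hw x (hWE hx)
    exact h.K.co_eq_of_add h.amb.two (smul_mem_WW (hAH hr) hx) hx (key x hx s hs hsx).1
  refine ⟨fun s hs hsy => ?_, fun s hs hsw => ?_⟩
  · rw [s_uniq h.amb.two hm hw hs hr hyE hsy hry]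
    have h2 : r ∈ A ⊓ CW V H R := ⟨hr, hrW⟩
    rw [Amal.inf_CW' h.a h.amb hA hAH] at h2
    exact h2.2
  · obtain ⟨x, hx, f, hf, hxf⟩ := AddSubgroup.mem_sup.1 hsw
    have h4 : s • w + w + x ∈ fx V A := by
      rw [← hxf]
      have e : x + f + x = (x + x) + f := by abel
      rw [e, h.amb.two, zero_add]
      exact hf
    have h5 := (key x hx s hs h4).2
    rw [hrW x hx, h.amb.two] at h5
    exact (HE.add_eq_zero' h.amb.two).1 h5.symm

/-- **(e)**, `S_X ≤ K` -/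
theorem e_SK (p : PrsS V H R co) {A : Subgroup Y} (hA : A ∈ U) (hAH : A ≤ H) (hO : OppS V M H R co A)
    (hE : WW V H' R ≤ Ee V A) (w : V) (hw : w ∉ Ee V A) (s : Y) (hs : s ∈ A)
    (h1 : s • w + w ∈ WW V H R ⊔ WW V H' R ⊔ fx V A) : s ∈ QQ H R ∧ s ∈ QQ H' R := by
  refine Amal.e_SK h.a h.a' h.amb h.we h.we' hA hAH hE hw (fun s hs h2 => h.pre hA hAH w hw s hs h2)
    (fun s hs h2 y hy => (h.gg p hA hAH hO hw hy (hE hy)).2 s hs h2) ?_ s hs h1
  intro σ h2 h3 h4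
  refine h.K'.htriv h.amb.two h.a'.RH (B := A ⊓ QQ H R) (inf_le_right.trans QQ_le)
    (ElAb.mono (Mem.elAb (h.amb.cls.mem A hA)) inf_le_left) ?_ h2 h3 h4
  exact (Amal.e_one h.a h.a' h.amb h.we h.we' hA hAH hE).1.le

/-- `A ≰ Q` for `A ≰ M` -/
theorem not_Q {A : Subgroup Y} (hAM : ¬ A ≤ M) : ¬ A ≤ QQ H R := fun h1 =>
  hAM (h1.trans (QQ_le.trans (h.a.RT.trans h.amb.TM)))

/-- **(e)**: `|K| ≥ 4`, `|A| ≤ |K|²`, `|A| ≥ 16` -/
theorem e_card (p : PrsS V H R co) {A : Subgroup Y} (hA : A ∈ U) (hAH : A ≤ H) (hO : OppS V M H R co A)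
    (hE : WW V H' R ≤ Ee V A) : 4 ≤ Nat.card ↥(A ⊓ QQ H R ⊓ QQ H' R) ∧
      Nat.card ↥(A ⊓ QQ H R ⊓ QQ H' R) ^ 2 ≥ Nat.card A ∧ 16 ≤ Nat.card A := by
  obtain ⟨w, hw⟩ := (h.amb.cls.mem A hA).ne
  exact Amal.e_card h.a h.a' h.amb h.we h.we' hA hAH hE hw (h.not_Q hO.1) (h.star hA hAH hO.1)
    (h.e_SK p hA hAH hO hE w hw)

/-- **(e)**: `C_V(K) = W + W' + F_A` -/
theorem e_CK (p : PrsS V H R co) {A : Subgroup Y} (hA : A ∈ U) (hAH : A ≤ H) (hO : OppS V M H R co A)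
    (hE : WW V H' R ≤ Ee V A) : fx V (A ⊓ QQ H R ⊓ QQ H' R) = WW V H R ⊔ WW V H' R ⊔ fx V A := by
  obtain ⟨w, hw⟩ := (h.amb.cls.mem A hA).ne
  exact Amal.e_CK h.a h.a' h.amb h.we h.we' hA hAH hE hw (h.not_Q hO.1) (h.star hA hAH hO.1)
    (h.e_SK p hA hAH hO hE w hw)

/-- **(e)**: `B₁ = A ∩ Q` acts on `W'` by disjoint transpositions, each of them in `B₁` -/
theorem e_exact {A : Subgroup Y} (hA : A ∈ U) (hAH : A ≤ H) (hAM : ¬ A ≤ M) (hE : WW V H' R ≤ Ee V A) :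
    (∀ b ∈ A ⊓ QQ H R, TrD V H' R co' b) ∧ ∀ b ∈ A ⊓ QQ H R,
      ∃ τ : Fin k → Equiv.Perm (Fin (2 ^ m + 1)), ActS V H' R co' b 1 τ ∧ ∀ i x, τ i x ≠ x → τ i (τ i x) = x ∧
        ∃ b' ∈ A ⊓ QQ H R, ActS V H' R co' b' 1 (Function.update 1 i (Equiv.swap x (τ i x))) :=
  h.K'.off (A ⊓ QQ H R) (inf_le_right.trans QQ_le) (ElAb.mono (Mem.elAb (h.amb.cls.mem A hA)) inf_le_left)
    (h.star hA hAH hAM) (Amal.e_one h.a h.a' h.amb h.we h.we' hA hAH hE).1.le

end TwoS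

end Cfsg.Agent.Omega.NO1.TH.K
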