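import Cfsg.Agent.Omega.NO1.TH.K.Def

/-!
# N1, the amalgam `(H, H^t)`, `S_n` type with `k` factors (bb OMEGA 21203, 21465): the hypotheses

`W = WW V H R`, `Q = QQ H R`, `W / D₀` the direct sum of `k` modules of even subsets of `2 ^ m + 1` letters,
`co : V → Fin k → Fin (2 ^ m + 1) → ZMod 2` the coordinates (meaningful on `W` only), `D₀ = {w ∈ W | co w = 0}`.
Mirror of `K/Def.lean` (helper2).
-/

set_option autoImplicit false
set_option linter.unusedSectionVars false
set_option linter.dupNamespace false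

namespace Cfsg.Agent.Omega.NO1.TH.K

open Subgroup Cfsg.Agent.Omega.NO1.AB Cfsg.Agent.Omega.FFBr
open scoped Pointwise

universe u

variable {Y : Type u} [Group Y]

/-- `g` acts on `W` as `(σ, τ)` in the coordinates. -/
def ActS (V : Type u) [AddCommGroup V] [DistribMulAction Y V] (H R : Subgroup Y) {k n : ℕ}
    (co : V → Fin k → Fin n → ZMod 2) (g : Y) (σ : Equiv.Perm (Fin k)) (τ : Fin k → Equiv.Perm (Fin n)) : Prop :=
  ∀ v ∈ WW V H R, ∀ i x, co (g • v) (σ i) (τ i x) = co v i x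

/-- `g` is trivial on `D₀ = {co = 0}` -/
def TrD (V : Type u) [AddCommGroup V] [DistribMulAction Y V] (H R : Subgroup Y) {k n : ℕ}
    (co : V → Fin k → Fin n → ZMod 2) (g : Y) : Prop :=
  ∀ d ∈ WW V H R, co d = 0 → g • d = d

/-- `W / D₀` is the sum of `k` even-subset modules of `S_{2^m+1}` for `H`. -/
structure KSym (V : Type u) [AddCommGroup V] [DistribMulAction Y V] (H R : Subgroup Y) (k m : ℕ)
    (co : V → Fin k → Fin (2 ^ m + 1) → ZMod 2) : Prop where
  kpos : 0 < k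
  two_le : 2 ≤ m
  add : ∀ v ∈ WW V H R, ∀ w ∈ WW V H R, co (v + w) = co v + co w
  even : ∀ v ∈ WW V H R, ∀ i, ∑ x, co v i x = 0
  surj : ∀ y : Fin k → Fin (2 ^ m + 1) → ZMod 2, (∀ i, ∑ x, y i x = 0) → ∃ v ∈ WW V H R, co v = y
  lift : ∀ τ : Fin k → Equiv.Perm (Fin (2 ^ m + 1)), ∃ g ∈ H, ActS V H R co g 1 τ ∧ TrD V H R co g
  perm : ∀ g ∈ H, ∃ σ τ, ActS V H R co g σ τ
  trans : ∀ i j, ∃ r ∈ R, ∃ σ τ, ActS V H R co r σ τ ∧ σ i = j
  fix0 : ∀ r ∈ R, ∀ σ τ, ActS V H R co r σ τ → ∀ i, τ i 0 = 0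
  gen : ∀ K : Subgroup Y, R ≤ K → K ≤ H →
    (∀ h ∈ H, ∀ τ, ActS V H R co h 1 τ → TrD V H R co h → h ∈ K) → K = H
  off : ∀ A ≤ R, ElAb A → ¬ A ≤ QQ H R →
    Nat.card ↥(A ⊓ QQ H R) * Nat.card ↥(WW V H R) ≤ Nat.card A * Nat.card ↥(fx V A ⊓ WW V H R) →
      (∀ a ∈ A, TrD V H R co a) ∧
        ∀ a ∈ A, ∃ τ : Fin k → Equiv.Perm (Fin (2 ^ m + 1)), ActS V H R co a 1 τ ∧
          ∀ i x, τ i x ≠ x → τ i (τ i x) = x ∧
            ∃ b ∈ A, ActS V H R co b 1 (Function.update 1 i (Equiv.swap x (τ i x)))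
  noOver : ∀ A ≤ R, ElAb A → Nat.card A * Nat.card ↥(fx V A ⊓ WW V H R) ≤
    Nat.card ↥(A ⊓ QQ H R) * Nat.card ↥(WW V H R)
  triv : ∀ r ∈ R, (∀ w ∈ WW V H R, co (r • w + w) = 0) → r ∈ QQ H R
  trivH : ∀ x ∈ H, (∀ w ∈ WW V H R, co (x • w) = co w) → ∀ w ∈ WW V H R, x • w = w

variable {V : Type u} [AddCommGroup V] [DistribMulAction Y V]

/-! ### Derivation from `AbsSym` -/

section derive

variable {H R : Subgroup Y} {k n : ℕ}

open Classical in
/-- the coordinates -/
noncomputable def coS (e : Wm V H R → Fin k → Fin n → ZMod 2) (v : V) : Fin k → Fin n → ZMod 2 :=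
  if h : v ∈ WW V H R then e (Multiplicative.ofAdd ⟨v, h⟩) else 0

theorem coS_vl (e : Wm V H R → Fin k → Fin n → ZMod 2) (m : Wm V H R) : coS e (vl V H R m) = e m := by
  unfold coS
  rw [dif_pos (vl_mem m)]
  congr 1

theorem coS_smul (e : Wm V H R → Fin k → Fin n → ZMod 2) {g : Y} (hg : g ∈ H) (m : Wm V H R) :
    coS e (g • vl V H R m) = e (pr V H R ⟨g, hg⟩ • m) := by
  rw [← coS_vl e, vl_smul]

theorem actS_iff (e : Wm V H R → Fin k → Fin n → ZMod 2) {g : Y} (hg : g ∈ H) (σ : Equiv.Perm (Fin k))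
    (τ : Fin k → Equiv.Perm (Fin n)) : ActS V H R (coS e) g σ τ ↔ AActsSym e (pr V H R ⟨g, hg⟩) σ τ := by
  constructor
  · intro h1 m i x
    have h3 := h1 _ (vl_mem m) i x
    rwa [coS_vl, coS_smul e hg] at h3
  · intro h1 v hv i x
    obtain ⟨m, rfl⟩ := exists_vl hv
    rw [coS_smul e hg, coS_vl]
    exact h1 m i x

theorem trD_iff (e : Wm V H R → Fin k → Fin n → ZMod 2)
    (hker : ∀ v, e v = 0 ↔ v ∈ odd (XH V H R) (Wm V H R)) {g : Y} (hg : g ∈ H) :
    TrD V H R (coS e) g ↔ ∀ d ∈ odd (XH V H R) (Wm V H R), pr V H R ⟨g, hg⟩ • d = d := by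
  constructor
  · intro h2 d hd
    rw [pr_fix]
    exact h2 _ (vl_mem d) (by rw [coS_vl]; exact (hker d).2 hd)
  · intro h2 d hd h0
    obtain ⟨m, rfl⟩ := exists_vl hd
    rw [coS_vl] at h0
    exact pr_fix.1 (h2 m ((hker m).1 h0))

variable {m : ℕ}

/-- an element of odd order which is trivial on `V / D` and on `D` is trivial -/
theorem absSym_triv {X V' : Type*} [Group X] [Group V'] [MulDistribMulAction X V'] {T' : Subgroup X}
    (hc : ∀ v w : V', v * w = w * v) (hs : ∀ v : V', v * v = 1) (hf : ∀ x : X, (∀ v : V', x • v = v) → x = 1)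
    (N : AbsSym T' V' k m) {x : X} (hx : ∀ v, N.e (x • v) = N.e v) (ho : Odd (orderOf x)) : x = 1 := by
  have h1 : ∀ v : V', x • v * v ∈ odd X V' := by
    intro v
    rw [← N.ker, N.mul, hx, ← N.mul, hs, N.ker]
    exact (odd X V').one_mem
  have h2 : x * x = 1 := by
    apply hf
    intro v
    have h3 := h1 v x ho
    rw [smul_mul', ← mul_smul] at h3
    rw [hc (x • v) v] at h3
    exact mul_right_cancel h3
  have h4 : orderOf x ∣ 2 := orderOf_dvd_of_pow_eq_one (by rw [pow_two, h2])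
  rcases (Nat.dvd_prime Nat.prime_two).1 h4 with h5 | h5
  · exact orderOf_eq_one_iff.1 h5
  · rw [h5] at ho
    exact absurd ho (by decide)

/-- the elements trivial on `V / D` form a normal 2-subgroup -/
theorem absSym_core {X V' : Type*} [Group X] [Finite X] [Group V'] [MulDistribMulAction X V'] {T' : Subgroup X}
    (hc : ∀ v w : V', v * w = w * v) (hs : ∀ v : V', v * v = 1) (hf : ∀ x : X, (∀ v : V', x • v = v) → x = 1)
    (hcore : ∀ N : Subgroup X, N.Normal → IsPGroup 2 N → N = ⊥)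
    (N : AbsSym T' V' k m) {x : X} (hx : ∀ v, N.e (x • v) = N.e v) : x = 1 := by
  let N' : Subgroup X :=
    { carrier := {x | ∀ v, N.e (x • v) = N.e v}
      one_mem' := fun v => by rw [one_smul]
      mul_mem' := fun {x y} hx hy v => by rw [mul_smul, hx, hy]
      inv_mem' := fun {x} hx v => by rw [← hx (x⁻¹ • v), smul_inv_smul] }
  have hN' : ∀ y, y ∈ N' ↔ ∀ v, N.e (y • v) = N.e v := fun y => Iff.rfl
  have h1 : N' = ⊥ := by
    apply hcore
    · refine ⟨fun n hn g v => ?_⟩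
      have h2 : N.e ((n • g⁻¹ • v) * (g⁻¹ • v)) = 0 := by
        rw [N.mul, hn (g⁻¹ • v), ← N.mul, hs, N.ker]
        exact (odd X V').one_mem
      obtain ⟨σ, τ, hσ⟩ := N.perm g
      have h3 : N.e (g • ((n • g⁻¹ • v) * (g⁻¹ • v))) = 0 := by
        funext i x
        have h4 := hσ ((n • g⁻¹ • v) * (g⁻¹ • v)) (σ.symm i) ((τ (σ.symm i)).symm x)
        rw [Equiv.apply_symm_apply, Equiv.apply_symm_apply, h2] at h4
        exact h4
      rw [smul_mul', smul_inv_smul, N.mul, ← mul_smul, ← mul_smul] at h3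
      have h5 : N.e v + N.e v = 0 := by
        rw [← N.mul, hs, N.ker]
        exact (odd X V').one_mem
      exact (add_left_injective (N.e v)) (h3.trans h5.symm)
    · rw [IsPGroup.iff_orderOf]
      intro y
      have hpos : 0 < orderOf (y : X) := orderOf_pos _
      obtain ⟨n, m, hm, hnm⟩ := Nat.exists_eq_two_pow_mul_odd hpos.ne'
      have h2 : ((y : X) ^ 2 ^ n) = 1 := by
        apply absSym_triv hc hs hf N (x := (y : X) ^ 2 ^ n)
        · exact (N'.pow_mem y.2 _)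
        · rw [orderOf_pow' _ (by positivity), hnm, Nat.gcd_eq_right (Dvd.intro _ rfl),
            Nat.mul_div_cancel_left _ (by positivity)]
          exact hm
      obtain ⟨j, _, hj⟩ := (Nat.dvd_prime_pow Nat.prime_two).1 (orderOf_dvd_of_pow_eq_one h2)
      exact ⟨j, by rw [← hj, Subgroup.orderOf_coe]⟩
  have h2 : x ∈ N' := hx
  rw [h1, mem_bot] at h2
  exact h2

end derive

/-- **`KSym` from `AbsSym`** -/
theorem KSym.of_abs {k m : ℕ} [Finite Y] [Finite V] {U : Set (Subgroup Y)} {T : Sylow 2 Y}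
    {M H R : Subgroup Y} {t : Y} (amb : Amb V U T M) (a : Amal U T M H R t) {P : Sylow 2 (XH V H R)}
    {M₁ : Subgroup (XH V H R)} (hA : Abs (XH V H R) (Wm V H R) P M₁)
    (hP : ∀ x : XH V H R, x ∈ P ↔ ∃ r : H, (r : Y) ∈ R ∧ pr V H R r = x) (hno : ANoOver (XH V H R) (Wm V H R))
    (hk : 0 < k) (hm : 2 ≤ m)
    (N : AbsSym (P : Subgroup (XH V H R)) (Wm V H R) k m) : KSym V H R k m (coS N.e) := by
  have hcomm : ∀ {A : Subgroup Y}, A ≤ R → ElAb A →
      (∀ x ∈ (A.subgroupOf H).map (pr V H R), ∀ y ∈ (A.subgroupOf H).map (pr V H R), x * y = y * x) ∧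
        ∀ x ∈ (A.subgroupOf H).map (pr V H R), x * x = 1 := by
    intro A _ hel
    refine ⟨?_, ?_⟩
    · rintro _ ⟨x, hx, rfl⟩ _ ⟨y, hy, rfl⟩
      rw [← map_mul, ← map_mul]
      congr 1
      exact Subtype.ext (hel.1 x hx y hy)
    · rintro _ ⟨x, hx, rfl⟩
      rw [← map_mul]
      have : x * x = 1 := Subtype.ext (hel.2 x hx)
      rw [this, map_one]
  have htrD := fun {g : Y} (hg : g ∈ H) => trD_iff (n := 2 ^ m + 1) N.e N.ker hg
  refine
    { kpos := hk
      two_le := hm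
      add := fun v hv w hw => ?_
      even := fun v hv i => ?_
      surj := fun x hx => ?_
      lift := fun τ => ?_
      perm := fun g hg => ?_
      trans := fun i j => ?_
      fix0 := fun r hr σ τ hστ i => ?_
      gen := fun K hRK hKH hK => ?_
      off := fun A hAR hel hAQ hle => ?_
      noOver := fun A hAR hel => ?_
      triv := fun r hr hrw => ?_
      trivH := fun x hx hxw w hw => ?_ }
  · obtain ⟨m, rfl⟩ := exists_vl hv
    obtain ⟨n, rfl⟩ := exists_vl hw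
    rw [← vl_mul, coS_vl, coS_vl, coS_vl, N.mul]
  · obtain ⟨m, rfl⟩ := exists_vl hv
    rw [coS_vl]
    exact N.even m i
  · obtain ⟨m, hm⟩ := N.surj x hx
    exact ⟨_, vl_mem m, by rw [coS_vl, hm]⟩
  · obtain ⟨g, hg, hgd⟩ := N.lift τ
    obtain ⟨y, rfl⟩ := pr_surjective V H R g
    exact ⟨y, y.2, (actS_iff N.e y.2 1 τ).2 hg, (htrD y.2).2 hgd⟩
  · obtain ⟨σ, τ, hσ⟩ := N.perm (pr V H R ⟨g, hg⟩)
    exact ⟨σ, τ, (actS_iff N.e hg σ τ).2 hσ⟩
  · obtain ⟨x, hx, σ, τ, hστ, hij⟩ := N.trans i j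
    obtain ⟨r, hr, rfl⟩ := (hP x).1 hx
    exact ⟨r, hr, σ, τ, (actS_iff N.e r.2 σ τ).2 hστ, hij⟩
  · exact N.fix0 (pr V H R ⟨r, a.RH hr⟩) ((hP _).2 ⟨_, hr, rfl⟩) σ τ ((actS_iff N.e (a.RH hr) σ τ).1 hστ) i
  · have h1 : (K.subgroupOf H).map (pr V H R) = ⊤ := by
      apply N.gen
      · intro x hx
        obtain ⟨r, hr, rfl⟩ := (hP x).1 hx
        exact ⟨r, hRK hr, rfl⟩
      · intro x τ hx hxd
        obtain ⟨y, rfl⟩ := pr_surjective V H R x
        exact ⟨y, hK y y.2 τ ((actS_iff N.e y.2 1 τ).2 hx) ((htrD y.2).2 hxd), rfl⟩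
    apply le_antisymm hKH
    intro x hx
    have h2 : pr V H R ⟨x, hx⟩ ∈ (K.subgroupOf H).map (pr V H R) := by rw [h1]; exact mem_top _
    obtain ⟨y, hy, hyx⟩ := h2
    have h3 : pr V H R (y⁻¹ * ⟨x, hx⟩) = 1 := by rw [map_mul, map_inv, hyx, inv_mul_cancel]
    rw [pr_eq_one] at h3
    have h4 := hK ((y : Y)⁻¹ * x) (H.mul_mem (H.inv_mem y.2) hx) 1
      (fun v hv i x => by
        have h5 := h3 v hv
        simp only [Subgroup.coe_mul, Subgroup.coe_inv] at h5
        rw [h5]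
        rfl)
      (fun d hd _ => h3 d hd)
    have h5 := K.mul_mem (show (y : Y) ∈ K from hy) h4
    rwa [mul_inv_cancel_left] at h5
  · obtain ⟨hI1, hI2⟩ := N.off ((A.subgroupOf H).map (pr V H R)) (by
      rintro _ ⟨x, hx, rfl⟩
      exact (hP _).2 ⟨x, hAR hx, rfl⟩)
      { comm := (hcomm hAR hel).1
        sq := (hcomm hAR hel).2
        ne := by
          intro h1
          apply hAQ
          intro x hx
          rw [Amal.mem_QQ_iff a amb (hAR hx), ← pr_eq_one (x := ⟨x, a.RH (hAR hx)⟩), ← mem_bot, ← h1]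
          exact ⟨_, hx, rfl⟩
        le := by
          have h2 := card_mapSub amb a hAR
          have h3 := card_cv (V := V) (R := R) (hAR.trans a.RH)
          rw [inf_comm (fx V A), ← h2, ← h3] at hle
          have h4 : 0 < Nat.card ↥(A ⊓ QQ H R) := Nat.card_pos
          have h5 : 0 < Nat.card ↥(WW V H R ⊓ fx V A) := Nat.card_pos
          apply Nat.le_of_mul_le_mul_right _ (Nat.mul_pos h4 h5)
          calc _ = Nat.card ↥(A ⊓ QQ H R) * ((ClassTwoFusion.Quad.cv (Wm V H R)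
                (((A.subgroupOf H).map (pr V H R) : Subgroup (XH V H R)) : Set (XH V H R))).index *
                  Nat.card ↥(WW V H R ⊓ fx V A)) := by ring
            _ ≤ _ := hle
            _ = _ := by ring }
    refine ⟨fun x hx => (htrD (a.RH (hAR hx))).2 (hI1 (pr V H R ⟨x, a.RH (hAR hx)⟩) ⟨_, hx, rfl⟩),
      fun x hx => ?_⟩
    obtain ⟨τ, hτ, hτ2⟩ := hI2 (pr V H R ⟨x, a.RH (hAR hx)⟩) ⟨_, hx, rfl⟩
    refine ⟨τ, (actS_iff N.e _ 1 τ).2 hτ, fun i y hy => ?_⟩
    obtain ⟨h1, _, ⟨b, hb, rfl⟩, hb2⟩ := hτ2 i y hy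
    exact ⟨h1, b, hb, (actS_iff N.e b.2 _ _).2 hb2⟩
  · have h1 := hno ((A.subgroupOf H).map (pr V H R)) (hcomm hAR hel).1 (hcomm hAR hel).2
    have h2 := card_mapSub amb a hAR
    have h3 := card_cv (V := V) (R := R) (hAR.trans a.RH)
    rw [inf_comm (fx V A), ← h2, ← h3]
    calc _ = Nat.card ↥((A.subgroupOf H).map (pr V H R)) *
          (Nat.card ↥(A ⊓ QQ H R) * Nat.card ↥(WW V H R ⊓ fx V A)) := mul_assoc _ _ _
      _ ≤ _ := Nat.mul_le_mul_right _ h1
      _ = _ := by ring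
  · rw [Amal.mem_QQ_iff a amb hr, ← pr_eq_one (x := ⟨r, a.RH hr⟩)]
    apply absSym_core hA.comm hA.sq hA.faith hA.core N
    intro m
    have h1 := hrw _ (vl_mem m)
    have h2 : (r : Y) • vl V H R m + vl V H R m = vl V H R ((pr V H R ⟨r, a.RH hr⟩ • m) * m) := by
      rw [vl_mul, vl_smul]
    rw [h2, coS_vl, N.mul] at h1
    have h5 : N.e m + N.e m = 0 := by
      rw [← N.mul, hA.sq, N.ker]
      exact (odd _ _).one_mem
    exact (add_left_injective (N.e m)) (h1.trans h5.symm)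
  · have h1 : pr V H R ⟨x, hx⟩ = 1 := by
      apply absSym_core hA.comm hA.sq hA.faith hA.core N
      intro m
      rw [← coS_smul N.e hx, hxw _ (vl_mem m), coS_vl]
    exact pr_eq_one.1 h1 w hw

/-! ### Transport -/

section transport

variable {H R : Subgroup Y} {k n : ℕ}

theorem actS_conj {co : V → Fin k → Fin n → ZMod 2} {t : Y} {g : Y} {σ : Equiv.Perm (Fin k)}
    {τ : Fin k → Equiv.Perm (Fin n)} :
    ActS V (MulAut.conj t • H) (MulAut.conj t • R) (fun v => co (t⁻¹ • v)) g σ τ ↔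
      ActS V H R co (t⁻¹ * g * t) σ τ := by
  have hW : WW V (MulAut.conj t • H) (MulAut.conj t • R) = t • WW V H R := WW_conj' t
  constructor
  · intro h1 v hv i x
    have h3 := h1 (t • v) (by rw [hW]; exact smul_mem_smul_as hv) i x
    simp only [hsm'', inv_smul_smul] at h3
    exact h3
  · intro h1 v hv i x
    rw [hW, mem_smul_as] at hv
    have h3 := h1 _ hv i x
    simp only [hsm']
    exact h3

theorem trD_conj {co : V → Fin k → Fin n → ZMod 2} {t : Y} {g : Y} :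
    TrD V (MulAut.conj t • H) (MulAut.conj t • R) (fun v => co (t⁻¹ • v)) g ↔ TrD V H R co (t⁻¹ * g * t) := by
  have hW : WW V (MulAut.conj t • H) (MulAut.conj t • R) = t • WW V H R := WW_conj' t
  constructor
  · intro h2 d hd h0
    have h3 := h2 (t • d) (by rw [hW]; exact smul_mem_smul_as hd) (by simp only [inv_smul_smul]; exact h0)
    rw [mul_smul, mul_smul, h3, inv_smul_smul]
  · intro h2 d hd h0
    rw [hW, mem_smul_as] at hd
    have h3 := h2 _ hd h0
    rwa [← hsm', smul_left_cancel_iff] at h3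

variable {m : ℕ} {co : V → Fin k → Fin (2 ^ m + 1) → ZMod 2}

/-- transport with an arbitrary element -/
theorem KSym.conj [Finite Y] (K : KSym V H R k m co) (t : Y) :
    KSym V (MulAut.conj t • H) (MulAut.conj t • R) k m (fun v => co (t⁻¹ • v)) := by
  have hQ : QQ (MulAut.conj t • H) (MulAut.conj t • R) = MulAut.conj t • QQ H R := QQ_conj' t
  have hW : WW V (MulAut.conj t • H) (MulAut.conj t • R) = t • WW V H R := WW_conj' t
  have hle : ∀ {A K : Subgroup Y}, MulAut.conj t⁻¹ • A ≤ K ↔ A ≤ MulAut.conj t • K := by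
    intro A K
    rw [conj_le_iff, inv_inv]
  have hback : ∀ r : Y, t⁻¹ * (t * r * t⁻¹) * t = r := fun r => by group
  refine
    { kpos := K.kpos
      two_le := K.two_le
      add := fun v hv w hw => ?_
      even := fun v hv i => ?_
      surj := fun x hx => ?_
      lift := fun τ => ?_
      perm := fun g hg => ?_
      trans := fun i j => ?_
      fix0 := fun r hr σ τ hστ i => ?_
      gen := fun L hRL hLH hL => ?_
      off := fun A hAR hel hAQ h1 => ?_
      noOver := fun A hAR hel => ?_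
      triv := fun r hr hrw => ?_
      trivH := fun x hx hxw w hw => ?_ }
  · rw [hW, mem_smul_as] at hv hw
    simp only [smul_add]
    exact K.add _ hv _ hw
  · rw [hW, mem_smul_as] at hv
    exact K.even _ hv i
  · obtain ⟨v, hv, hx⟩ := K.surj x hx
    refine ⟨t • v, by rw [hW]; exact smul_mem_smul_as hv, ?_⟩
    simp only [inv_smul_smul]
    exact hx
  · obtain ⟨g, hg, hgA, hgd⟩ := K.lift τ
    refine ⟨t * g * t⁻¹, conj_mem_conj hg, ?_, ?_⟩
    · rw [actS_conj, hback]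
      exact hgA
    · rw [trD_conj, hback]
      exact hgd
  · rw [mem_conj] at hg
    obtain ⟨σ, τ, hσ⟩ := K.perm _ hg
    exact ⟨σ, τ, actS_conj.2 hσ⟩
  · obtain ⟨r, hr, σ, τ, hrs, hij⟩ := K.trans i j
    refine ⟨t * r * t⁻¹, conj_mem_conj hr, σ, τ, ?_, hij⟩
    rw [actS_conj, hback]
    exact hrs
  · rw [mem_conj] at hr
    exact K.fix0 _ hr σ τ (actS_conj.1 hστ) i
  · have h1 : MulAut.conj t⁻¹ • L = H := by
      apply K.gen
      · intro r hr
        rw [mem_conj, inv_inv]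
        exact hRL (conj_mem_conj hr)
      · rw [hle]
        exact hLH
      · intro h hh τ hhτ hhd
        rw [mem_conj, inv_inv]
        apply hL _ (conj_mem_conj hh) τ
        · rw [actS_conj, hback]
          exact hhτ
        · rw [trD_conj, hback]
          exact hhd
    rw [← h1, conj_inv_smul]
  · obtain ⟨hI1, hI2⟩ := K.off _ (hle.2 hAR) (hel.conj t⁻¹) (fun h2 => hAQ (by rw [hQ, ← hle]; exact h2)) (by
      rw [conj_card, card_inf_conj, card_fx_conj]
      rw [hQ, hW, card_smul_as] at h1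
      exact h1)
    refine ⟨fun x hx => ?_, fun x hx => ?_⟩
    · rw [trD_conj]
      apply hI1
      rw [mem_conj, inv_inv]
      have e : t * (t⁻¹ * x * t) * t⁻¹ = x := by group
      rwa [e]
    · obtain ⟨τ, hτ, hτ2⟩ := hI2 (t⁻¹ * x * t) (by
        rw [mem_conj, inv_inv]
        have e : t * (t⁻¹ * x * t) * t⁻¹ = x := by group
        rwa [e])
      refine ⟨τ, actS_conj.2 hτ, fun i y hy => ?_⟩
      obtain ⟨h2, b, hb, hb2⟩ := hτ2 i y hy
      rw [mem_conj, inv_inv] at hb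
      refine ⟨h2, _, hb, ?_⟩
      rw [actS_conj, hback]
      exact hb2
  · have h1 := K.noOver _ (hle.2 hAR) (hel.conj t⁻¹)
    rw [conj_card, card_inf_conj, card_fx_conj] at h1
    rw [hQ, hW, card_smul_as]
    exact h1
  · rw [mem_conj] at hr
    rw [hQ, mem_conj]
    apply K.triv _ hr
    intro w hw
    have h3 := hrw (t • w) (by rw [hW]; exact smul_mem_smul_as hw)
    simp only [smul_add, hsm'', inv_smul_smul] at h3
    exact h3
  · rw [mem_conj] at hx
    rw [hW, mem_smul_as] at hw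
    have h3 := K.trivH _ hx (fun w hw => by
      have h4 := hxw (t • w) (by rw [hW]; exact smul_mem_smul_as hw)
      simp only [hsm'', inv_smul_smul] at h4
      exact h4) _ hw
    rwa [← hsm', smul_left_cancel_iff] at h3

/-- transport with `t` -/
theorem KSym.conj_t [Finite Y] {U : Set (Subgroup Y)} {T : Sylow 2 Y} {M : Subgroup Y} {t : Y}
    (a : Amal U T M H R t) (K : KSym V H R k m co) :
    KSym V (MulAut.conj t • H) R k m (fun v => co (t⁻¹ • v)) := by
  have h1 := K.conj t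
  rwa [conj_of_mem a.t_norm] at h1

end transport

/-- Both sides of the amalgam, `H' = H^t`; `WE` : no member in `R` of type ALPHA (#20114). -/
structure TwoS (V : Type u) [AddCommGroup V] [DistribMulAction Y V] (U : Set (Subgroup Y)) (T : Sylow 2 Y)
    (M H H' R : Subgroup Y) (k m : ℕ) (co co' : V → Fin k → Fin (2 ^ m + 1) → ZMod 2) (t : Y) : Prop where
  amb : Amb V U T M
  a : Amal U T M H R t
  a' : Amal U T M H' R t
  K : KSym V H R k m co
  K' : KSym V H' R k m co'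
  H'_eq : H' = MulAut.conj t • H
  H_eq : H = MulAut.conj t • H'
  we : WE V U H R
  we' : WE V U H' R

theorem TwoS.swap {U : Set (Subgroup Y)} {T : Sylow 2 Y} {M H H' R : Subgroup Y} {k m : ℕ}
    {co co' : V → Fin k → Fin (2 ^ m + 1) → ZMod 2} {t : Y} (h : TwoS V U T M H H' R k m co co' t) :
    TwoS V U T M H' H R k m co' co t where
  amb := h.amb
  a := h.a'
  a' := h.a
  K := h.K'
  K' := h.K
  H'_eq := h.H_eq
  H_eq := h.H'_eq
  we := h.we'
  we' := h.we

theorem KSym.twoS [Finite Y] [Finite V] {U : Set (Subgroup Y)} {T : Sylow 2 Y} {M H R : Subgroup Y}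
    {k m : ℕ} {co : V → Fin k → Fin (2 ^ m + 1) → ZMod 2} {t : Y} (amb : Amb V U T M) (a : Amal U T M H R t)
    (K : KSym V H R k m co) (we : WE V U H R) :
    TwoS V U T M H (MulAut.conj t • H) R k m co (fun v => co (t⁻¹ • v)) t where
  amb := amb
  a := a
  a' := a.conj_t amb.cls amb.TM
  K := K
  K' := K.conj_t a
  H'_eq := rfl
  H_eq := by
    rw [conj_smul_smul]
    exact (conj_of_mem fun x hx => H.mul_mem (H.mul_mem (a.RH a.t_sq) hx) (H.inv_mem (a.RH a.t_sq))).symm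
  we := we
  we' := fun B hB hBR => by
    rw [WW_conj (fun v => a.smul_V0) fun v => a.smul_V0']
    exact a.tW_le_Ee amb we hB hBR

/-- `S_n` type of the FF theorem: `TwoS` -/
theorem exists_twoS [Finite Y] [Finite V] {U : Set (Subgroup Y)} {T : Sylow 2 Y} {M H R : Subgroup Y} {t : Y}
    (amb : Amb V U T M) (a : Amal U T M H R t) (we : WE V U H R) {P : Sylow 2 (XH V H R)} {M₁ : Subgroup (XH V H R)}
    (hA : Abs (XH V H R) (Wm V H R) P M₁)
    (hP : ∀ x : XH V H R, x ∈ P ↔ ∃ r : H, (r : Y) ∈ R ∧ pr V H R r = x) (hno : ANoOver (XH V H R) (Wm V H R))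
    {k m : ℕ} (hk : 0 < k) (hm : 2 ≤ m) (N : AbsSym (P : Subgroup (XH V H R)) (Wm V H R) k m) :
    ∃ co : V → Fin k → Fin (2 ^ m + 1) → ZMod 2,
      TwoS V U T M H (MulAut.conj t • H) R k m co (fun v => co (t⁻¹ • v)) t :=
  ⟨_, KSym.twoS amb a (KSym.of_abs amb a hA hP hno hk hm N) we⟩

end Cfsg.Agent.Omega.NO1.TH.K
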