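import Cfsg.Agent.Omega.NO1.TH.K.SDTwoB
import Cfsg.Agent.Omega.NO1.TH.K.SD
import Cfsg.Agent.Omega.NO1.TH.K.SPrs
import Cfsg.Agent.Omega.NO1.TH.K.SPts
import Cfsg.Agent.Omega.NO1.TH.Stmt

/-!
# N1, `S_n` type: case (d) is impossible (bb OMEGA 21465 (3), 21636)

`TwoS.false_of_D` : in a world, an opposite member `D ≤ H` has `W' ≤ E_D`.
-/

set_option autoImplicit false
set_option linter.unusedSectionVars false
set_option linter.dupNamespace false

namespace Cfsg.Agent.Omega.NO1.TH.K

open Subgroup Cfsg.Agent.Omega.NO1.AB Cfsg.Agent.Omega.FFBr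
open scoped Pointwise

universe u

variable {Y : Type u} [Group Y] {V : Type u} [AddCommGroup V] [DistribMulAction Y V] {U : Set (Subgroup Y)}
  {T : Sylow 2 Y} {M H H' R : Subgroup Y} {k m : ℕ} {co co' : V → Fin k → Fin (2 ^ m + 1) → ZMod 2} {t : Y}
  [Finite Y] [Finite V]

/-- all members have the same order -/
theorem Amb.card_eq (h : Amb V U T M) {A B : Subgroup Y} (hA : A ∈ U) (hB : B ∈ U) : Nat.card A = Nat.card B := by
  obtain ⟨y, hy⟩ := h.cls.eq A hA B hB
  rw [hy, conj_card]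

namespace TwoS

variable (h : TwoS V U T M H H' R k m co co' t)
include h

/-- the pair of a member outside `M` contains a letter `0` -/
theorem zero_letter {D : Subgroup Y} (hDH : D ≤ H) (hDM : ¬ D ≤ M) {b u : Y} {i : Fin k}
    {x y : Fin (2 ^ m + 1)} {f : V} (p : Pk V H R co D b u i x y f) : x = 0 ∨ y = 0 := by
  by_contra hcon
  push Not at hcon
  apply hDM
  have h1 := h.sw_mem_M (hDH p.uD) hcon.1 hcon.2 p.sw.act
  have h2 : b ∈ M := h.amb.TM (h.a.RT (QQ_le p.bQ))
  intro d hd
  rcases p.all d hd with rfl | rfl | rfl | rfl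
  · exact one_mem _
  · exact h2
  · exact h1
  · exact M.mul_mem h2 h1

/-- members of order 4 outside `M` are opposite -/
theorem oppS_of_four {D : Subgroup Y} (hD : D ∈ U) (hDH : D ≤ H) (hDM : ¬ D ≤ M) (c4 : Nat.card D = 4) :
    OppS V M H R co D := by
  have two := h.amb.two
  obtain ⟨b, u, i, x, y, f, p⟩ := h.exists_pk hD hDH c4 (h.not_Q hDM)
  have hE := Amal.WW_le_Ee h.a h.amb h.we hD hDH
  have key : ∀ v ∈ brk (WW V H R) D, v = 0 ∨ v = f := by
    intro v hv
    induction hv using AddSubgroup.closure_induction with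
    | mem v hv =>
      obtain ⟨w, hw, d, hd, rfl⟩ := hv
      rcases p.EE d hd w (hE hw) with h1 | h1
      · left; rw [h1, two]
      · right; exact h1
    | zero => exact Or.inl rfl
    | add a b _ _ h1 h2 =>
      rcases h1 with rfl | rfl <;> rcases h2 with rfl | rfl
      · left; rw [add_zero]
      · right; rw [zero_add]
      · right; rw [add_zero]
      · left; rw [two]
    | neg a _ h1 =>
      have e : -a = a := neg_eq_of_add_eq_zero_left (two a)
      rw [e]; exact h1
  refine ⟨hDM, fun v hv hc => ?_⟩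
  rcases key v hv with rfl | rfl
  · exact h.K.zeroD
  · exfalso
    -- the letter `x ≠ 0` of the pair `{x, 0}` has a partner
    have kk : ∀ {x : Fin (2 ^ m + 1)}, x ≠ 0 → co v = indi i x 0 → False := by
      intro x hx0 hco
      obtain ⟨z, hz⟩ := h.prs.partner i x hx0
      have h2 := hc i x z hz
      rw [hco] at h2
      unfold indi at h2
      rw [if_pos ⟨rfl, Or.inl rfl⟩] at h2
      have hz0 : z ≠ 0 := by
        obtain ⟨hxz, r, hr, hra, _⟩ := hz
        intro hz0
        subst hz0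
        have h3 := h.K.fix0 r hr _ _ hra i
        rw [Function.update_self, Equiv.swap_apply_right] at h3
        exact hx0 h3
      rw [if_neg (fun h3 => h3.2.elim (fun h4 => hz.1 h4.symm) hz0)] at h2
      exact one_ne_zero h2
    rcases h.zero_letter hDH hDM p with h1 | h1
    · subst h1
      exact kk p.sw.ne.symm (by rw [p.co_f, indi_comm])
    · subst h1
      exact kk p.sw.ne p.co_f

/-- **(d)** for all members of `H` outside `M` -/
theorem d_side (c4 : ∀ D ∈ U, Nat.card D = 4) (ind : ∀ D ∈ U, (Ee V D).index = 2) {D : Subgroup Y} (hD : D ∈ U)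
    (hDH : D ≤ H) (hDM : ¬ D ≤ M) :
    ¬ WW V H' R ≤ Ee V D ∧ ∃ b ∈ D, b ∈ QQ H R ∧ ∃ i x y, Sw V H' R co' b i x y := by
  have hO := h.oppS_of_four hD hDH hDM (c4 D hD)
  have hE : ¬ WW V H' R ≤ Ee V D := by
    intro h1
    have h2 := (h.e_card h.prs hD hDH hO h1).2.2
    have h3 := c4 D hD
    omega
  refine ⟨hE, ?_⟩
  have hp := h.K'.pts h.amb.two h.a'.RH
  obtain ⟨b, hb, _, _, _, _, _, h1⟩ := h.d hD hDH (h.not_Q hDM) hE (h.gg_d hD hDH hO) hp.le hp.gen hp.smul hp.ind
  obtain ⟨_, i, x, y, hxy, hact, _⟩ := h1 (ind D hD)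
  exact ⟨b, hb.1, hb.2, i, x, y, hxy, hact⟩

/-- **(d) is impossible** -/
theorem false_of_D {a : ℕ} (w : World V U T M a) {D : Subgroup Y} (hD : D ∈ U) (hDH : D ≤ H)
    (hO : OppS V M H R co D) (hE : ¬ WW V H' R ≤ Ee V D) : False := by
  have hp := h.K'.pts h.amb.two h.a'.RH
  obtain ⟨_, _, _, _, _, h4, _, _⟩ :=
    h.d hD hDH (h.not_Q hO.1) hE (h.gg_d hD hDH hO) hp.le hp.gen hp.smul hp.ind
  have c4 : ∀ B ∈ U, Nat.card B = 4 := fun B hB => by
    rw [← Amb.card_eq h.amb hD hB, h4]
  have ha : a = 2 := by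
    have h1 := w.pf D hD
    rw [h4] at h1
    have h2 := w.two_le
    have h3 : a ≤ 2 := by
      by_contra h5
      push Not at h5
      nlinarith
    omega
  have ind : ∀ B ∈ U, (Ee V B).index = 2 := fun B hB => by rw [w.ind B hB, ha]
  refine S4.false (V := V) (U := U) (T := T) (M := M) (H := H) (H' := H') (R := R) (co := co) (co' := co') (t := t)
    { s := h
      c4 := c4
      ind := ind
      noff := w.noff
      d := fun B hB hBH hBM => h.d_side c4 ind hB hBH hBM
      d' := fun B hB hBH hBM => h.swap.d_side c4 ind hB hBH hBM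
      ex := ⟨D, hD, hDH, hO.1⟩
      ex' := ⟨MulAut.conj t • D, h.amb.cls.conj D hD t, ?_, ?_⟩ }
  · rw [h.H'_eq]
    exact conj_le_conj t hDH
  · intro h1
    apply hO.1
    have htM : t ∈ M := h.amb.TM h.a.t_T
    intro d hd
    have h2 := M.mul_mem (M.mul_mem (M.inv_mem htM) (h1 (conj_mem_conj (g := t) hd))) htM
    have e : t⁻¹ * (t * d * t⁻¹) * t = d := by group
    rwa [e] at h2

/-- `W' ≤ E_D` for the opposite members -/
theorem le_of_opp {a : ℕ} (w : World V U T M a) {D : Subgroup Y} (hD : D ∈ U) (hDH : D ≤ H)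
    (hO : OppS V M H R co D) : WW V H' R ≤ Ee V D := by
  by_contra hE
  exact h.false_of_D w hD hDH hO hE

end TwoS

end Cfsg.Agent.Omega.NO1.TH.K
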