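import Cfsg.Agent.Omega.NO1.TH.K.SwT
import Cfsg.Agent.Omega.NO1.TH.LOneDef

/-!
# N1, `S_n` type, case (d), `a = 2`, `|U| = 4` (bb OMEGA 21636 (1)-(5), helper593)

`S4` : both sides of the amalgam, all members have order 4, `|V : E_B| = 2`, no offender, and for every member
`D ≤ H` (resp. `H'`) outside `M`: `W' ≰ E_D`, the element of `D ∩ Q` acts on `W'` as one transposition.
`S4.false` : this is impossible.
-/

set_option autoImplicit false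
set_option linter.unusedSectionVars false
set_option linter.dupNamespace false

namespace Cfsg.Agent.Omega.NO1.TH.K

open Subgroup Cfsg.Agent.Omega.NO1.AB Cfsg.Agent.Omega.FFBr
open scoped Pointwise

universe u

variable {Y : Type u} [Group Y]

/-- The data of one active member `D ≤ H` of order 4: `D = {1, b, u, bu}`, `b ∈ Q`, `u` acts on `W` as the
transposition `(x y)` of block `i`, `f` the vector of this pair, `[E_D, D] = {0, f}`. -/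
structure Pk (V : Type u) [AddCommGroup V] [DistribMulAction Y V] (H R : Subgroup Y) {k n : ℕ}
    (co : V → Fin k → Fin n → ZMod 2) (D : Subgroup Y) (b u : Y) (i : Fin k) (x y : Fin n) (f : V) : Prop where
  bD : b ∈ D
  bQ : b ∈ QQ H R
  b1 : b ≠ 1
  uD : u ∈ D
  sw : Sw V H R co u i x y
  all : ∀ d ∈ D, d = 1 ∨ d = b ∨ d = u ∨ d = b * u
  q : ∀ d ∈ D, d ∈ QQ H R → d = 1 ∨ d = b
  fW : f ∈ WW V H R
  co_f : co f = indi i x y
  ff : f ∈ fx V D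
  EE : ∀ d ∈ D, ∀ e ∈ Ee V D, d • e = e ∨ d • e + e = f

/-- The setting. -/
structure S4 (V : Type u) [AddCommGroup V] [DistribMulAction Y V] (U : Set (Subgroup Y)) (T : Sylow 2 Y)
    (M H H' R : Subgroup Y) (k m : ℕ) (co co' : V → Fin k → Fin (2 ^ m + 1) → ZMod 2) (t : Y) : Prop where
  s : TwoS V U T M H H' R k m co co' t
  c4 : ∀ D ∈ U, Nat.card D = 4
  ind : ∀ D ∈ U, (Ee V D).index = 2
  noff : ∀ A : Subgroup Y, (∀ x ∈ A, ∀ y ∈ A, x * y = y * x) → (∀ x ∈ A, x * x = 1) → A ≠ ⊥ →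
    Nat.card A < (fx V A).index
  d : ∀ D ∈ U, D ≤ H → ¬ D ≤ M → ¬ WW V H' R ≤ Ee V D ∧ ∃ b ∈ D, b ∈ QQ H R ∧ ∃ i x y, Sw V H' R co' b i x y
  d' : ∀ D ∈ U, D ≤ H' → ¬ D ≤ M → ¬ WW V H R ≤ Ee V D ∧ ∃ b ∈ D, b ∈ QQ H' R ∧ ∃ i x y, Sw V H R co b i x y
  ex : ∃ D ∈ U, D ≤ H ∧ ¬ D ≤ M
  ex' : ∃ D ∈ U, D ≤ H' ∧ ¬ D ≤ M

variable {V : Type u} [AddCommGroup V] [DistribMulAction Y V] {U : Set (Subgroup Y)} {T : Sylow 2 Y}
  {M H H' R : Subgroup Y} {k m : ℕ} {co co' : V → Fin k → Fin (2 ^ m + 1) → ZMod 2} {t : Y}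

theorem S4.swap (h : S4 V U T M H H' R k m co co' t) : S4 V U T M H' H R k m co' co t where
  s := h.s.swap
  c4 := h.c4
  ind := h.ind
  noff := h.noff
  d := h.d'
  d' := h.d
  ex := h.ex'
  ex' := h.ex

section side

variable [Finite Y] [Finite V] (h : TwoS V U T M H H' R k m co co' t)
include h

theorem TwoS.RH : R ≤ H := h.a.RH

theorem TwoS.qfix {q : Y} (hq : q ∈ QQ H R) {w : V} (hw : w ∈ WW V H R) : q • w = w :=
  Amal.QQ_fix h.a h.amb hq hw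

theorem TwoS.disj {r s : Y} (hr : r ∈ R) (hs : s ∈ R) {i : Fin k} {x y z : Fin (2 ^ m + 1)}
    (h1 : Sw V H R co r i x y) (h2 : Sw V H R co s i x z) : y = z :=
  h.K.sw_disjD h.a.RH h.a.R2 (fun _ hq _ hw => h.qfix hq hw) hr hs h1 h2

theorem Sw.not_QQ {u : Y} {i : Fin k} {x y : Fin (2 ^ m + 1)} (hu : Sw V H R co u i x y) : u ∉ QQ H R := by
  intro hq
  obtain ⟨v, hv, hne⟩ := h.K.exists_sepD i hu.ne
  exact hne (hu.co_of_fix hv (by rw [h.qfix hq hv]))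

/-- an active member contains a transposition -/
theorem TwoS.exists_sw {D : Subgroup Y} (hD : D ∈ U) (hDH : D ≤ H) (hDQ : ¬ D ≤ QQ H R) :
    ∃ u ∈ D, ∃ i x y, Sw V H R co u i x y := by
  obtain ⟨l, hl, hlU, hlR⟩ := Amal.exists_conj h.a h.amb hD hDH
  have hm := h.amb.cls.mem _ hlU
  have hnQ : ¬ MulAut.conj l • D ≤ QQ H R := by
    intro h1
    apply hDQ
    intro x hx
    have h2 := conj_mem_QQ (H.inv_mem hl) (h1 (conj_mem_conj (g := l) hx))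
    have e : l⁻¹ * (l * x * l⁻¹) * l⁻¹⁻¹ = x := by group
    rwa [e] at h2
  have hex := Amal.exact' h.a h.amb h.we hlU (hlR.trans h.a.RH)
  obtain ⟨_, h2⟩ := h.K.off _ hlR ⟨hm.comm, hm.sq⟩ hnQ (by
    rw [inf_comm (fx V _)]
    rw [mul_comm, hex])
  obtain ⟨a, ha, haQ⟩ := SetLike.not_le_iff_exists.1 hnQ
  obtain ⟨τ, hτ, hτ2⟩ := h2 a ha
  have hmove : ∃ i x, τ i x ≠ x := by
    by_contra hcon
    push Not at hcon
    apply haQ
    apply h.K.triv a (hlR ha)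
    intro w hw
    rw [h.K.add _ (smul_mem_WW (h.a.RH (hlR ha)) hw) _ hw]
    funext i x
    have h3 := hτ w hw i x
    rw [Equiv.Perm.one_apply, hcon i x] at h3
    rw [Pi.add_apply, Pi.add_apply, h3]
    exact zmodD_self _
  obtain ⟨i, x, hix⟩ := hmove
  obtain ⟨_, c, hc, hcs⟩ := hτ2 i x hix
  have hsw : Sw V H R co c i x (τ i x) := ⟨Ne.symm hix, hcs⟩
  obtain ⟨σ, ρ, hσ⟩ := h.K.perm _ (H.inv_mem hl)
  refine ⟨l⁻¹ * c * l, mem_conj.1 hc, σ i, ρ i x, ρ i (τ i x), ?_⟩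
  have h4 := hsw.conj (h.a.RH (hlR hc)) (H.inv_mem hl) hσ
  rwa [inv_inv] at h4

/-- the data of an active member -/
theorem TwoS.exists_pk_of {D : Subgroup Y} (hD : D ∈ U) (hDH : D ≤ H) (c4 : Nat.card D = 4) {u : Y} (hu : u ∈ D)
    {i : Fin k} {x y : Fin (2 ^ m + 1)} (hsw : Sw V H R co u i x y) : ∃ b f, Pk V H R co D b u i x y f := by
  have hm := h.amb.cls.mem _ hD
  have two := h.amb.two
  have hE := Amal.WW_le_Ee h.a h.amb h.we hD hDH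
  have huQ := Sw.not_QQ h hsw
  obtain ⟨b, hb, hb1⟩ : ∃ b ∈ D ⊓ QQ H R, b ≠ 1 := by
    by_contra hcon
    push Not at hcon
    apply Amal.ne_bot h.a h.amb h.we hD hDH
    rw [eq_bot_iff]
    intro b hb
    rw [mem_bot]
    exact hcon b hb
  have hu1 : u ≠ 1 := fun h1 => huQ (by rw [h1]; exact one_mem _)
  have hbu : b ≠ u := fun h1 => huQ (by rw [← h1]; exact hb.2)
  have hall : ∀ d ∈ D, d = 1 ∨ d = b ∨ d = u ∨ d = b * u := fun d hd =>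
    four_cases c4 hb.1 hu hb1 hu1 hbu (hm.sq b hb.1) hd
  obtain ⟨w, hw, hwne⟩ := h.K.exists_sepD i hsw.ne
  have huw : u • w ≠ w := fun h1 => hwne (hsw.co_of_fix hw (by rw [h1]))
  refine ⟨b, u • w + w, ⟨hb.1, hb.2, hb1, hu, hsw, hall, ?_, ?_, ?_, ?_, ?_⟩⟩
  · intro d hd hdQ
    rcases hall d hd with h1 | h1 | h1 | h1
    · exact Or.inl h1
    · exact Or.inr h1
    · exact absurd (by rw [← h1]; exact hdQ) huQ
    · exfalso
      apply huQ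
      have h2 := (QQ H R).mul_mem ((QQ H R).inv_mem hb.2) hdQ
      rwa [h1, inv_mul_cancel_left] at h2
  · exact add_mem (smul_mem_WW (hDH hu) hw) hw
  · exact h.K.co_swD hsw (hDH hu) hw hwne
  · exact hm.EB u hu w (hE hw)
  · intro d hd e he
    by_cases h1 : d • e = e
    · exact Or.inl h1
    · exact Or.inr (four_eq hm two c4 hd hu he (hE hw) h1 huw)

theorem TwoS.exists_pk {D : Subgroup Y} (hD : D ∈ U) (hDH : D ≤ H) (c4 : Nat.card D = 4) (hDQ : ¬ D ≤ QQ H R) :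
    ∃ b u i x y f, Pk V H R co D b u i x y f := by
  obtain ⟨u, hu, i, x, y, hsw⟩ := h.exists_sw hD hDH hDQ
  obtain ⟨b, f, hp⟩ := h.exists_pk_of hD hDH c4 hu hsw
  exact ⟨b, u, i, x, y, f, hp⟩

namespace Pk

variable {D : Subgroup Y} {b u : Y} {i : Fin k} {x y : Fin (2 ^ m + 1)} {f : V} (hD : D ∈ U) (hDH : D ≤ H)
  (p : Pk V H R co D b u i x y f)
include hD hDH p

theorem symm : Pk V H R co D b u i y x f :=
  { p with
    sw := p.sw.symm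
    co_f := by rw [p.co_f, indi_comm] }

/-- an element acting as `(x y)`: its commutators -/
theorem comm_eq {g : Y} (hg : g ∈ H) (hsw : Sw V H R co g i x y) {w : V} (hw : w ∈ WW V H R)
    (hne : co w i x ≠ co w i y) : g • w + w = f := by
  have hE := Amal.WW_le_Ee h.a h.amb h.we hD hDH
  rw [h.K.sw_smulD hg (hDH p.uD) hsw p.sw hw]
  rcases p.EE u p.uD w (hE hw) with h1 | h1
  · exact absurd (p.sw.co_of_fix hw (by rw [h1])) hne
  · exact h1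

theorem fix_of {g : Y} (hg : g ∈ H) (hsw : Sw V H R co g i x y) {w : V} (hw : w ∈ WW V H R)
    (he : co w i x = co w i y) : g • w = w := by
  have hE := Amal.WW_le_Ee h.a h.amb h.we hD hDH
  rw [h.K.sw_smulD hg (hDH p.uD) hsw p.sw hw]
  rcases p.EE u p.uD w (hE hw) with h1 | h1
  · exact h1
  · exfalso
    have h2 : co (u • w + w) = 0 := by
      rw [h.K.add _ (smul_mem_WW (hDH p.uD) hw) _ hw, p.sw.co_same hw he]
      funext j z
      exact zmodD_self _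
    rw [h1, p.co_f] at h2
    exact indi_ne i x y h2

theorem f_eq {D₂ : Subgroup Y} {b₂ u₂ : Y} {f₂ : V} (hD₂ : D₂ ∈ U) (hD₂H : D₂ ≤ H)
    (p₂ : Pk V H R co D₂ b₂ u₂ i x y f₂) : f = f₂ := by
  obtain ⟨w, hw, hwne⟩ := h.K.exists_sepD i p.sw.ne
  rw [← comm_eq h hD hDH p (hDH p.uD) p.sw hw hwne, ← comm_eq h hD₂ hD₂H p₂ (hDH p.uD) p.sw hw hwne]

/-- `C_V(b) = W + F_D` -/
theorem fix_b {v : V} (hv : b • v = v) : v ∈ WW V H R ⊔ fx V D := by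
  rw [← Amal.fx_eq h.a h.amb h.we hD hDH]
  rintro d ⟨hd, hdQ⟩
  rcases p.q d hd hdQ with rfl | rfl
  · exact one_smul Y v
  · exact hv

end Pk

/-- `{y ∈ H | y acts on W as an element of R}` -/
def XR (V : Type u) [AddCommGroup V] [DistribMulAction Y V] {H R : Subgroup Y} (hRH : R ≤ H) : Subgroup Y where
  carrier := {y | y ∈ H ∧ ∃ r ∈ R, ∀ w ∈ WW V H R, y • w = r • w}
  one_mem' := ⟨one_mem _, 1, one_mem _, fun _ _ => rfl⟩
  mul_mem' := by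
    rintro a b ⟨ha, r, hr, h1⟩ ⟨hb, s, hs, h2⟩
    refine ⟨H.mul_mem ha hb, r * s, R.mul_mem hr hs, fun w hw => ?_⟩
    rw [mul_smul, h2 w hw, h1 _ (smul_mem_WW (hRH hs) hw), mul_smul]
  inv_mem' := by
    rintro a ⟨ha, r, hr, h1⟩
    refine ⟨H.inv_mem ha, r⁻¹, R.inv_mem hr, fun w hw => ?_⟩
    rw [inv_smul_eq_iff, h1 _ (smul_mem_WW (H.inv_mem (hRH hr)) hw), smul_inv_smul]

/-- **a transposition of `R` is induced by a member `≤ R`** (Sylow in `R C_H(W)`) -/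
theorem TwoS.exists_in_R (c4 : ∀ D ∈ U, Nat.card D = 4) {r : Y} (hr : r ∈ R) {i : Fin k} {x y : Fin (2 ^ m + 1)}
    (hsw : Sw V H R co r i x y) : ∃ B ∈ U, B ≤ R ∧ ∃ b u f, Pk V H R co B b u i x y f := by
  obtain ⟨D, hD, hDR, hDQ⟩ := Amal.exists_not_QQ h.a h.amb
  have hDH := hDR.trans h.a.RH
  obtain ⟨b, u, i₀, x₀, y₀, f, p⟩ := h.exists_pk hD hDH (c4 D hD) hDQ
  obtain ⟨l, hl, σ, τ, hlσ, hi, hx, hy⟩ := h.K.exists_moveD h.a.RH i₀ i p.sw.ne hsw.ne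
  have hD₁ : MulAut.conj l • D ∈ U := h.amb.cls.conj D hD l
  have hD₁H : MulAut.conj l • D ≤ H := by
    intro z hz
    rw [mem_conj] at hz
    have h1 := H.mul_mem (H.mul_mem hl (hDH hz)) (H.inv_mem hl)
    have e : l * (l⁻¹ * z * l) * l⁻¹ = z := by group
    rwa [e] at h1
  have hsw₁ : Sw V H R co (l * u * l⁻¹) i x y := by
    have h1 := p.sw.conj (hDH p.uD) hl hlσ
    rwa [hi, hx, hy] at h1
  obtain ⟨b₁, f₁, p₁⟩ := h.exists_pk_of hD₁ hD₁H (c4 _ hD₁) (conj_mem_conj p.uD) hsw₁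
  -- `D₁ ≤ R C_H(W)`
  have hRX : R ≤ XR V h.a.RH := fun s hs => ⟨h.a.RH hs, s, hs, fun _ _ => rfl⟩
  have hXH : XR V h.a.RH ≤ H := fun s hs => hs.1
  have hbX : b₁ ∈ XR V h.a.RH :=
    ⟨h.a.RH (QQ_le p₁.bQ), 1, one_mem _, fun w hw => by rw [one_smul]; exact h.qfix p₁.bQ hw⟩
  have huX : l * u * l⁻¹ ∈ XR V h.a.RH :=
    ⟨hD₁H p₁.uD, r, hr, fun w hw => h.K.sw_smulD (hD₁H p₁.uD) (h.a.RH hr) hsw₁ hsw hw⟩
  have hD₁X : MulAut.conj l • D ≤ XR V h.a.RH := by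
    intro d hd
    rcases p₁.all d hd with rfl | rfl | rfl | rfl
    · exact one_mem _
    · exact hbX
    · exact huX
    · exact mul_mem hbX huX
  obtain ⟨z, ⟨hzH, r₁, hr₁, hz⟩, hzR⟩ := conj_into hRX h.a.R2
    (fun R' h1 h2 => h.a.card_le h.a.bad.ne le_rfl (h1.trans hXH) h2) hD₁X (h.amb.cls.mem _ hD₁).isPGroup
  -- `z = r₁ c`, `c` trivial on `W`
  have hcH : r₁⁻¹ * z ∈ H := H.mul_mem (H.inv_mem (h.a.RH hr₁)) hzH
  have hc : ∀ w ∈ WW V H R, (r₁⁻¹ * z) • w = w := fun w hw => by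
    rw [mul_smul, hz w hw, inv_smul_smul]
  have hB : MulAut.conj (r₁⁻¹ * z) • MulAut.conj l • D ∈ U := h.amb.cls.conj _ hD₁ _
  have hBR : MulAut.conj (r₁⁻¹ * z) • MulAut.conj l • D ≤ R := by
    intro d hd
    rw [mem_conj] at hd
    have h1 := hzR (conj_mem_conj (g := z) hd)
    have h2 := R.mul_mem (R.mul_mem (R.inv_mem hr₁) h1) hr₁
    have e : r₁⁻¹ * (z * ((r₁⁻¹ * z)⁻¹ * d * (r₁⁻¹ * z)) * z⁻¹) * r₁ = d := by group
    rwa [e] at h2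
  have hsw₂ : Sw V H R co ((r₁⁻¹ * z) * (l * u * l⁻¹) * (r₁⁻¹ * z)⁻¹) i x y := by
    refine hsw₁.of_smul fun w hw => ?_
    have h1 : (r₁⁻¹ * z)⁻¹ • w = w := by rw [inv_smul_eq_iff, hc w hw]
    rw [mul_smul, mul_smul, h1, hc _ (smul_mem_WW (hD₁H p₁.uD) hw)]
  obtain ⟨b₂, f₂, p₂⟩ := h.exists_pk_of hB (hBR.trans h.a.RH) (c4 _ hB) (conj_mem_conj (conj_mem_conj p.uD)) hsw₂
  exact ⟨_, hB, hBR, b₂, _, f₂, p₂⟩

/-- the elements of `H` which permute the letters `0` -/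
def St0 (V : Type u) [AddCommGroup V] [DistribMulAction Y V] (H R : Subgroup Y) {k n : ℕ} [NeZero n]
    (co : V → Fin k → Fin n → ZMod 2) : Subgroup Y where
  carrier := {g | g ∈ H ∧ (∀ i, ∃ j, ∀ w ∈ WW V H R, co (g • w) j 0 = co w i 0) ∧
    ∀ i, ∃ j, ∀ w ∈ WW V H R, co (g⁻¹ • w) j 0 = co w i 0}
  one_mem' := ⟨one_mem _, fun i => ⟨i, fun w _ => by rw [one_smul]⟩,
    fun i => ⟨i, fun w _ => by rw [inv_one, one_smul]⟩⟩
  mul_mem' := by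
    rintro a b ⟨ha, h1, h2⟩ ⟨hb, h3, h4⟩
    refine ⟨H.mul_mem ha hb, fun i => ?_, fun i => ?_⟩
    · obtain ⟨j, hj⟩ := h3 i
      obtain ⟨l, hl⟩ := h1 j
      exact ⟨l, fun w hw => by rw [mul_smul, hl _ (smul_mem_WW hb hw), hj w hw]⟩
    · obtain ⟨j, hj⟩ := h2 i
      obtain ⟨l, hl⟩ := h4 j
      exact ⟨l, fun w hw => by rw [mul_inv_rev, mul_smul, hl _ (smul_mem_WW (H.inv_mem ha) hw), hj w hw]⟩
  inv_mem' := by
    rintro a ⟨ha, h1, h2⟩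
    exact ⟨H.inv_mem ha, h2, fun i => by rw [inv_inv]; exact h1 i⟩

theorem TwoS.R_le_St0 : R ≤ St0 V H R co := by
  have key : ∀ r ∈ R, ∀ i, ∃ j, ∀ w ∈ WW V H R, co (r • w) j 0 = co w i 0 := by
    intro r hr i
    obtain ⟨σ, τ, hσ⟩ := h.K.perm r (h.a.RH hr)
    refine ⟨σ i, fun w hw => ?_⟩
    have h1 := hσ w hw i 0
    rwa [h.K.fix0 r hr σ τ hσ i] at h1
  exact fun r hr => ⟨h.a.RH hr, key r hr, key _ (R.inv_mem hr)⟩

/-- **`Stab_H(0) ≤ M`** -/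
theorem TwoS.St0_le : St0 V H R co ≤ M := by
  apply h.a.uniq _ h.R_le_St0
  refine lt_of_le_of_ne (fun g hg => hg.1) ?_
  intro h1
  -- `(0 c)` in all blocks
  obtain ⟨c, hc0, _, _⟩ := h.K.exists_letterD 0 0 0
  obtain ⟨g, hg, hgτ, _⟩ := h.K.lift (fun _ => Equiv.swap 0 c)
  have h2 : g ∈ St0 V H R co := by rw [h1]; exact hg
  obtain ⟨_, h3, _⟩ := h2
  have i₀ : Fin k := ⟨0, h.K.kpos⟩
  obtain ⟨j, hj⟩ := h3 i₀
  obtain ⟨z, hz0, hz1, _⟩ := h.K.exists_letterD 0 c c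
  obtain ⟨w, hw, hwco⟩ := h.K.exists_vecD i₀ hz0.symm
  have h4 := hj w hw
  have h5 := hgτ w hw j c
  rw [Equiv.swap_apply_right, Equiv.Perm.one_apply, h4, hwco] at h5
  unfold indi at h5
  rw [if_pos ⟨rfl, Or.inl rfl⟩, if_neg (fun h6 => h6.2.elim hc0 fun h7 => hz1 h7.symm)] at h5
  exact one_ne_zero h5

/-- an element acting as a transposition which fixes the letter `0` is in `M` -/
theorem TwoS.sw_mem_M {g : Y} (hg : g ∈ H) {i : Fin k} {x y : Fin (2 ^ m + 1)} (hx : x ≠ 0) (hy : y ≠ 0)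
    (hsw : ActS V H R co g 1 (Function.update 1 i (Equiv.swap x y))) : g ∈ M := by
  by_cases hxy : x = y
  · subst hxy
    apply h.St0_le
    have e : (Function.update (1 : Fin k → Equiv.Perm (Fin (2 ^ m + 1))) i (Equiv.swap x x)) = 1 := by
      funext j
      by_cases hj : j = i
      · subst hj
        rw [Function.update_self, Equiv.swap_self]; rfl
      · rw [Function.update_of_ne hj]
    rw [e] at hsw
    have key : ∀ w ∈ WW V H R, g • w = w := by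
      intro w hw
      have h1 := h.K.smul_eq_ofD hg (one_mem H) hsw (fun v _ j z => by rw [one_smul]; rfl) hw
      rwa [one_smul] at h1
    exact ⟨hg, fun j => ⟨j, fun w hw => by rw [key w hw]⟩, fun j => ⟨j, fun w hw => by
      rw [inv_smul_eq_iff.2 (key w hw).symm]⟩⟩
  · have hs : Sw V H R co g i x y := ⟨hxy, hsw⟩
    have key : ∀ j, ∀ w ∈ WW V H R, co (g • w) j 0 = co w j 0 := by
      intro j w hw
      by_cases hj : j = i
      · subst hj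
        rw [hs.co_i hw, Equiv.swap_apply_of_ne_of_ne hx.symm hy.symm]
      · exact hs.co_j hw hj 0
    apply h.St0_le
    refine ⟨hg, fun j => ⟨j, key j⟩, fun j => ⟨j, fun w hw => ?_⟩⟩
    have h1 := key j _ (smul_mem_WW (H.inv_mem hg) hw)
    rw [smul_inv_smul] at h1
    exact h1.symm

/-- `C_H(W) ≤ M` -/
theorem TwoS.ker_M {g : Y} (hg : ∀ w ∈ WW V H R, g • w = w) : g ∈ M := by
  have h1 : CW V H R ≤ M := Amal.ker_le_M h.a h.amb fun x hx v hv => hx v (fx_le_WW hv)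
  exact h1 hg

/-- **an active member is conjugate in `H` to a member outside `M`** -/
theorem TwoS.exists_out (c4 : ∀ D ∈ U, Nat.card D = 4) (hex : ∃ D ∈ U, D ≤ H ∧ ¬ D ≤ M) {D : Subgroup Y}
    (hD : D ∈ U) (hDH : D ≤ H) (hDQ : ¬ D ≤ QQ H R) : ∃ l ∈ H, ¬ MulAut.conj l • D ≤ M := by
  obtain ⟨D₀, hD₀, hD₀H, hD₀M⟩ := hex
  have hD₀Q : ¬ D₀ ≤ QQ H R := fun h1 => hD₀M (h1.trans (QQ_le.trans (h.a.RT.trans h.amb.TM)))
  obtain ⟨b₀, u₀, i₀, x₀, y₀, f₀, p₀⟩ := h.exists_pk hD₀ hD₀H (c4 _ hD₀) hD₀Q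
  obtain ⟨b, u, i, x, y, f, p⟩ := h.exists_pk hD hDH (c4 _ hD) hDQ
  obtain ⟨l, hl, σ, τ, hlσ, hi, hx, hy⟩ := h.K.exists_moveD h.a.RH i i₀ p.sw.ne p₀.sw.ne
  refine ⟨l, hl, fun hle => hD₀M ?_⟩
  have hsw₁ : Sw V H R co (l * u * l⁻¹) i₀ x₀ y₀ := by
    have h1 := p.sw.conj (hDH p.uD) hl hlσ
    rwa [hi, hx, hy] at h1
  have hu₁ : l * u * l⁻¹ ∈ H := H.mul_mem (H.mul_mem hl (hDH p.uD)) (H.inv_mem hl)
  have hb₀M : b₀ ∈ M := h.amb.TM (h.a.RT (QQ_le p₀.bQ))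
  have hu₀M : u₀ ∈ M := by
    have h1 : u₀ * (l * u * l⁻¹)⁻¹ ∈ M := by
      apply h.ker_M
      intro w hw
      have hw' := smul_mem_WW (H.inv_mem hu₁) hw
      rw [mul_smul, h.K.sw_smulD (hD₀H p₀.uD) hu₁ p₀.sw hsw₁ hw', smul_inv_smul]
    have h2 := M.mul_mem h1 (hle (conj_mem_conj (g := l) p.uD))
    rwa [inv_mul_cancel_right] at h2
  intro d hd
  rcases p₀.all d hd with rfl | rfl | rfl | rfl
  · exact one_mem _
  · exact hb₀M
  · exact hu₀M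
  · exact M.mul_mem hb₀M hu₀M

end side

end Cfsg.Agent.Omega.NO1.TH.K
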