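import Cfsg.Agent.Omega.NO1.TH.K.SDTwo

/-!
# N1, `S_n` type, case (d), `a = 2`, `|U| = 4`: the end (bb OMEGA 21636 (1)-(5), helper593)

`Dk` : the data (1) of one member `D ≤ H` outside `M`; `S4.wp_inv` : (2) `W + C_{W'}(J)` is `H`-invariant;
`S4.not_QQ'` : (3); `S4.f_mem` : (4); `S4.letter`, `S4.false` : (5).
-/

set_option autoImplicit false
set_option linter.unusedSectionVars false
set_option linter.dupNamespace false

namespace Cfsg.Agent.Omega.NO1.TH.K

open Subgroup Cfsg.Agent.Omega.NO1.AB Cfsg.Agent.Omega.FFBr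
open scoped Pointwise

universe u

variable {Y : Type u} [Group Y]

/-- The data of one member `D ≤ H` outside `M`: `b ∈ D ∩ Q` acts on `W'` as the transposition `(x' y')` of block
`i'`, `f'` is the vector of this pair, `[V, b] = ⟨f, f'⟩`. -/
structure Dk (V : Type u) [AddCommGroup V] [DistribMulAction Y V] (U : Set (Subgroup Y)) (H H' R : Subgroup Y)
    {k n : ℕ} (co co' : V → Fin k → Fin n → ZMod 2) (D : Subgroup Y) (b u : Y) (i : Fin k) (x y : Fin n) (f : V)
    (i' : Fin k) (x' y' : Fin n) (f' : V) : Prop where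
  pk : Pk V H R co D b u i x y f
  sw' : Sw V H' R co' b i' x' y'
  XJ : ∀ v ∈ WJ V U H' R, b • v = v
  fJ : f' ∈ WJ V U H' R
  co_f' : co' f' = indi i' x' y'
  nf : f' ∉ fx V D
  hit : ∃ v, b • v + v = f'
  sig : ∀ v, b • v + v = 0 ∨ b • v + v = f' ∨ b • v + v = f ∨ b • v + v = f + f'
  inR : ∃ B ∈ U, B ≤ R ∧ ∃ b₁ u₁, Pk V H' R co' B b₁ u₁ i' x' y' f'

theorem indi_sep {k n : ℕ} {i j : Fin k} {x y a c : Fin n} (h : indi i x y j a ≠ indi i x y j c) :
    j = i ∧ (((a = x ∨ a = y) ∧ ¬ (c = x ∨ c = y)) ∨ (¬ (a = x ∨ a = y) ∧ (c = x ∨ c = y))) := by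
  unfold indi at h
  by_cases hj : j = i
  · refine ⟨hj, ?_⟩
    by_cases ha : a = x ∨ a = y
    · by_cases hc : c = x ∨ c = y
      · rw [if_pos ⟨hj, ha⟩, if_pos ⟨hj, hc⟩] at h
        exact absurd rfl h
      · exact Or.inl ⟨ha, hc⟩
    · by_cases hc : c = x ∨ c = y
      · exact Or.inr ⟨ha, hc⟩
      · rw [if_neg (fun h1 => ha h1.2), if_neg (fun h1 => hc h1.2)] at h
        exact absurd rfl h
  · rw [if_neg (fun h1 => hj h1.1), if_neg (fun h1 => hj h1.1)] at h
    exact absurd rfl h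

variable {V : Type u} [AddCommGroup V] [DistribMulAction Y V] {U : Set (Subgroup Y)} {T : Sylow 2 Y}
  {M H H' R : Subgroup Y} {k m : ℕ} {co co' : V → Fin k → Fin (2 ^ m + 1) → ZMod 2} {t : Y}

section side

variable [Finite Y] [Finite V]

/-- two transpositions in `R`: the second one fixes the pair of the first one -/
theorem TwoS.indi_eq (h : TwoS V U T M H H' R k m co co' t) {r s : Y} (hr : r ∈ R) (hs : s ∈ R) {i j : Fin k}
    {x y a c : Fin (2 ^ m + 1)} (h1 : Sw V H R co r i x y) (h2 : Sw V H R co s j a c) :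
    indi i x y j a = indi i x y j c := by
  by_contra hne
  obtain ⟨hj, h3⟩ := indi_sep hne
  subst hj
  rcases h3 with ⟨ha, hc⟩ | ⟨ha, hc⟩
  · rcases ha with rfl | rfl
    · exact hc (Or.inr (h.disj hr hs h1 h2).symm)
    · exact hc (Or.inl (h.disj hr hs h1.symm h2).symm)
  · rcases hc with rfl | rfl
    · exact ha (Or.inr (h.disj hr hs h1 h2.symm).symm)
    · exact ha (Or.inl (h.disj hr hs h1.symm h2.symm).symm)

theorem S4.QM (h : S4 V U T M H H' R k m co co' t) : QQ H R ≤ M := QQ_le.trans (h.s.a.RT.trans h.s.amb.TM)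

/-- **(1)** -/
theorem S4.exists_dk_of (h : S4 V U T M H H' R k m co co' t) {D : Subgroup Y} (hD : D ∈ U) (hDH : D ≤ H)
    (hDM : ¬ D ≤ M) {b u : Y} {i : Fin k} {x y : Fin (2 ^ m + 1)} {f : V} (p : Pk V H R co D b u i x y f) :
    ∃ i' x' y' f', Dk V U H H' R co co' D b u i x y f i' x' y' f' := by
  have hm := h.s.amb.cls.mem _ hD
  have two := h.s.amb.two
  obtain ⟨hE, b₀, hb₀, hb₀Q, i', x', y', hsw'⟩ := h.d D hD hDH hDM
  have hb : b₀ = b := by
    rcases p.q b₀ hb₀ hb₀Q with h1 | h1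
    · exfalso
      apply Sw.not_QQ h.s.swap hsw'
      rw [h1]
      exact one_mem _
    · exact h1
  subst hb
  have hbR : b₀ ∈ R := QQ_le p.bQ
  have hbH' : b₀ ∈ H' := h.s.a'.RH hbR
  obtain ⟨B, hB, hBR, b₁, u₁, f', p'⟩ := h.s.swap.exists_in_R h.c4 hbR hsw'
  have hBH' : B ≤ H' := hBR.trans h.s.a'.RH
  obtain ⟨w', hw', hw'E⟩ := SetLike.not_le_iff_exists.1 hE
  have hne : b₀ • w' + w' ∉ fx V D := fun h1 => p.b1 (hm.inj w' hw'E b₀ p.bD h1)
  have hco : co' w' i' x' ≠ co' w' i' y' := by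
    intro h1
    apply hne
    rw [Pk.fix_of h.s.swap hB hBH' p' hbH' hsw' hw' h1, two]
    exact zero_mem _
  have hf' : b₀ • w' + w' = f' := Pk.comm_eq h.s.swap hB hBH' p' hbH' hsw' hw' hco
  refine ⟨i', x', y', f', ⟨p, hsw', ?_, ⟨p'.fW, ?_⟩, p'.co_f, by rw [← hf']; exact hne, ⟨w', hf'⟩, ?_,
    B, hB, hBR, b₁, u₁, p'⟩⟩
  · intro v hv
    rw [h.s.swap.K.sw_smulD hbH' (hBH' p'.uD) hsw' p'.sw hv.1]
    exact hv.2 B hB hBR u₁ p'.uD
  · intro B₂ hB₂ hB₂R c hc
    by_cases hQ : B₂ ≤ QQ H' R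
    · exact h.s.swap.qfix (hQ hc) p'.fW
    · obtain ⟨b₂, u₂, i₂, x₂, y₂, f₂, p₂⟩ := h.s.swap.exists_pk hB₂ (hB₂R.trans h.s.a'.RH) (h.c4 _ hB₂) hQ
      have h2 : u₂ • f' = f' := by
        apply Pk.fix_of h.s.swap hB₂ (hB₂R.trans h.s.a'.RH) p₂ (h.s.a'.RH (hB₂R p₂.uD)) p₂.sw p'.fW
        rw [p'.co_f]
        exact h.s.swap.indi_eq hbR (hB₂R p₂.uD) hsw' p₂.sw
      have h3 : b₂ • f' = f' := h.s.swap.qfix p₂.bQ p'.fW
      rcases p₂.all c hc with rfl | rfl | rfl | rfl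
      · exact one_smul Y f'
      · exact h3
      · exact h2
      · rw [mul_smul, h2, h3]
  · intro v
    by_cases hvE : v ∈ Ee V D
    · rcases p.EE b₀ p.bD v hvE with h1 | h1
      · left; rw [h1, two]
      · right; right; left; exact h1
    · have h1 : v + w' ∈ Ee V D := by
        rw [AddSubgroup.add_mem_iff_of_index_two (h.ind D hD)]
        exact ⟨fun h2 => absurd h2 hvE, fun h2 => absurd h2 hw'E⟩
      have h2 : b₀ • v + v = (b₀ • (v + w') + (v + w')) + f' := by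
        rw [← hf', smul_add]
        have e : b₀ • v + b₀ • w' + (v + w') + (b₀ • w' + w') =
            b₀ • v + v + (b₀ • w' + b₀ • w') + (w' + w') := by abel
        rw [e, two, two, add_zero, add_zero]
      rcases p.EE b₀ p.bD _ h1 with h3 | h3
      · right; left; rw [h2, h3, two, zero_add]
      · right; right; right; rw [h2, h3]

theorem S4.exists_dk (h : S4 V U T M H H' R k m co co' t) {D : Subgroup Y} (hD : D ∈ U) (hDH : D ≤ H)
    (hDM : ¬ D ≤ M) : ∃ b u i x y f i' x' y' f', Dk V U H H' R co co' D b u i x y f i' x' y' f' := by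
  obtain ⟨b, u, i, x, y, f, p⟩ := h.s.exists_pk hD hDH (h.c4 D hD) fun h1 => hDM (h1.trans h.QM)
  obtain ⟨i', x', y', f', q⟩ := h.exists_dk_of hD hDH hDM p
  exact ⟨b, u, i, x, y, f, i', x', y', f', q⟩

/-- **(2)** `W + C_{W'}(J)` is `H`-invariant -/
theorem S4.wp_inv (h : S4 V U T M H H' R k m co co' t) {l : Y} (hl : l ∈ H) {v : V}
    (hv : v ∈ WW V H R ⊔ WJ V U H' R) : l • v ∈ WW V H R ⊔ WJ V U H' R := by
  have two := h.s.amb.two
  obtain ⟨D, hD, hDH, hDM⟩ := h.ex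
  obtain ⟨b, u, i, x, y, f, i', x', y', f', q⟩ := h.exists_dk hD hDH hDM
  set Wp := WW V H R ⊔ WJ V U H' R with hWp
  have key : ∀ g ∈ H, (∀ v ∈ WJ V U H' R, g • v ∈ Wp) → g ∈ MulAction.stabilizer Y Wp := by
    intro g hg h1
    rw [MulAction.mem_stabilizer_iff]
    apply eq_of_le_as
    · intro z hz
      rw [mem_smul_as, hWp, AddSubgroup.mem_sup] at hz
      obtain ⟨w, hw, j, hj, hwj⟩ := hz
      have e : z = g • w + g • j := by rw [← smul_add, hwj, smul_inv_smul]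
      rw [e]
      exact add_mem ((le_sup_left : _ ≤ Wp) (smul_mem_WW hg hw)) (h1 j hj)
    · rw [card_smul_as]
  have hR : R ≤ MulAction.stabilizer Y Wp := by
    intro r hr
    apply key r (h.s.a.RH hr)
    intro j hj
    apply (le_sup_right : _ ≤ Wp)
    refine ⟨smul_mem_WW (h.s.a'.RH hr) hj.1, fun B hB hBR c hc => ?_⟩
    have h1 : r⁻¹ * c * r ∈ MulAut.conj r⁻¹ • B := by
      have := conj_mem_conj (g := r⁻¹) hc
      rwa [inv_inv] at this
    have h2 : MulAut.conj r⁻¹ • B ≤ R := by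
      intro z hz
      rw [mem_conj, inv_inv] at hz
      have h3 := R.mul_mem (R.mul_mem (R.inv_mem hr) (hBR hz)) hr
      have e : r⁻¹ * (r * z * r⁻¹) * r = z := by group
      rwa [e] at h3
    have h3 := hj.2 _ (h.s.amb.cls.conj B hB r⁻¹) h2 _ h1
    rw [mul_smul, mul_smul, inv_smul_eq_iff] at h3
    exact h3
  have hDs : D ≤ MulAction.stabilizer Y Wp := by
    intro d hd
    apply key d (hDH hd)
    intro j hj
    have h1 := Pk.fix_b h.s hD hDH q.pk (q.XJ j hj)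
    rw [AddSubgroup.mem_sup] at h1
    obtain ⟨w, hw, e, he, hwe⟩ := h1
    have h2 : d • j = (d • w + w) + j := by
      rw [← hwe, smul_add, he d hd]
      have e1 : d • w + w + (w + e) = d • w + (w + w) + e := by abel
      rw [e1, two, add_zero]
    rw [h2]
    exact add_mem ((le_sup_left : _ ≤ Wp) (add_mem (smul_mem_WW (hDH hd) hw) hw)) ((le_sup_right : _ ≤ Wp) hj)
  have hH : H ≤ MulAction.stabilizer Y Wp := by
    rw [← h.s.a.gen hDH hDM]
    exact sup_le hR hDs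
  have h1 := hH hl
  rw [MulAction.mem_stabilizer_iff] at h1
  rw [← h1]
  exact smul_mem_smul_as hv

/-- `[V, b_D] ≤ W + C_{W'}(J)` for all active members of `H` -/
theorem S4.sigW (h : S4 V U T M H H' R k m co co' t) {D : Subgroup Y} (hD : D ∈ U) (hDH : D ≤ H) {b u : Y}
    {i : Fin k} {x y : Fin (2 ^ m + 1)} {f : V} (p : Pk V H R co D b u i x y f) (v : V) :
    b • v + v ∈ WW V H R ⊔ WJ V U H' R := by
  obtain ⟨l, hl, hlM⟩ := h.s.exists_out h.c4 h.ex hD hDH fun h1 => Sw.not_QQ h.s p.sw (h1 p.uD)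
  have hD₁ : MulAut.conj l • D ∈ U := h.s.amb.cls.conj D hD l
  have hD₁H : MulAut.conj l • D ≤ H := by
    intro z hz
    rw [mem_conj] at hz
    have h1 := H.mul_mem (H.mul_mem hl (hDH hz)) (H.inv_mem hl)
    have e : l * (l⁻¹ * z * l) * l⁻¹ = z := by group
    rwa [e] at h1
  obtain ⟨b₁, u₁, i₁, x₁, y₁, f₁, i', x', y', f', q⟩ := h.exists_dk hD₁ hD₁H hlM
  have hb : l * b * l⁻¹ = b₁ := by
    rcases q.pk.q _ (conj_mem_conj (g := l) p.bD) (conj_mem_QQ hl p.bQ) with h1 | h1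
    · exfalso
      apply p.b1
      have h2 : l⁻¹ * (l * b * l⁻¹) * l = 1 := by rw [h1]; group
      have e : l⁻¹ * (l * b * l⁻¹) * l = b := by group
      rwa [e] at h2
    · exact h1
  have h1 : b₁ • (l • v) + l • v ∈ WW V H R ⊔ WJ V U H' R := by
    have hf := (le_sup_left : _ ≤ WW V H R ⊔ WJ V U H' R) q.pk.fW
    have hf' := (le_sup_right : _ ≤ WW V H R ⊔ WJ V U H' R) q.fJ
    rcases q.sig (l • v) with h2 | h2 | h2 | h2
    · rw [h2]; exact zero_mem _
    · rw [h2]; exact hf'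
    · rw [h2]; exact hf
    · rw [h2]; exact add_mem hf hf'
  have h2 := h.wp_inv (H.inv_mem hl) h1
  have e : l⁻¹ • (b₁ • (l • v) + l • v) = b • v + v := by
    rw [← hb, smul_add, inv_smul_smul, ← mul_smul, ← mul_smul]
    congr 2
    group
  rwa [e] at h2

/-- **(3)** -/
theorem S4.not_QQ' (h : S4 V U T M H H' R k m co co' t) {D' : Subgroup Y} (hD' : D' ∈ U) {a u' : Y} {i' : Fin k}
    {x' y' : Fin (2 ^ m + 1)} {f' : V} {i : Fin k} {x y : Fin (2 ^ m + 1)} {f : V}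
    (q : Dk V U H' H R co' co D' a u' i' x' y' f' i x y f) {B : Subgroup Y} (hB : B ∈ U) (hBR : B ≤ R) {b u : Y}
    (p : Pk V H R co B b u i x y f) : ¬ B ≤ QQ H' R := by
  intro hle
  have two := h.s.amb.two
  have hBH := hBR.trans h.s.a.RH
  have hm := h.s.amb.cls.mem _ hB
  have haR : a ∈ R := QQ_le q.pk.bQ
  have haH : a ∈ H := h.s.a.RH haR
  have ha2 : ∀ v : V, a • a • v = v := fun v => by
    rw [← mul_smul, (h.s.amb.cls.mem _ hD').sq a q.pk.bD, one_smul]
  have hb2 : ∀ v : V, b • b • v = v := fun v => by rw [← mul_smul, hm.sq b p.bD, one_smul]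
  -- `[V, a] ≤ F_B`
  have hfa : ∀ v : V, a • v + v ∈ fx V B := by
    intro v
    have h1 : f' ∈ fx V B := fun c hc => h.s.swap.qfix (hle hc) q.pk.fW
    rcases q.sig v with h2 | h2 | h2 | h2
    · rw [h2]; exact zero_mem _
    · rw [h2]; exact p.ff
    · rw [h2]; exact h1
    · rw [h2]; exact add_mem h1 p.ff
  have haf : a • f = f := by
    apply Pk.fix_of h.s hB hBH p haH q.sw' p.fW
    rw [p.co_f]
    exact h.s.indi_eq haR haR q.sw' q.sw'
  -- `(ab)² v = v + (a β + β)`, `β = b v + v`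
  set g := a * b * (a * b) with hgdef
  have hg : ∀ v : V, g • v = v + (a • (b • v + v) + (b • v + v)) := by
    intro v
    have h1 : b • (a • v + v) = a • v + v := hfa v b p.bD
    have h2 : b • (a • (b • v + v) + (b • v + v)) = a • (b • v + v) + (b • v + v) := hfa (b • v + v) b p.bD
    have h3 : b • a • v = a • v + v + b • v := by
      rw [← h1, smul_add]
      have e : b • a • v + b • v + b • v = b • a • v + (b • v + b • v) := by abel
      rw [e, two, add_zero]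
    rw [smul_add, smul_add a, smul_add b, smul_add b, hb2, h3] at h2
    -- `b a b v + (a v + v + b v) + (v + b v) = a b v + a v + (b v + v)`
    have h4 : b • a • b • v = a • b • v + v + b • v := by
      have h5 := congrArg (fun z => z + (a • v + v + b • v + (v + b • v))) h2
      have e1 : b • a • b • v + (a • v + v + b • v) + (v + b • v) + (a • v + v + b • v + (v + b • v)) =
          b • a • b • v + (a • v + a • v) + (v + v) + (v + v) + (b • v + b • v) + (b • v + b • v) := by abel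
      have e2 : a • b • v + a • v + (b • v + v) + (a • v + v + b • v + (v + b • v)) =
          a • b • v + v + b • v + (a • v + a • v) + (v + v) + (b • v + b • v) := by abel
      have h6 := (e1.symm.trans h5).trans e2
      simp only [two, add_zero] at h6
      exact h6
    rw [hgdef, mul_smul, mul_smul, mul_smul, h4, smul_add, smul_add, ha2, smul_add]
    have e : v + (a • b • v + a • v + (b • v + v)) = b • v + a • v + a • b • v + (v + v) := by abel
    rw [e, two, add_zero]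
  -- on `E_B`
  have hgE : ∀ v ∈ Ee V B, g • v = v := by
    intro v hv
    rw [hg v]
    rcases p.EE b p.bD v hv with h1 | h1
    · rw [h1, two, smul_zero, add_zero, add_zero]
    · rw [h1, haf, two, add_zero]
  -- outside `E_B`
  have hWJ : ∀ j ∈ WJ V U H' R, a • j = j ∧ j ∈ fx V B := fun j hj =>
    ⟨h.s.swap.qfix q.pk.bQ hj.1, fun c hc => hj.2 B hB hBR c hc⟩
  have hgd : ∀ v : V, ∃ w ∈ WW V H R, ∃ j ∈ WJ V U H' R, b • v + v = w + j ∧
      a • (b • v + v) + (b • v + v) = a • w + w := by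
    intro v
    have h1 := h.sigW hB hBH p v
    rw [AddSubgroup.mem_sup] at h1
    obtain ⟨w, hw, j, hj, hwj⟩ := h1
    refine ⟨w, hw, j, hj, hwj.symm, ?_⟩
    rw [← hwj, smul_add, (hWJ j hj).1]
    have e : a • w + j + (w + j) = a • w + w + (j + j) := by abel
    rw [e, two, add_zero]
  have hgn : ∀ v, v ∉ Ee V B → g • v ≠ v := by
    intro v hv h1
    obtain ⟨w, hw, j, hj, h2, h3⟩ := hgd v
    rw [hg v, h3] at h1
    have h4 : a • w + w = 0 := by
      have h5 : v + (a • w + w) = v + 0 := by rw [h1, add_zero]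
      exact add_left_cancel h5
    have h5 : a • w = w := (HE.add_eq_zero' two).1 h4
    have h6 : u • w = w := by
      rw [← h.s.K.sw_smulD haH (hBH p.uD) q.sw' p.sw hw]
      exact h5
    have h7 : b • w = w := h.s.qfix p.bQ hw
    have h8 : w ∈ fx V B := by
      intro c hc
      rcases p.all c hc with rfl | rfl | rfl | rfl
      · exact one_smul Y w
      · exact h7
      · exact h6
      · rw [mul_smul, h6, h7]
    apply p.b1
    apply hm.inj v hv b p.bD
    rw [h2]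
    exact add_mem h8 (hWJ j hj).2
  -- `g² = 1`
  have hg2 : g * g = 1 := by
    apply h.s.amb.faith
    intro v
    obtain ⟨w, hw, j, hj, h2, h3⟩ := hgd v
    have h4 : a • w + w ∈ Ee V B := by
      have h5 := Amal.WW_le_Ee h.s.a h.s.amb h.s.we hB hBH
      exact h5 (add_mem (smul_mem_WW haH hw) hw)
    rw [mul_smul, hg v, h3, smul_add, hgE _ h4, hg v, h3, add_assoc, two, add_zero]
  have hg1 : g ≠ 1 := by
    intro h1
    obtain ⟨v, hv⟩ := hm.ne
    apply hgn v hv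
    rw [h1, one_smul]
  have h1 := h.noff (zpowers g) (by
      rintro x ⟨n₁, rfl⟩ y ⟨n₂, rfl⟩
      exact (zpow_mul_comm g n₁ n₂)) (by
      rintro x ⟨n₁, rfl⟩
      change g ^ n₁ * g ^ n₁ = 1
      rw [← (Commute.refl g).mul_zpow, hg2, one_zpow]) (by
      rw [Ne, zpowers_eq_bot]; exact hg1)
  have h2 : Nat.card ↥(zpowers g) = 2 := by
    rw [Nat.card_zpowers]
    exact orderOf_eq_prime (by rw [pow_two, hg2]) hg1
  have h3 : Ee V B ≤ fx V (zpowers g) := by
    intro v hv c hc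
    have h4 : zpowers g ≤ MulAction.stabilizer Y v := by
      rw [zpowers_le]
      exact hgE v hv
    exact h4 hc
  have h4 : (fx V (zpowers g)).index ∣ 2 := by
    rw [← h.ind B hB]
    exact AddSubgroup.index_dvd_of_le h3
  have h5 := Nat.le_of_dvd (by norm_num) h4
  omega

/-- **(4)** -/
theorem S4.f_mem (h : S4 V U T M H H' R k m co co' t) {D' : Subgroup Y} (hD' : D' ∈ U) {a u' : Y} {i' : Fin k}
    {x' y' : Fin (2 ^ m + 1)} {f' : V} {i : Fin k} {x y : Fin (2 ^ m + 1)} {f : V}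
    (q : Dk V U H' H R co' co D' a u' i' x' y' f' i x y f) :
    f ∈ WW V H' R ∧ ∃ r ∈ R, ∃ i₂ x₂ y₂, Sw V H' R co' r i₂ x₂ y₂ ∧ co' f = indi i₂ x₂ y₂ := by
  obtain ⟨B, hB, hBR, b, u, p⟩ := q.inR
  have hBH' := hBR.trans h.s.a'.RH
  obtain ⟨b₂, u₂, i₂, x₂, y₂, f₂, p₂⟩ := h.s.swap.exists_pk hB hBH' (h.c4 B hB) (h.not_QQ' hD' q hB hBR p)
  obtain ⟨w, hw, hwne⟩ := h.s.swap.K.exists_sepD i₂ p₂.sw.ne
  have h1 := Pk.comm_eq h.s.swap hB hBH' p₂ (hBH' p₂.uD) p₂.sw hw hwne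
  have h2 : f = f₂ := by
    rcases p.EE u₂ p₂.uD w (Amal.WW_le_Ee h.s.a' h.s.amb h.s.we' hB hBH' hw) with h3 | h3
    · exact absurd (p₂.sw.co_of_fix hw (by rw [h3])) hwne
    · rw [← h3, h1]
  rw [h2]
  exact ⟨p₂.fW, u₂, hBR p₂.uD, i₂, x₂, y₂, p₂.sw, p₂.co_f⟩

/-- **(5)**: the partner of the letter `x` -/
theorem S4.letter (h : S4 V U T M H H' R k m co co' t) {D : Subgroup Y} (hD : D ∈ U) (hDH : D ≤ H) {b u : Y}
    {i : Fin k} {x : Fin (2 ^ m + 1)} {f : V} {i' : Fin k} {x' y' : Fin (2 ^ m + 1)} {f' : V}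
    (q : Dk V U H H' R co co' D b u i x 0 f i' x' y' f') :
    f' ∈ WW V H R ∧ ∃ z, z ≠ 0 ∧ co f' = indi i x z ∧ ∃ r ∈ R, Sw V H R co r i x z := by
  obtain ⟨hfW, r, hr, i₂, x₂, y₂, hsw, hco⟩ := h.swap.f_mem hD q
  refine ⟨hfW, ?_⟩
  -- `0 ∉ {x₂, y₂}`
  have h0 : ∀ {x₂ y₂ : Fin (2 ^ m + 1)}, Sw V H R co r i₂ x₂ y₂ → x₂ ≠ 0 := by
    intro x₂ y₂ hs hx
    subst hx
    have h1 := h.s.K.fix0 r hr _ _ hs.act i₂
    rw [Function.update_self, Equiv.swap_apply_left] at h1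
    exact hs.ne h1.symm
  have h02 := h0 hsw
  have h03 := h0 hsw.symm
  have hne : co f' i x ≠ co f' i 0 := by
    intro h1
    apply q.nf
    have h2 := Pk.fix_of h.s hD hDH q.pk (hDH q.pk.uD) q.pk.sw hfW h1
    have h3 := h.s.qfix q.pk.bQ hfW
    intro c hc
    rcases q.pk.all c hc with rfl | rfl | rfl | rfl
    · exact one_smul Y f'
    · exact h3
    · exact h2
    · rw [mul_smul, h2, h3]
  rw [hco] at hne
  obtain ⟨hi, h1⟩ := indi_sep hne
  subst hi
  rcases h1 with ⟨h1 | h1, _⟩ | ⟨_, h1 | h1⟩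
  · rw [← h1] at hsw hco
    exact ⟨y₂, h03, hco, r, hr, hsw⟩
  · rw [← h1] at hsw hco
    exact ⟨x₂, h02, by rw [hco, indi_comm], r, hr, hsw.symm⟩
  · exact absurd h1.symm h02
  · exact absurd h1.symm h03

theorem S4.false (h : S4 V U T M H H' R k m co co' t) : False := by
  obtain ⟨D, hD, hDH, hDM⟩ := h.ex
  have hm := h.s.amb.cls.mem _ hD
  -- a member with `π(D) = {x, 0}`
  obtain ⟨b, u, i, x, f, p⟩ : ∃ b u i x f, Pk V H R co D b u i x 0 f := by
    obtain ⟨b, u, i, x, y, f, p⟩ := h.s.exists_pk hD hDH (h.c4 D hD) fun h1 => hDM (h1.trans h.QM)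
    by_cases hy : y = 0
    · subst hy
      exact ⟨b, u, i, x, f, p⟩
    by_cases hx : x = 0
    · subst hx
      exact ⟨b, u, i, y, f, Pk.symm h.s hD hDH p⟩
    exfalso
    apply hDM
    have h1 := h.s.sw_mem_M (hDH p.uD) hx hy p.sw.act
    have h2 := h.QM p.bQ
    intro d hd
    rcases p.all d hd with rfl | rfl | rfl | rfl
    · exact one_mem _
    · exact h2
    · exact h1
    · exact M.mul_mem h2 h1
  obtain ⟨i', x', y', f', q⟩ := h.exists_dk_of hD hDH hDM p
  obtain ⟨hfW, z, hz0, hzco, r, hr, hrs⟩ := h.letter hD hDH q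
  -- a further letter
  obtain ⟨c, hc0, hcx, hcz⟩ := h.s.K.exists_letterD 0 x z
  obtain ⟨l, hl, hlτ, _⟩ := h.s.K.lift (Function.update 1 i (Equiv.swap z c))
  have hlM : l ∈ M := h.s.sw_mem_M hl hz0 hc0 hlτ
  have hD₁ : MulAut.conj l • D ∈ U := h.s.amb.cls.conj D hD l
  have hD₁H : MulAut.conj l • D ≤ H := by
    intro z hz
    rw [mem_conj] at hz
    have h1 := H.mul_mem (H.mul_mem hl (hDH hz)) (H.inv_mem hl)
    have e : l * (l⁻¹ * z * l) * l⁻¹ = z := by group
    rwa [e] at h1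
  have hD₁M : ¬ MulAut.conj l • D ≤ M := by
    intro h1
    apply hDM
    intro d hd
    have h2 := M.mul_mem (M.mul_mem (M.inv_mem hlM) (h1 (conj_mem_conj (g := l) hd))) hlM
    have e : l⁻¹ * (l * d * l⁻¹) * l = d := by group
    rwa [e] at h2
  have hsw₁ : Sw V H R co (l * u * l⁻¹) i x 0 := by
    have h1 := p.sw.conj (hDH p.uD) hl hlτ
    rw [Equiv.Perm.one_apply, Function.update_self, Equiv.swap_apply_of_ne_of_ne hrs.ne hcx.symm,
      Equiv.swap_apply_of_ne_of_ne hz0.symm hc0.symm] at h1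
    exact h1
  obtain ⟨b₁, f₁, p₁⟩ := h.s.exists_pk_of hD₁ hD₁H (h.c4 _ hD₁) (conj_mem_conj p.uD) hsw₁
  obtain ⟨i₁', x₁', y₁', f₁', q₁⟩ := h.exists_dk_of hD₁ hD₁H hD₁M p₁
  obtain ⟨hf₁W, z₁, _, hz₁co, r₁, hr₁, hr₁s⟩ := h.letter hD₁ hD₁H q₁
  have hzz : z = z₁ := h.s.disj hr hr₁ hrs hr₁s
  subst hzz
  have hb : l * b * l⁻¹ = b₁ := by
    rcases p₁.q _ (conj_mem_conj (g := l) p.bD) (conj_mem_QQ hl p.bQ) with h1 | h1
    · exfalso
      apply p.b1
      have h2 : l⁻¹ * (l * b * l⁻¹) * l = 1 := by rw [h1]; group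
      have e : l⁻¹ * (l * b * l⁻¹) * l = b := by group
      rwa [e] at h2
    · exact h1
  obtain ⟨v, hv⟩ := q.hit
  have h1 : b₁ • (l • v) + l • v = l • f' := by
    rw [← hb, ← hv, smul_add, ← mul_smul, ← mul_smul]
    congr 2
    group
  -- evaluate at the letter `c`
  have h2 : co (l • f') i c = 1 := by
    have h3 := hlτ f' hfW i z
    rw [Equiv.Perm.one_apply, Function.update_self, Equiv.swap_apply_left, hzco] at h3
    rw [h3]
    unfold indi
    rw [if_pos ⟨rfl, Or.inr rfl⟩]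
  have h3 : co f₁' i c = 0 := by
    rw [hz₁co]
    unfold indi
    rw [if_neg fun h4 => h4.2.elim hcx hcz]
  have h4 : co f₁ i c = 0 := by
    rw [p₁.co_f]
    unfold indi
    rw [if_neg fun h4 => h4.2.elim hcx hc0]
  have h5 := q₁.sig (l • v)
  rw [h1] at h5
  rcases h5 with h5 | h5 | h5 | h5
  · rw [h5, h.s.K.zeroD] at h2
    exact zero_ne_one h2
  · rw [h5, h3] at h2
    exact zero_ne_one h2
  · rw [h5, h4] at h2
    exact zero_ne_one h2
  · rw [h5, h.s.K.add _ p₁.fW _ hf₁W, Pi.add_apply, Pi.add_apply, h3, h4, add_zero] at h2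
    exact zero_ne_one h2

end side

end Cfsg.Agent.Omega.NO1.TH.K
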