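import Cfsg.Agent.Omega.NO1.TH.LOneDef
import Cfsg.Agent.Omega.NO1.TH.K.SDef

/-!
# N1, the amalgam, `S_n` type: basic facts on `KSym`

`trans_points` : Sylow 2-subgroups of `S_{2^m+1} wr (2-group)` are transitive on the nonzero letters;
`actS_unique`, `smul_eq`, `trD_of` : the action on `W` is determined by the action on the coordinates.
-/

set_option autoImplicit false
set_option linter.unusedSectionVars false
set_option linter.dupNamespace false

namespace Cfsg.Agent.Omega.NO1.TH.K.SI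

open Subgroup Cfsg.Agent.Omega.NO1.AB
open scoped Pointwise

universe u

/-- Sylow 2-subgroups of `S_{2^m+1} wr (2-group)` are transitive on the nonzero points -/
theorem trans_points {k m : ℕ} {G P : Subgroup (Equiv.Perm (Fin k × Fin (2 ^ m + 1)))} (hPG : P ≤ G)
    {c : ℕ} (hc : Nat.card G = Nat.card P * c) (hodd : Odd c) (hP : IsPGroup 2 P)
    (blk : ∀ g ∈ G, ∀ p q, p.1 = q.1 → (g p).1 = (g q).1)
    (full : ∀ τ : Fin k → Equiv.Perm (Fin (2 ^ m + 1)), ∃ g ∈ G, ∀ i x, g (i, x) = (i, τ i x))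
    (tr : ∀ i j, ∃ g ∈ P, (g (i, 0)).1 = j) (fix0 : ∀ g ∈ P, ∀ i, (g (i, 0)).2 = 0)
    {i j : Fin k} {x y : Fin (2 ^ m + 1)} (hx : x ≠ 0) (hy : y ≠ 0) : ∃ g ∈ P, g (i, x) = (j, y) := by
  classical
  have : Fact (Nat.Prime 2) := ⟨Nat.prime_two⟩
  let X := Fin k × Fin (2 ^ m + 1)
  let ω : X × X := ((i, 0), (i, x))
  -- `k` is a power of `2`
  obtain ⟨e, he⟩ : ∃ e, k = 2 ^ e := by
    have h1 : MulAction.orbit P ((i, 0) : X) = Set.range fun j : Fin k => ((j, 0) : X) := by
      ext q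
      constructor
      · rintro ⟨g, rfl⟩
        refine ⟨((g : Equiv.Perm X) (i, 0)).1, ?_⟩
        exact Prod.ext rfl (fix0 g g.2 i).symm
      · rintro ⟨j, rfl⟩
        obtain ⟨g, hg, hgj⟩ := tr i j
        exact ⟨⟨g, hg⟩, Prod.ext hgj (fix0 g hg i)⟩
    have h2 : Nat.card (MulAction.orbit P ((i, 0) : X)) = k := by
      rw [h1, Nat.card_range_of_injective, Nat.card_eq_fintype_card, Fintype.card_fin]
      intro a b hab
      exact (Prod.ext_iff.1 hab).1
    have h3 := hP.card_orbit ((i, 0) : X)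
    rw [h2] at h3
    exact h3
  have hGo : Nat.card (MulAction.orbit G ω) = k * ((2 ^ m + 1) * 2 ^ m) := by
    have h1 : MulAction.orbit G ω = Set.range fun q : Fin k × Fin (2 ^ m + 1) × Fin (2 ^ m) =>
        (((q.1, q.2.1), (q.1, q.2.1.succAbove q.2.2)) : X × X) := by
      ext q
      constructor
      · rintro ⟨g, rfl⟩
        have h2 : ((g : Equiv.Perm X) (i, x)).1 = ((g : Equiv.Perm X) (i, 0)).1 := blk g g.2 _ _ rfl
        have h3 : ((g : Equiv.Perm X) (i, x)).2 ≠ ((g : Equiv.Perm X) (i, 0)).2 := by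
          intro h4
          have h5 := (g : Equiv.Perm X).injective (Prod.ext h2 h4)
          exact hx (Prod.ext_iff.1 h5).2
        obtain ⟨b, hb⟩ := Fin.exists_succAbove_eq h3
        refine ⟨(((g : Equiv.Perm X) (i, 0)).1, ((g : Equiv.Perm X) (i, 0)).2, b), ?_⟩
        refine Prod.ext rfl ?_
        refine Prod.ext h2.symm ?_
        exact hb
      · rintro ⟨⟨j, a, b⟩, rfl⟩
        -- a block permutation to the block `j`
        obtain ⟨g, hg, hgj⟩ := tr i j
        have hg2 := hPG hg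
        set a' := (g (i, 0)).2 with ha'
        set b' := (g (i, x)).2 with hb'
        have h1 : (g (i, x)).1 = j := (blk g hg2 (i, x) (i, 0) rfl).trans hgj
        have hab : a' ≠ b' := by
          intro h4
          have h5 := g.injective (Prod.ext (hgj.trans h1.symm) h4 : g (i, 0) = g (i, x))
          exact hx (Prod.ext_iff.1 h5).2.symm
        have hne : a ≠ a.succAbove b := (Fin.succAbove_ne a b).symm
        -- a permutation `a' ↦ a`, `b' ↦ succAbove`
        obtain ⟨τ, hτ1, hτ2⟩ : ∃ τ : Equiv.Perm (Fin (2 ^ m + 1)), τ a' = a ∧ τ b' = a.succAbove b := by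
          set u := Equiv.swap a' a b' with hu
          have hua : u ≠ a := by
            intro h6
            have h7 : Equiv.swap a' a b' = Equiv.swap a' a a' := by rw [Equiv.swap_apply_left]; exact h6
            exact hab ((Equiv.swap a' a).injective h7).symm
          refine ⟨Equiv.swap u (a.succAbove b) * Equiv.swap a' a, ?_, ?_⟩
          · rw [Equiv.Perm.mul_apply, Equiv.swap_apply_left, Equiv.swap_apply_of_ne_of_ne hua.symm hne]
          · rw [Equiv.Perm.mul_apply, ← hu, Equiv.swap_apply_left]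
        obtain ⟨f, hf, hfτ⟩ := full fun _ => τ
        refine ⟨⟨f * g, G.mul_mem hf hg2⟩, ?_⟩
        refine Prod.ext ?_ ?_
        · change f (g (i, 0)) = (j, a)
          have h5 : g (i, 0) = (j, a') := Prod.ext hgj rfl
          rw [h5, hfτ, hτ1]
        · change f (g (i, x)) = (j, a.succAbove b)
          have h5 : g (i, x) = (j, b') := Prod.ext h1 rfl
          rw [h5, hfτ, hτ2]
    rw [h1, Nat.card_range_of_injective]
    · rw [Nat.card_prod, Nat.card_prod]
      simp only [Nat.card_eq_fintype_card, Fintype.card_fin]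
    · rintro ⟨j, a, b⟩ ⟨j', a', b'⟩ h2
      have h3 := (Prod.ext_iff.1 h2).1
      have h4 := (Prod.ext_iff.1 (Prod.ext_iff.1 h2).2).2
      have h5 : j = j' := (Prod.ext_iff.1 h3).1
      have h6 : a = a' := (Prod.ext_iff.1 h3).2
      subst h5 h6
      have h7 : a.succAbove b = a.succAbove b' := h4
      rw [Fin.succAbove_right_inj] at h7
      rw [h7]
  let S : Set (X × X) := Set.range fun q : Fin k × Fin (2 ^ m) => (((q.1, 0), (q.1, q.2.succ)) : X × X)
  have hS : Nat.card S = k * 2 ^ m := by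
    change Nat.card (Set.range fun q : Fin k × Fin (2 ^ m) => (((q.1, 0), (q.1, q.2.succ)) : X × X)) = _
    rw [Nat.card_range_of_injective]
    · rw [Nat.card_prod]
      simp only [Nat.card_eq_fintype_card, Fintype.card_fin]
    · rintro ⟨j, b⟩ ⟨j', b'⟩ h2
      have h3 := (Prod.ext_iff.1 h2).1
      have h4 : b.succ = b'.succ := (Prod.ext_iff.1 (Prod.ext_iff.1 h2).2).2
      have h5 : j = j' := (Prod.ext_iff.1 h3).1
      rw [Fin.succ_inj] at h4
      rw [h4, h5]
  have hPS : MulAction.orbit P ω ⊆ S := by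
    rintro _ ⟨g, rfl⟩
    have h2 : ((g : Equiv.Perm X) (i, x)).1 = ((g : Equiv.Perm X) (i, 0)).1 := blk g (hPG g.2) _ _ rfl
    have h3 : ((g : Equiv.Perm X) (i, x)).2 ≠ 0 := by
      intro h4
      have h5 := (g : Equiv.Perm X).injective (Prod.ext h2 (h4.trans (fix0 g g.2 i).symm))
      exact hx (Prod.ext_iff.1 h5).2
    obtain ⟨b, hb⟩ := Fin.exists_succ_eq.2 h3
    refine ⟨(((g : Equiv.Perm X) (i, 0)).1, b), ?_⟩
    refine Prod.ext (Prod.ext rfl (fix0 g g.2 i).symm) (Prod.ext h2.symm hb)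
  have h1 : Nat.card (MulAction.orbit G ω) * Nat.card (MulAction.stabilizer G ω) = Nat.card G := by
    rw [← Nat.card_prod]
    exact Nat.card_congr (MulAction.orbitProdStabilizerEquivGroup G ω)
  have h2 : Nat.card (MulAction.orbit P ω) * Nat.card (MulAction.stabilizer P ω) = Nat.card P := by
    rw [← Nat.card_prod]
    exact Nat.card_congr (MulAction.orbitProdStabilizerEquivGroup P ω)
  have h3 : Nat.card (MulAction.stabilizer P ω) ∣ Nat.card (MulAction.stabilizer G ω) := by
    let f : MulAction.stabilizer P ω →* MulAction.stabilizer G ω :=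
      ((Subgroup.inclusion hPG).comp (MulAction.stabilizer P ω).subtype).codRestrict (MulAction.stabilizer G ω)
        fun g => g.2
    apply Subgroup.card_dvd_of_injective f
    intro a b hab
    have h4 := congrArg (fun z : MulAction.stabilizer G ω => ((z : G) : Equiv.Perm X)) hab
    exact Subtype.ext (Subtype.ext h4)
  obtain ⟨s, hs⟩ := h3
  have hpos : 0 < Nat.card (MulAction.stabilizer P ω) := Nat.card_pos
  have h4 : k * 2 ^ m * ((2 ^ m + 1) * s) = Nat.card (MulAction.orbit P ω) * c := by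
    apply Nat.eq_of_mul_eq_mul_right hpos
    calc k * 2 ^ m * ((2 ^ m + 1) * s) * Nat.card (MulAction.stabilizer P ω)
        = k * ((2 ^ m + 1) * 2 ^ m) * (Nat.card (MulAction.stabilizer P ω) * s) := by ring
      _ = Nat.card P * c := by rw [← hs, ← hGo, h1, hc]
      _ = Nat.card (MulAction.orbit P ω) * Nat.card (MulAction.stabilizer P ω) * c := by rw [h2]
      _ = _ := by ring
  have h5 : k * 2 ^ m ∣ Nat.card (MulAction.orbit P ω) := by
    have h6 : Nat.Coprime (k * 2 ^ m) c := by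
      rw [he, ← pow_add]
      exact Nat.Coprime.pow_left _ (Nat.coprime_two_left.2 hodd)
    exact h6.dvd_of_dvd_mul_right ⟨_, h4.symm⟩
  have h6 : MulAction.orbit P ω = S := by
    apply Set.eq_of_subset_of_ncard_le hPS
    rw [← Nat.card_coe_set_eq, ← Nat.card_coe_set_eq, hS]
    apply Nat.le_of_dvd _ h5
    have : Nonempty (MulAction.orbit P ω) := ⟨⟨ω, MulAction.mem_orbit_self ω⟩⟩
    exact Nat.card_pos
  obtain ⟨b, hb⟩ := Fin.exists_succ_eq.2 hy
  have h7 : (((j, 0), (j, y)) : X × X) ∈ MulAction.orbit P ω := by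
    rw [h6]
    exact ⟨(j, b), by rw [← hb]⟩
  obtain ⟨g, hg⟩ := h7
  exact ⟨g, g.2, (Prod.ext_iff.1 hg).2⟩

theorem papp {α : Type*} (f : Equiv.Perm α) (x : α) : f (f⁻¹ x) = x := Equiv.apply_symm_apply f x

theorem papp' {α : Type*} (f : Equiv.Perm α) (x : α) : f⁻¹ (f x) = x := Equiv.symm_apply_apply f x

variable {Y : Type u} [Group Y] {V : Type u} [AddCommGroup V] [DistribMulAction Y V]

section act

variable {H R : Subgroup Y} {k m : ℕ} {co : V → Fin k → Fin (2 ^ m + 1) → ZMod 2} (K : KSym V H R k m co)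

/-- the transposition of the letters `a`, `b` of the block `i` -/
def tp {k n : ℕ} (i : Fin k) (a b : Fin n) : Fin k → Equiv.Perm (Fin n) := Function.update 1 i (Equiv.swap a b)

theorem tp_self {k n : ℕ} (i : Fin k) (a b : Fin n) : tp i a b i = Equiv.swap a b := Function.update_self i _ _

theorem tp_of_ne {k n : ℕ} {i j : Fin k} (h : j ≠ i) (a b : Fin n) : tp i a b j = 1 := by
  rw [tp, Function.update_of_ne h]; rfl

theorem tp_comm {k n : ℕ} (i : Fin k) (a b : Fin n) : tp i a b = tp i b a := by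
  rw [tp, tp, Equiv.swap_comm]

theorem tp_mul_self {k n : ℕ} (i : Fin k) (a b : Fin n) : tp i a b * tp i a b = 1 := by
  funext j
  rw [Pi.mul_apply]
  by_cases h : j = i
  · subst h
    rw [tp_self, Equiv.swap_mul_self]; rfl
  · rw [tp_of_ne h, mul_one]; rfl

/-- the vector with the coordinates `{a, b}` in the block `i` -/
def dl {k n : ℕ} (i : Fin k) (a b : Fin n) : Fin k → Fin n → ZMod 2 := Pi.single i (Pi.single a 1 + Pi.single b 1)

theorem dl_apply {k n : ℕ} (i : Fin k) (a b : Fin n) (j : Fin k) (x : Fin n) :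
    dl i a b j x = if j = i then (if x = a then 1 else 0) + (if x = b then 1 else 0) else 0 := by
  unfold dl
  by_cases h : j = i
  · subst h
    rw [Pi.single_eq_same, if_pos rfl, Pi.add_apply, Pi.single_apply, Pi.single_apply]
  · rw [Pi.single_eq_of_ne h, if_neg h]; rfl

theorem dl_sum {k n : ℕ} (i : Fin k) (a b : Fin n) (j : Fin k) : ∑ x, dl i a b j x = 0 := by
  simp only [dl_apply]
  by_cases h : j = i
  · simp only [if_pos h, Finset.sum_add_distrib, Finset.sum_ite_eq', Finset.mem_univ, if_true]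
    exact CharTwo.add_self_eq_zero 1
  · simp only [if_neg h, Finset.sum_const_zero]

include K

theorem exists_dl (i : Fin k) (a b : Fin (2 ^ m + 1)) : ∃ v ∈ WW V H R, co v = dl i a b := K.surj _ (dl_sum i a b)

theorem five_le : 5 ≤ 2 ^ m + 1 := by
  have h1 : 2 ^ 2 ≤ 2 ^ m := Nat.pow_le_pow_right (by norm_num) K.two_le
  omega

/-- a letter outside a small set -/
theorem exists_not (s : Finset (Fin (2 ^ m + 1))) (hs : s.card ≤ 4) : ∃ x, x ∉ s := by
  by_contra hcon
  push Not at hcon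
  have h1 : s = Finset.univ := Finset.eq_univ_iff_forall.2 hcon
  have h2 := five_le K
  rw [h1, Finset.card_univ, Fintype.card_fin] at hs
  omega

theorem co_zero : co 0 = 0 := by
  have h1 := K.add 0 (zero_mem _) 0 (zero_mem _)
  rw [add_zero] at h1
  exact left_eq_add.1 h1

/-- the coordinates as a homomorphism -/
def coH : WW V H R →+ (Fin k → Fin (2 ^ m + 1) → ZMod 2) where
  toFun w := co w
  map_zero' := co_zero K
  map_add' v w := K.add v v.2 w w.2

theorem co_eq_zero_of {w : V} (hw : w ∈ WW V H R) (h : ∀ i x, x ≠ 0 → co w i x = 0) : co w = 0 := by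
  funext i x
  by_cases hx : x = 0
  · subst hx
    have h1 := K.even w hw i
    rw [Finset.sum_eq_single 0 (fun x _ hx => h i x hx) (fun h => absurd (Finset.mem_univ _) h)] at h1
    exact h1
  · exact h i x hx

theorem actS_mul {g h : Y} {σ σ' : Equiv.Perm (Fin k)} {τ τ' : Fin k → Equiv.Perm (Fin (2 ^ m + 1))} (hh : h ∈ H)
    (h1 : ActS V H R co g σ τ) (h2 : ActS V H R co h σ' τ') :
    ActS V H R co (g * h) (σ * σ') fun i => τ (σ' i) * τ' i := by
  intro v hv i x
  rw [mul_smul, Equiv.Perm.mul_apply, Equiv.Perm.mul_apply, h1 _ (smul_mem_WW hh hv), h2 v hv]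

omit K in
theorem actS_mul1 {g h : Y} {τ τ' : Fin k → Equiv.Perm (Fin (2 ^ m + 1))} (hh : h ∈ H)
    (h1 : ActS V H R co g 1 τ) (h2 : ActS V H R co h 1 τ') : ActS V H R co (g * h) 1 (τ * τ') := by
  intro v hv i x
  have h3 := h1 _ (smul_mem_WW hh hv) i (τ' i x)
  rw [mul_smul]
  exact h3.trans (h2 v hv i x)

omit K in
theorem actS_one : ActS V H R co (1 : Y) 1 1 := fun v _ i x => by rw [one_smul]; rfl

omit K in
theorem actS_inv1 {g : Y} (hg : g ∈ H) {τ : Fin k → Equiv.Perm (Fin (2 ^ m + 1))} (h1 : ActS V H R co g 1 τ) :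
    ActS V H R co g⁻¹ 1 τ⁻¹ := by
  intro v hv i x
  have h3 := h1 _ (smul_mem_WW (H.inv_mem hg) hv) i ((τ⁻¹) i x)
  rw [smul_inv_smul] at h3
  rw [Equiv.Perm.one_apply]
  have h4 : (τ i) ((τ⁻¹) i x) = x := by rw [Pi.inv_apply]; exact papp _ _
  rw [h4] at h3
  exact h3.symm

/-- the coordinates separate the letters -/
theorem separate {i j : Fin k} {x y : Fin (2 ^ m + 1)} (h : ∀ v ∈ WW V H R, co v i x = co v j y) : i = j ∧ x = y := by
  obtain ⟨z, hz⟩ := exists_not K {x, y} (by
    have := Finset.card_le_two (a := x) (b := y); omega)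
  rw [Finset.mem_insert, Finset.mem_singleton, not_or] at hz
  obtain ⟨v, hv, hco⟩ := exists_dl K i x z
  have h1 := h v hv
  rw [hco, dl_apply, dl_apply, if_pos rfl, if_pos rfl, if_neg (Ne.symm hz.1), add_zero] at h1
  by_cases hij : j = i
  · subst hij
    rw [if_pos rfl] at h1
    by_cases hxy : y = x
    · exact ⟨rfl, hxy.symm⟩
    · rw [if_neg hxy, if_neg (Ne.symm hz.2), add_zero] at h1
      exact absurd h1 one_ne_zero
  · rw [if_neg hij] at h1
    exact absurd h1 one_ne_zero

theorem actS_unique {g : Y} (hg : g ∈ H) {σ σ' : Equiv.Perm (Fin k)} {τ τ' : Fin k → Equiv.Perm (Fin (2 ^ m + 1))}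
    (h1 : ActS V H R co g σ τ) (h2 : ActS V H R co g σ' τ') : σ = σ' ∧ τ = τ' := by
  have key : ∀ i x, σ i = σ' i ∧ τ i x = τ' i x := by
    intro i x
    apply separate K
    intro v hv
    have h3 := h1 _ (smul_mem_WW (H.inv_mem hg) hv) i x
    have h4 := h2 _ (smul_mem_WW (H.inv_mem hg) hv) i x
    rw [smul_inv_smul] at h3 h4
    rw [h3, h4]
  exact ⟨Equiv.ext fun i => (key i 0).1, funext fun i => Equiv.ext fun x => (key i x).2⟩

/-- the action on `W` is determined by the action on the coordinates -/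
theorem smul_eq {g h : Y} (hg : g ∈ H) (hh : h ∈ H) (h1 : ∀ w ∈ WW V H R, co (g • w) = co (h • w)) :
    ∀ w ∈ WW V H R, g • w = h • w := by
  obtain ⟨σ, τ, hστ⟩ := K.perm g hg
  have h2 := K.trivH (g⁻¹ * h) (H.mul_mem (H.inv_mem hg) hh) (by
    intro w hw
    funext i x
    have hx : (g⁻¹ * h) • w ∈ WW V H R := smul_mem_WW (H.mul_mem (H.inv_mem hg) hh) hw
    have h3 := hστ _ hx i x
    rw [← mul_smul, mul_inv_cancel_left, ← h1 w hw, hστ w hw] at h3
    exact h3.symm)
  intro w hw
  have h3 := h2 w hw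
  rw [mul_smul, inv_smul_eq_iff] at h3
  exact h3.symm

theorem smul_eq_of_actS {g h : Y} (hg : g ∈ H) (hh : h ∈ H) {σ : Equiv.Perm (Fin k)}
    {τ : Fin k → Equiv.Perm (Fin (2 ^ m + 1))} (h1 : ActS V H R co g σ τ) (h2 : ActS V H R co h σ τ) :
    ∀ w ∈ WW V H R, g • w = h • w := by
  apply smul_eq K hg hh
  intro w hw
  funext i x
  have h3 := h1 w hw (σ⁻¹ i) ((τ (σ⁻¹ i))⁻¹ x)
  have h4 := h2 w hw (σ⁻¹ i) ((τ (σ⁻¹ i))⁻¹ x)
  rw [papp, papp] at h3 h4
  rw [h3, h4]

theorem trD_of {g : Y} (hg : g ∈ H) {τ : Fin k → Equiv.Perm (Fin (2 ^ m + 1))} (h1 : ActS V H R co g 1 τ) :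
    TrD V H R co g := by
  obtain ⟨h, hh, h2, h3⟩ := K.lift τ
  intro d hd h0
  rw [smul_eq_of_actS K hg hh h1 h2 d hd]
  exact h3 d hd h0

end act

end Cfsg.Agent.Omega.NO1.TH.K.SI
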