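import Cfsg.Agent.Omega.NO1.TH.K.SIPI

/-!
# N1, the amalgam, `S_n` type: the factors of `W` (`LFac`)

`Ix` : the pairs of `R`; `Pp` : the elements of `R` acting trivially or as the transposition of the pair;
`Ps` : the vectors of `W` which are constant on all other pairs; `mem_WJ` : `WJ` in coordinates;
`lfac` : `LFac`.
-/

set_option autoImplicit false
set_option linter.unusedSectionVars false
set_option linter.dupNamespace false

namespace Cfsg.Agent.Omega.NO1.TH.K.SI

open Subgroup Cfsg.Agent.Omega.NO1.AB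
open scoped Pointwise

universe u

variable {Y : Type u} [Group Y] {V : Type u} [AddCommGroup V] [DistribMulAction Y V]

section basic

variable {H R : Subgroup Y} {k m : ℕ} {co : V → Fin k → Fin (2 ^ m + 1) → ZMod 2}

/-- the pairs of `R` -/
abbrev Ix (V : Type u) [AddCommGroup V] [DistribMulAction Y V] (H R : Subgroup Y) {k n : ℕ}
    (co : V → Fin k → Fin n → ZMod 2) : Type :=
  {p : Fin k × Fin n × Fin n // p.2.1 < p.2.2 ∧ PI V H R co p.1 p.2.1 p.2.2}

/-- the elements of `R` which act trivially or as the transposition `(a b)` of the block `i` -/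
def Pp (V : Type u) [AddCommGroup V] [DistribMulAction Y V] {H R : Subgroup Y} {k n : ℕ}
    (co : V → Fin k → Fin n → ZMod 2) (hRH : R ≤ H) (i : Fin k) (a b : Fin n) : Subgroup Y where
  carrier := {r | r ∈ R ∧ (ActS V H R co r 1 1 ∨ ActS V H R co r 1 (tp i a b))}
  one_mem' := ⟨R.one_mem, Or.inl fun v _ i x => by rw [one_smul]; rfl⟩
  mul_mem' := by
    have key : ∀ {g h : Y} {τ τ' : Fin k → Equiv.Perm (Fin n)}, h ∈ H → ActS V H R co g 1 τ → ActS V H R co h 1 τ' →
        ActS V H R co (g * h) 1 (τ * τ') := by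
      intro g h τ τ' hh h1 h2 v hv i x
      rw [mul_smul]
      exact (h1 _ (smul_mem_WW hh hv) i (τ' i x)).trans (h2 v hv i x)
    rintro r s ⟨hr, h1⟩ ⟨hs, h2⟩
    refine ⟨R.mul_mem hr hs, ?_⟩
    rcases h1 with h1 | h1 <;> rcases h2 with h2 | h2
    · left
      have := key (hRH hs) h1 h2
      rwa [one_mul] at this
    · right
      have := key (hRH hs) h1 h2
      rwa [one_mul] at this
    · right
      have := key (hRH hs) h1 h2
      rwa [mul_one] at this
    · left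
      have := key (hRH hs) h1 h2
      rwa [tp_mul_self] at this
  inv_mem' := by
    rintro r ⟨hr, h1⟩
    refine ⟨R.inv_mem hr, ?_⟩
    have hr' := H.inv_mem (hRH hr)
    rcases h1 with h1 | h1
    · left
      intro v hv i x
      have h3 := h1 _ (smul_mem_WW hr' hv) i x
      rw [smul_inv_smul] at h3
      exact h3.symm
    · right
      intro v hv j x
      have h3 := h1 _ (smul_mem_WW hr' hv) j (tp i a b j x)
      rw [smul_inv_smul] at h3
      have e : tp i a b j (tp i a b j x) = x := by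
        have := congrFun (tp_mul_self i a b) j
        rw [Pi.mul_apply] at this
        exact Equiv.ext_iff.1 this x
      rw [e] at h3
      exact h3.symm

theorem mem_Pp {hRH : R ≤ H} {i : Fin k} {a b : Fin (2 ^ m + 1)} {r : Y} :
    r ∈ Pp V co hRH i a b ↔ r ∈ R ∧ (ActS V H R co r 1 1 ∨ ActS V H R co r 1 (tp i a b)) := Iff.rfl

variable (K : KSym V H R k m co)

/-- the vectors which are constant on the pairs different from `{a, b}` -/
def Ps (K : KSym V H R k m co) (i : Fin k) (a b : Fin (2 ^ m + 1)) : AddSubgroup V where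
  carrier := {w | w ∈ WW V H R ∧ ∀ j c d, PI V H R co j c d → ¬ (j = i ∧ (c = a ∨ c = b)) → co w j c = co w j d}
  add_mem' := by
    rintro v w ⟨hv, h1⟩ ⟨hw, h2⟩
    refine ⟨add_mem hv hw, fun j c d h3 h4 => ?_⟩
    rw [K.add v hv w hw]
    simp only [Pi.add_apply]
    rw [h1 j c d h3 h4, h2 j c d h3 h4]
  zero_mem' := ⟨zero_mem _, fun j c d _ _ => by rw [co_zero K]; rfl⟩
  neg_mem' := by
    rintro v ⟨hv, h1⟩
    refine ⟨neg_mem hv, fun j c d h3 h4 => ?_⟩
    have h5 : co (-v) = -co v := (coH K).map_neg ⟨v, hv⟩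
    rw [h5]
    simp only [Pi.neg_apply]
    rw [h1 j c d h3 h4]

theorem mem_Ps {i : Fin k} {a b : Fin (2 ^ m + 1)} {w : V} : w ∈ Ps K i a b ↔
    w ∈ WW V H R ∧ ∀ j c d, PI V H R co j c d → ¬ (j = i ∧ (c = a ∨ c = b)) → co w j c = co w j d := Iff.rfl

omit K in
theorem exists_ix {i : Fin k} {x y : Fin (2 ^ m + 1)} (h : PI V H R co i x y) :
    ∃ p : Ix V H R co, p.1.1 = i ∧ ((p.1.2.1 = x ∧ p.1.2.2 = y) ∨ (p.1.2.1 = y ∧ p.1.2.2 = x)) := by
  rcases lt_or_gt_of_ne h.1 with h1 | h1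
  · exact ⟨⟨(i, x, y), h1, h⟩, rfl, Or.inl ⟨rfl, rfl⟩⟩
  · exact ⟨⟨(i, y, x), h1, h.symm⟩, rfl, Or.inr ⟨rfl, rfl⟩⟩

include K

omit K in
theorem actS_inv {g : Y} (hg : g ∈ H) {σ : Equiv.Perm (Fin k)} {τ : Fin k → Equiv.Perm (Fin (2 ^ m + 1))}
    (h1 : ActS V H R co g σ τ) : ActS V H R co g⁻¹ σ⁻¹ fun i => (τ (σ⁻¹ i))⁻¹ := by
  intro v hv i x
  have h3 := h1 _ (smul_mem_WW (H.inv_mem hg) hv) (σ⁻¹ i) ((τ (σ⁻¹ i))⁻¹ x)
  rw [smul_inv_smul, papp, papp] at h3
  exact h3.symm

theorem fix_of_one {g : Y} (hg : g ∈ H) (h : ActS V H R co g 1 1) {w : V} (hw : w ∈ WW V H R) : g • w = w := by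
  have h1 := smul_eq_of_actS K hg H.one_mem h actS_one w hw
  rwa [one_smul] at h1

/-- elements of `Pp` fix the vectors which are constant on the pair -/
theorem fix_Pp (two : ∀ v : V, v + v = 0) {hRH : R ≤ H} {i : Fin k} {a b : Fin (2 ^ m + 1)} (hab : a ≠ b) {r : Y}
    (hr : r ∈ Pp V co hRH i a b) {w : V} (hw : w ∈ WW V H R) (hc : co w i a = co w i b) : r • w = w := by
  rcases hr.2 with h1 | h1
  · exact fix_of_one K (hRH hr.1) h1 hw
  · exact fix_of_const K two (hRH hr.1) hab h1 hw hc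

/-- the transport of `Pp` -/
theorem map_Pp {hRH : R ≤ H} {i : Fin k} {a b : Fin (2 ^ m + 1)} {g r : Y} (hr : r ∈ R) {σ : Equiv.Perm (Fin k)}
    {τ : Fin k → Equiv.Perm (Fin (2 ^ m + 1))} (hrt : ActS V H R co r σ τ) (hg : g ∈ Pp V co hRH i a b) :
    r * g * r⁻¹ ∈ Pp V co hRH (σ i) (τ i a) (τ i b) := by
  refine ⟨R.mul_mem (R.mul_mem hr hg.1) (R.inv_mem hr), ?_⟩
  rcases hg.2 with h1 | h1
  · left
    intro v hv j x
    have h2 := fix_of_one K (hRH hg.1) h1 (smul_mem_WW (H.inv_mem (hRH hr)) hv)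
    rw [mul_smul, mul_smul, h2, smul_inv_smul]
    rfl
  · right
    exact actS_conj_tp (hRH hr) (hRH hg.1) hrt h1

/-- the transport of `Ps` -/
theorem map_Ps (hRH : R ≤ H) {i : Fin k} {a b : Fin (2 ^ m + 1)} {r : Y} (hr : r ∈ R) {σ : Equiv.Perm (Fin k)}
    {τ : Fin k → Equiv.Perm (Fin (2 ^ m + 1))} (hrt : ActS V H R co r σ τ) {w : V} (hw : w ∈ Ps K i a b) :
    r • w ∈ Ps K (σ i) (τ i a) (τ i b) := by
  refine ⟨smul_mem_WW (hRH hr) hw.1, fun j c d h1 h2 => ?_⟩
  obtain ⟨j', rfl⟩ : ∃ j', j = σ j' := ⟨σ⁻¹ j, by rw [papp]⟩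
  obtain ⟨c', rfl⟩ : ∃ y', c = τ j' y' := ⟨(τ j')⁻¹ c, by rw [papp]⟩
  obtain ⟨d', rfl⟩ : ∃ y', d = τ j' y' := ⟨(τ j')⁻¹ d, by rw [papp]⟩
  rw [hrt w hw.1, hrt w hw.1]
  have h3 := h1.map K hRH (R.inv_mem hr) (actS_inv (hRH hr) hrt)
  rw [papp', papp', papp'] at h3
  apply hw.2 j' c' d' h3
  rintro ⟨rfl, h4⟩
  apply h2
  refine ⟨rfl, ?_⟩
  rcases h4 with rfl | rfl
  · exact Or.inl rfl
  · exact Or.inr rfl

omit K in
theorem dl_const (huniq : ∀ {i : Fin k} {x y z : Fin (2 ^ m + 1)}, PI V H R co i x y → PI V H R co i x z → y = z)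
    {i j : Fin k} {x y c d : Fin (2 ^ m + 1)} (h1 : PI V H R co i x y) (h2 : PI V H R co j c d) :
    dl i x y j c = dl i x y j d := by
  simp only [dl_apply]
  by_cases hj : j = i
  · subst hj
    rw [if_pos rfl, if_pos rfl]
    by_cases hcx : c = x
    · subst hcx
      have h3 := huniq h1 h2
      subst h3
      rw [if_pos rfl, if_neg h1.1, if_neg h1.1.symm, if_pos rfl]; decide
    by_cases hcy : c = y
    · subst hcy
      have h3 := huniq h1.symm h2
      subst h3
      rw [if_pos rfl, if_neg h1.1, if_neg h1.1.symm, if_pos rfl]; decide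
    have hdx : d ≠ x := by
      rintro rfl
      exact hcy (huniq h2.symm h1)
    have hdy : d ≠ y := by
      rintro rfl
      exact hcx (huniq h2.symm h1.symm)
    rw [if_neg hcx, if_neg hcy, if_neg hdx, if_neg hdy]
  · rw [if_neg hj, if_neg hj]

/-- **products of transpositions** -/
theorem mem_sup_of (huniq : ∀ {i : Fin k} {x y z : Fin (2 ^ m + 1)}, PI V H R co i x y → PI V H R co i x z → y = z)
    {hRH : R ≤ H} {Δ : Set (Ix V H R co)} (hΔ : Δ.Nonempty) :
    ∀ (N : ℕ) {r : Y} (_ : r ∈ R) {τ : Fin k → Equiv.Perm (Fin (2 ^ m + 1))} (_ : ActS V H R co r 1 τ)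
      (_ : Nat.card {q : Fin k × Fin (2 ^ m + 1) // τ q.1 q.2 ≠ q.2} = N)
      (_ : ∀ i x, τ i x ≠ x → ∃ p ∈ Δ, p.1.1 = i ∧
        ((p.1.2.1 = x ∧ p.1.2.2 = τ i x) ∨ (p.1.2.1 = τ i x ∧ p.1.2.2 = x))),
      r ∈ ⨆ p ∈ Δ, Pp V co hRH p.1.1 p.1.2.1 p.1.2.2 := by
  intro N
  induction N using Nat.strong_induction_on with
  | _ N ih =>
    intro r hr τ hrt hN hτ
    have hPI : ∀ i x, τ i x ≠ x → PI V H R co i x (τ i x) := by
      intro i x hne
      obtain ⟨p, _, h1, h2⟩ := hτ i x hne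
      rcases h2 with ⟨h2, h3⟩ | ⟨h2, h3⟩
      · have := p.2.2
        rw [h1, h2, h3] at this
        exact this
      · have := p.2.2
        rw [h1, h2, h3] at this
        exact this.symm
    by_cases hex : ∃ i x, τ i x ≠ x
    · obtain ⟨i, x, hne⟩ := hex
      obtain ⟨p, hpΔ, h1, h2⟩ := hτ i x hne
      set y := τ i x with hy
      have hp := hPI i x hne
      rw [← hy] at hp
      obtain ⟨_, s, hs, hst⟩ := id hp
      have hsP : s ∈ Pp V co hRH p.1.1 p.1.2.1 p.1.2.2 := by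
        refine ⟨hs, Or.inr ?_⟩
        rcases h2 with ⟨h2, h3⟩ | ⟨h2, h3⟩
        · rw [h1, h2, h3]; exact hst
        · rw [h1, h2, h3, tp_comm]; exact hst
      have hyx : τ i y = x := by
        have h3 : τ i y ≠ y := by
          intro h4
          exact hne ((τ i).injective h4)
        exact huniq (hPI i y h3) hp.symm
      have hτ' : ∀ j z, (tp i x y * τ) j z = if j = i ∧ (z = x ∨ z = y) then z else τ j z := by
        intro j z
        rw [Pi.mul_apply, Equiv.Perm.mul_apply]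
        by_cases hj : j = i
        · subst hj
          rw [tp_self]
          by_cases hzx : z = x
          · subst hzx
            rw [if_pos ⟨rfl, Or.inl rfl⟩, ← hy, Equiv.swap_apply_right]
          by_cases hzy : z = y
          · rw [hzy, if_pos ⟨rfl, Or.inr rfl⟩, hyx, Equiv.swap_apply_left]
          rw [if_neg (by rintro ⟨_, h | h⟩ <;> contradiction), Equiv.swap_apply_of_ne_of_ne]
          · intro h3
            apply hzy
            rw [← hyx] at h3
            exact (τ j).injective h3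
          · intro h3
            exact hzx ((τ j).injective (h3.trans hy))
        · rw [tp_of_ne hj, if_neg (fun h => hj h.1)]; rfl
      have h4 : s * r ∈ ⨆ p ∈ Δ, Pp V co hRH p.1.1 p.1.2.1 p.1.2.2 := by
        refine ih (Nat.card {q : Fin k × Fin (2 ^ m + 1) // (tp i x y * τ) q.1 q.2 ≠ q.2}) ?_ (R.mul_mem hs hr)
          (actS_mul1 (hRH hr) hst hrt) rfl ?_
        · rw [← hN]
          have hsub : {q : Fin k × Fin (2 ^ m + 1) | (tp i x y * τ) q.1 q.2 ≠ q.2} ⊂
              {q : Fin k × Fin (2 ^ m + 1) | τ q.1 q.2 ≠ q.2} := by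
            rw [Set.ssubset_iff_of_subset]
            · refine ⟨(i, x), hne, ?_⟩
              rw [Set.mem_ofPred_eq, hτ', if_pos ⟨rfl, Or.inl rfl⟩]
              exact fun h => h rfl
            · rintro ⟨j, z⟩ h5
              rw [Set.mem_ofPred_eq, hτ'] at h5
              by_cases h6 : j = i ∧ (z = x ∨ z = y)
              · rw [if_pos h6] at h5
                exact absurd rfl h5
              · rw [if_neg h6] at h5
                exact h5
          exact Set.ncard_lt_ncard hsub (Set.toFinite _)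
        · intro j z h5
          rw [hτ'] at h5 ⊢
          by_cases h6 : j = i ∧ (z = x ∨ z = y)
          · rw [if_pos h6] at h5
            exact absurd rfl h5
          · rw [if_neg h6] at h5 ⊢
            exact hτ j z h5
      have h5 : s ∈ ⨆ p ∈ Δ, Pp V co hRH p.1.1 p.1.2.1 p.1.2.2 :=
        (le_iSup₂ (f := fun (p : Ix V H R co) (_ : p ∈ Δ) => Pp V co hRH p.1.1 p.1.2.1 p.1.2.2) p hpΔ) hsP
      have h6 := mul_mem (inv_mem h5) h4
      rwa [inv_mul_cancel_left] at h6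
    · push Not at hex
      obtain ⟨p, hp⟩ := hΔ
      apply (le_iSup₂ (f := fun (p : Ix V H R co) (_ : p ∈ Δ) => Pp V co hRH p.1.1 p.1.2.1 p.1.2.2) p hp)
      refine ⟨hr, Or.inl ?_⟩
      intro v hv i x
      have h1 := hrt v hv i x
      rw [hex] at h1
      exact h1

end basic

section amal

variable [Finite Y] [Finite V] {U : Set (Subgroup Y)} {T : Sylow 2 Y} {M H R : Subgroup Y} {t : Y} {k m : ℕ}
  {co : V → Fin k → Fin (2 ^ m + 1) → ZMod 2} (amb : Amb V U T M) (a : Amal U T M H R t) (we : WE V U H R)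
  (K : KSym V H R k m co)
include amb a we K

theorem sup_univ_le {ι : Type} {P : ι → Subgroup Y} : (⨆ p ∈ (Set.univ : Set ι), P p) ≤ ⨆ p, P p :=
  iSup₂_le fun p _ => le_iSup P p

/-- **`WJ` in coordinates** -/
theorem mem_WJ {w : V} : w ∈ WJ V U H R ↔ w ∈ WW V H R ∧ ∀ i x y, PI V H R co i x y → co w i x = co w i y := by
  constructor
  · rintro ⟨hw, h1⟩
    refine ⟨hw, fun i x y hp => ?_⟩
    obtain ⟨B, hB, hBR, c, hc, h2⟩ := exists_member amb a we K hp
    exact const_of_fix amb a we K h2 hw (h1 B hB hBR c hc)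
  · rintro ⟨hw, h1⟩
    refine ⟨hw, fun B hB hBR b hb => ?_⟩
    obtain ⟨τ, h2, h3⟩ := off_member amb a we K hB hBR hb
    obtain ⟨i₀, x₀, y₀, h0⟩ := ne_PI amb a we K
    obtain ⟨p₀, _⟩ := exists_ix h0
    have h4 : b ∈ ⨆ p ∈ (Set.univ : Set (Ix V H R co)), Pp V co a.RH p.1.1 p.1.2.1 p.1.2.2 := by
      refine mem_sup_of K (PI_uniq amb a we K) (Δ := Set.univ) ⟨p₀, Set.mem_univ p₀⟩ _ (hBR hb) h2 rfl fun i x hne => ?_
      obtain ⟨c, hc, h5⟩ := h3 i x hne
      obtain ⟨p, hp1, hp2⟩ := exists_ix (co := co) ⟨Ne.symm hne, c, hBR hc, h5⟩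
      exact ⟨p, Set.mem_univ p, hp1, hp2⟩
    have h5 : (⨆ p ∈ (Set.univ : Set (Ix V H R co)), Pp V co a.RH p.1.1 p.1.2.1 p.1.2.2) ≤
        MulAction.stabilizer Y w := by
      refine iSup₂_le fun p _ r hr => ?_
      exact fix_Pp K amb.two p.2.1.ne hr hw (h1 _ _ _ p.2.2)
    exact h5 h4

/-- the elements of `R` fixing `WJ` act by disjoint transpositions of `R` -/
theorem tau_of_fix {r : Y} (hr : r ∈ R) (h : ∀ x ∈ WJ V U H R, r • x = x) :
    ∃ τ, ActS V H R co r 1 τ ∧ ∀ i x, τ i x ≠ x → PI V H R co i x (τ i x) := by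
  obtain ⟨σ, τ, h1⟩ := K.perm r (a.RH hr)
  have h2 : ∀ i x y, PI V H R co i x y → σ i = i ∧ (τ i x = x ∨ τ i x = y) := by
    intro i x y hp
    obtain ⟨v, hv, hco⟩ := exists_dl K i x y
    have h3 : v ∈ WJ V U H R := by
      refine (mem_WJ amb a we K).2 ⟨hv, fun j c d hcd => ?_⟩
      rw [hco]
      exact dl_const (PI_uniq amb a we K) hp hcd
    have h4 := h1 v hv i x
    rw [h v h3, hco, dl_apply, dl_apply, if_pos rfl, if_pos rfl, if_neg hp.1, add_zero] at h4
    by_cases h5 : σ i = i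
    · refine ⟨h5, ?_⟩
      rw [if_pos h5] at h4
      by_contra h6
      rw [not_or] at h6
      rw [if_neg h6.1, if_neg h6.2, add_zero] at h4
      exact zero_ne_one h4
    · rw [if_neg h5] at h4
      exact absurd h4 zero_ne_one
  have h10 : (1 : Fin (2 ^ m + 1)) ≠ 0 := by
    have h3 := five_le K
    intro h4
    have h5 := congrArg Fin.val h4
    have h6 : ((1 : Fin (2 ^ m + 1)) : ℕ) = 1 % (2 ^ m + 1) := rfl
    rw [h6, Nat.mod_eq_of_lt (by omega)] at h5
    exact one_ne_zero h5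
  have hσ : σ = 1 := by
    apply Equiv.ext
    intro i
    obtain ⟨y, hy⟩ := exists_PI' amb a we K i h10
    exact (h2 i _ y hy).1
  subst hσ
  refine ⟨τ, h1, fun i x hne => ?_⟩
  have hx : x ≠ 0 := by
    rintro rfl
    exact hne (K.fix0 r hr _ τ h1 i)
  obtain ⟨y, hy⟩ := exists_PI' amb a we K i hx
  rcases (h2 i x y hy).2 with h3 | h3
  · exact absurd h3 hne
  · rwa [h3]

/-- a vector is constant on all pairs if it is constant on the sorted pairs -/
theorem const_iff {y : Fin k → Fin (2 ^ m + 1) → ZMod 2}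
    (h : ∀ p : Ix V H R co, y p.1.1 p.1.2.1 = y p.1.1 p.1.2.2) {i : Fin k} {c d : Fin (2 ^ m + 1)}
    (hp : PI V H R co i c d) : y i c = y i d := by
  obtain ⟨p, rfl, h2⟩ := exists_ix hp
  rcases h2 with ⟨rfl, rfl⟩ | ⟨rfl, rfl⟩
  · exact h p
  · exact (h p).symm

theorem ix_ext {p q : Ix V H R co} (h1 : p.1.1 = q.1.1) (h2 : p.1.2.1 = q.1.2.1) : p = q := by
  have h3 : p.1.2.2 = q.1.2.2 := by
    have h4 := p.2.2
    rw [h1, h2] at h4
    exact PI_uniq amb a we K h4 q.2.2
  exact Subtype.ext (Prod.ext h1 (Prod.ext h2 h3))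

/-- a smaller letter is not a larger letter -/
theorem ix_ne (p q : Ix V H R co) (h1 : p.1.1 = q.1.1) : p.1.2.1 ≠ q.1.2.2 := by
  intro h2
  have h3 := p.2.2
  rw [h1, h2] at h3
  have h4 := PI_uniq amb a we K h3 q.2.2.symm
  have h5 := p.2.1
  rw [h2, h4] at h5
  exact absurd h5 (not_lt.2 q.2.1.le)

/-- the sum of the vectors `{a_p, 0}` over a set of pairs -/
theorem exists_half (f : Ix V H R co → Prop) : ∃ s ∈ WW V H R,
    s ∈ (⨆ p : Ix V H R co, Ps K p.1.1 p.1.2.1 p.1.2.2) ∧ ∀ p : Ix V H R co,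
      co s p.1.1 p.1.2.2 = 0 ∧ (f p → co s p.1.1 p.1.2.1 = 1) ∧ (¬ f p → co s p.1.1 p.1.2.1 = 0) := by
  classical
  have : Fintype (Ix V H R co) := Fintype.ofFinite _
  have h1 : ∀ p : Ix V H R co, ∃ v : WW V H R, coH K v = if f p then dl p.1.1 p.1.2.1 0 else 0 := by
    intro p
    by_cases hp : f p
    · obtain ⟨v, hv, hco⟩ := exists_dl K p.1.1 p.1.2.1 0
      exact ⟨⟨v, hv⟩, by rw [if_pos hp]; exact hco⟩
    · exact ⟨0, by rw [map_zero, if_neg hp]⟩
  choose v hv using h1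
  have h0 : ∀ p : Ix V H R co, p.1.2.1 ≠ 0 := fun p => p.2.2.ne0 K
  have h0' : ∀ p : Ix V H R co, p.1.2.2 ≠ 0 := fun p => p.2.2.symm.ne0 K
  -- values
  have val1 : ∀ p q : Ix V H R co, p ≠ q → coH K (v p) q.1.1 q.1.2.1 = 0 := by
    intro p q hpq
    rw [hv]
    by_cases hp : f p
    · rw [if_pos hp, dl_apply]
      by_cases h2 : q.1.1 = p.1.1
      · rw [if_pos h2, if_neg (fun h3 => hpq (ix_ext amb a we K h2.symm h3.symm)), if_neg (h0 q), add_zero]
      · rw [if_neg h2]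
    · rw [if_neg hp]; rfl
  have val2 : ∀ p q : Ix V H R co, coH K (v p) q.1.1 q.1.2.2 = 0 := by
    intro p q
    rw [hv]
    by_cases hp : f p
    · rw [if_pos hp, dl_apply]
      by_cases h2 : q.1.1 = p.1.1
      · rw [if_pos h2, if_neg (fun h3 => ix_ne amb a we K p q h2.symm h3.symm), if_neg (h0' q), add_zero]
      · rw [if_neg h2]
    · rw [if_neg hp]; rfl
  have val3 : ∀ p : Ix V H R co, coH K (v p) p.1.1 p.1.2.1 = if f p then 1 else 0 := by
    intro p
    rw [hv]
    by_cases hp : f p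
    · rw [if_pos hp, if_pos hp, dl_apply, if_pos rfl, if_pos rfl, if_neg (h0 p), add_zero]
    · rw [if_neg hp, if_neg hp]; rfl
  have hvP : ∀ p, ((v p : WW V H R) : V) ∈ Ps K p.1.1 p.1.2.1 p.1.2.2 := by
    intro p
    refine ⟨(v p).2, ?_⟩
    intro j c d hcd hne
    obtain ⟨q, rfl, h2⟩ := exists_ix hcd
    have hpq : p ≠ q := by
      rintro rfl
      apply hne
      refine ⟨rfl, ?_⟩
      rcases h2 with ⟨h2, _⟩ | ⟨_, h2⟩
      · exact Or.inl h2.symm
      · exact Or.inr h2.symm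
    have h3 := val1 p q hpq
    have h4 := val2 p q
    change co (v p) q.1.1 c = co (v p) q.1.1 d
    change co (v p) q.1.1 q.1.2.1 = 0 at h3
    change co (v p) q.1.1 q.1.2.2 = 0 at h4
    rcases h2 with ⟨h2, h5⟩ | ⟨h2, h5⟩
    · rw [← h2, ← h5, h3, h4]
    · rw [← h2, ← h5, h3, h4]
  refine ⟨((∑ p, v p : WW V H R) : V), (∑ p, v p : WW V H R).2, ?_, fun q => ?_⟩
  · rw [AddSubgroup.val_finsetSum]
    exact AddSubgroup.sum_mem _ fun p _ => (le_iSup (fun p : Ix V H R co => Ps K p.1.1 p.1.2.1 p.1.2.2) p) (hvP p)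
  · have e : co ((∑ p, v p : WW V H R) : V) = ∑ p, coH K (v p) := by
      change coH K (∑ p, v p) = _
      rw [map_sum]
    rw [e]
    simp only [Finset.sum_apply]
    refine ⟨Finset.sum_eq_zero fun p _ => val2 p q, fun hq => ?_, fun hq => ?_⟩
    · rw [Finset.sum_eq_single q (fun p _ hp => val1 p q hp) (fun h => absurd (Finset.mem_univ _) h), val3, if_pos hq]
    · rw [Finset.sum_eq_single q (fun p _ hp => val1 p q hp) (fun h => absurd (Finset.mem_univ _) h), val3, if_neg hq]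

/-- **the factors of `W`** -/
theorem lfac : LFac V U H R (fun p : Ix V H R co => Pp V co a.RH p.1.1 p.1.2.1 p.1.2.2)
    (fun p : Ix V H R co => Ps K p.1.1 p.1.2.1 p.1.2.2) where
  le := fun p r hr => hr.1
  fixJ := fun p r hr x hx => by
    obtain ⟨h1, h2⟩ := (mem_WJ amb a we K).1 hx
    exact fix_Pp K amb.two p.2.1.ne hr h1 (h2 _ _ _ p.2.2)
  ofJ := fun r hr h => by
    obtain ⟨τ, h1, h2⟩ := tau_of_fix amb a we K hr h
    obtain ⟨i₀, x₀, y₀, h0⟩ := ne_PI amb a we K
    obtain ⟨p₀, _⟩ := exists_ix h0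
    have h4 : r ∈ ⨆ p ∈ (Set.univ : Set (Ix V H R co)), Pp V co a.RH p.1.1 p.1.2.1 p.1.2.2 := by
      refine mem_sup_of K (PI_uniq amb a we K) (Δ := Set.univ) ⟨p₀, Set.mem_univ p₀⟩ _ hr h1 rfl fun i x hne => ?_
      obtain ⟨p, hp1, hp2⟩ := exists_ix (h2 i x hne)
      exact ⟨p, Set.mem_univ p, hp1, hp2⟩
    exact (iSup₂_le fun p _ => le_iSup (fun p : Ix V H R co => Pp V co a.RH p.1.1 p.1.2.1 p.1.2.2) p :
      (⨆ p ∈ (Set.univ : Set (Ix V H R co)), Pp V co a.RH p.1.1 p.1.2.1 p.1.2.2) ≤ _) h4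
  Ψle := fun p w hw => hw.1
  sup := fun w hw => by
    obtain ⟨s, hs, hsP, hval⟩ := exists_half amb a we K fun p : Ix V H R co => co w p.1.1 p.1.2.1 ≠ co w p.1.1 p.1.2.2
    have h1 : w + s ∈ WJ V U H R := by
      refine (mem_WJ amb a we K).2 ⟨add_mem hw hs, fun i x y hp => ?_⟩
      refine const_iff amb a we K ?_ hp
      intro p
      rw [K.add w hw s hs]
      simp only [Pi.add_apply]
      obtain ⟨h2, h3, h4⟩ := hval p
      by_cases h5 : co w p.1.1 p.1.2.1 = co w p.1.1 p.1.2.2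
      · rw [h2, h4 (fun h => h h5), h5]
      · rw [h2, h3 h5]
        generalize co w p.1.1 p.1.2.1 = z at h5
        generalize co w p.1.1 p.1.2.2 = z' at h5
        revert h5; revert z z'; decide
    have e : w = (w + s) + s := by rw [add_assoc, amb.two, add_zero]
    rw [e]
    exact add_mem ((le_sup_left : WJ V U H R ≤ _) h1) ((le_sup_right : (⨆ p : Ix V H R co,
      Ps K p.1.1 p.1.2.1 p.1.2.2) ≤ _) hsP)
  orth := fun p p' hpp r hr x hx => by
    apply fix_Pp K amb.two p.2.1.ne hr hx.1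
    apply hx.2 _ _ _ p.2.2
    rintro ⟨h1, h2 | h2⟩
    · exact hpp (ix_ext amb a we K h1 h2)
    · exact ix_ne amb a we K p p' h1 h2
  quad := fun p r hr x hx => by
    have hrx := smul_mem_WW (a.RH hr.1) hx.1
    refine (mem_WJ amb a we K).2 ⟨add_mem hrx hx.1, fun j c d hcd => ?_⟩
    rw [K.add _ hrx x hx.1]
    simp only [Pi.add_apply]
    rcases hr.2 with h1 | h1
    · rw [fix_of_one K (a.RH hr.1) h1 hx.1, CharTwo.add_self_eq_zero, CharTwo.add_self_eq_zero]
    · have h2 : ∀ c, co (r • x) j c = co x j (tp p.1.1 p.1.2.1 p.1.2.2 j c) := by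
        intro c
        have h3 := h1 x hx.1 j (tp p.1.1 p.1.2.1 p.1.2.2 j c)
        have e : tp p.1.1 p.1.2.1 p.1.2.2 j (tp p.1.1 p.1.2.1 p.1.2.2 j c) = c := by
          have := congrFun (tp_mul_self p.1.1 p.1.2.1 p.1.2.2) j
          rw [Pi.mul_apply] at this
          exact Equiv.ext_iff.1 this c
        rw [e] at h3
        exact h3
      rw [h2, h2]
      by_cases hj : j = p.1.1
      · subst hj
        rw [tp_self]
        have hu := @PI_uniq _ _ _ _ _ _ _ _ _ _ _ _ _ _ _ _ amb a we K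
        by_cases hc1 : c = p.1.2.1
        · have hd : d = p.1.2.2 := by rw [hc1] at hcd; exact hu hcd p.2.2
          rw [hc1, hd, Equiv.swap_apply_left, Equiv.swap_apply_right, add_comm]
        by_cases hc2 : c = p.1.2.2
        · have hd : d = p.1.2.1 := by rw [hc2] at hcd; exact hu hcd p.2.2.symm
          rw [hc2, hd, Equiv.swap_apply_left, Equiv.swap_apply_right, add_comm]
        have hd1 : d ≠ p.1.2.1 := by
          intro h3
          have h4 := hcd.symm
          rw [h3] at h4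
          exact hc2 (hu h4 p.2.2)
        have hd2 : d ≠ p.1.2.2 := by
          intro h3
          have h4 := hcd.symm
          rw [h3] at h4
          exact hc1 (hu h4 p.2.2.symm)
        rw [Equiv.swap_apply_of_ne_of_ne hc1 hc2, Equiv.swap_apply_of_ne_of_ne hd1 hd2, CharTwo.add_self_eq_zero,
          CharTwo.add_self_eq_zero]
      · rw [tp_of_ne hj]
        change co x j c + co x j c = co x j d + co x j d
        rw [CharTwo.add_self_eq_zero, CharTwo.add_self_eq_zero]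
  trans := fun p p' => by
    obtain ⟨r, hr, σ, τ, h1, h2, h3, h4⟩ := trans_PI' amb a we K p.2.2 p'.2.2
    have hi := actS_inv (a.RH hr) h1
    refine ⟨r, hr, ?_, ?_⟩
    · ext g
      rw [mem_conj]
      constructor
      · intro hg
        have h5 := map_Pp K (R.inv_mem hr) hi hg
        rw [← h2, ← h3, ← h4, papp', papp', papp', inv_inv] at h5
        exact h5
      · intro hg
        have h5 := map_Pp K hr h1 hg
        rw [h2, h3, h4] at h5
        have e : r * (r⁻¹ * g * r) * r⁻¹ = g := by group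
        rwa [e] at h5
    · ext w
      rw [mem_smul_as]
      constructor
      · intro hw
        have h5 := map_Ps K a.RH (R.inv_mem hr) hi hw
        rw [← h2, ← h3, ← h4, papp', papp', papp'] at h5
        exact h5
      · intro hw
        have h5 := map_Ps K a.RH hr h1 hw
        rw [h2, h3, h4, smul_inv_smul] at h5
        exact h5

end amal

end Cfsg.Agent.Omega.NO1.TH.K.SI
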