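import Cfsg.Agent.Omega.NO1.TH.K.SIBase

/-!
# N1, the amalgam, `S_n` type: transpositions and pairs

`fix_of_const` : `g ∈ H` acting as the transposition `(a b)` of the block `i` fixes every `w ∈ W` which is constant
on `{a, b}`; `trans_pt` : `R` is transitive on the nonzero letters; `PI` : the pairs of `R`.
-/

set_option autoImplicit false
set_option linter.unusedSectionVars false
set_option linter.dupNamespace false

namespace Cfsg.Agent.Omega.NO1.TH.K.SI

open Subgroup Cfsg.Agent.Omega.NO1.AB
open scoped Pointwise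

universe u

variable {Y : Type u} [Group Y] {V : Type u} [AddCommGroup V] [DistribMulAction Y V]

section act

variable {H R : Subgroup Y} {k m : ℕ} {co : V → Fin k → Fin (2 ^ m + 1) → ZMod 2} (K : KSym V H R k m co)

/-- an even vector is a sum of the vectors `{c, o}` -/
theorem eq_sum_dl {k n : ℕ} (y : Fin k → Fin n → ZMod 2) (hy : ∀ i, ∑ x, y i x = 0) (o : Fin n) :
    y = ∑ j, ∑ c, if y j c = 0 then 0 else dl j c o := by
  have h1 : ∀ j c, (if y j c = 0 then 0 else dl j c o) = y j c • dl j c o := by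
    intro j c
    by_cases h : y j c = 0
    · rw [if_pos h, h, zero_smul]
    · have h2 : y j c = 1 := by
        generalize y j c = z at h
        revert h; revert z; decide
      rw [if_neg h, h2, one_smul]
  simp only [h1]
  funext j' y'
  simp only [Finset.sum_apply, Pi.smul_apply, dl_apply, smul_eq_mul]
  rw [Finset.sum_eq_single j' (fun j _ hj => by
    apply Finset.sum_eq_zero
    intro c _
    rw [if_neg (Ne.symm hj), mul_zero]) (fun h => absurd (Finset.mem_univ _) h)]
  simp only [if_true, mul_add, Finset.sum_add_distrib, mul_ite, mul_one, mul_zero]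
  rw [Finset.sum_ite_eq, if_pos (Finset.mem_univ _)]
  by_cases h : y' = o
  · simp only [if_pos h]
    rw [hy j', add_zero]
  · simp only [if_neg h, Finset.sum_const_zero, add_zero]

include K

/-- a subgroup which contains `D₀` and the vectors `{c, o}` occurring in `w` contains `w` -/
theorem mem_of_dl (two : ∀ v : V, v + v = 0) {S : AddSubgroup V}
    (hD : ∀ d ∈ WW V H R, co d = 0 → d ∈ S) (o : Fin (2 ^ m + 1)) {w : V}
    (hw : w ∈ WW V H R) (h : ∀ j c, co w j c ≠ 0 → c ≠ o → ∃ v ∈ WW V H R, v ∈ S ∧ co v = dl j c o) : w ∈ S := by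
  classical
  have h1 : ∀ j c, ∃ v : WW V H R, (v : V) ∈ S ∧ coH K v = if co w j c = 0 then 0 else dl j c o := by
    intro j c
    by_cases h2 : co w j c = 0
    · exact ⟨0, S.zero_mem, by rw [map_zero, if_pos h2]⟩
    · by_cases h3 : c = o
      · refine ⟨0, S.zero_mem, ?_⟩
        rw [map_zero, if_neg h2, h3]
        funext j' y'
        rw [dl_apply]
        by_cases h4 : j' = j
        · rw [if_pos h4]; exact (CharTwo.add_self_eq_zero _).symm
        · rw [if_neg h4]; rfl
      · obtain ⟨v, hv, hvS, hco⟩ := h j c h2 h3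
        exact ⟨⟨v, hv⟩, hvS, by rw [if_neg h2]; exact hco⟩
  choose v hvS hco using h1
  let s : WW V H R := ∑ j, ∑ c, v j c
  have hs : (s : V) ∈ S := by
    have e : (s : V) = ∑ j, ∑ c, ((v j c : WW V H R) : V) := by
      simp only [s, AddSubgroup.val_finsetSum]
    rw [e]
    exact S.sum_mem fun j _ => S.sum_mem fun c _ => hvS j c
  have hcs : co (s : V) = co w := by
    have e : coH K s = ∑ j, ∑ c, coH K (v j c) := by
      simp only [s, map_sum]
    change coH K s = co w
    rw [e]
    simp only [hco]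
    exact (eq_sum_dl (co w) (K.even w hw) o).symm
  have hd : w + s ∈ S := by
    apply hD _ (add_mem hw s.2)
    rw [K.add w hw s s.2, hcs]
    funext i x
    exact CharTwo.add_self_eq_zero _
  have e : w = (w + s) + s := by rw [add_assoc, two, add_zero]
  rw [e]
  exact S.add_mem hd hs

/-- **(TR)** -/
theorem fix_of_const (two : ∀ v : V, v + v = 0) {g : Y} (hg : g ∈ H) {i : Fin k} {a b : Fin (2 ^ m + 1)}
    (hab : a ≠ b) (hgt : ActS V H R co g 1 (tp i a b)) {w : V} (hw : w ∈ WW V H R) (hc : co w i a = co w i b) :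
    g • w = w := by
  classical
  have hgD := trD_of K hg hgt
  -- the fixed vectors
  let S : AddSubgroup V :=
    { carrier := {v | g • v = v}
      zero_mem' := smul_zero g
      add_mem' := fun {v w} hv hw => by
        change g • (v + w) = v + w
        rw [smul_add, hv, hw]
      neg_mem' := fun {v} hv => by
        change g • (-v) = -v
        rw [smul_neg, hv] }
  have hS : ∀ v, v ∈ S ↔ g • v = v := fun v => Iff.rfl
  have hD : ∀ d ∈ WW V H R, co d = 0 → d ∈ S := fun d hd h0 => hgD d hd h0
  -- vectors with the same coordinates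
  have same : ∀ v ∈ WW V H R, ∀ w ∈ WW V H R, co v = co w → v ∈ S → w ∈ S := by
    intro v hv w hw hco hvS
    have h1 : v + w ∈ S := by
      apply hD _ (add_mem hv hw)
      rw [K.add v hv w hw, hco]
      funext i x
      exact CharTwo.add_self_eq_zero _
    have h2 := S.add_mem hvS h1
    rwa [← add_assoc, two, zero_add] at h2
  -- the elements commuting with `g`
  have comm : ∀ x ∈ WW V H R, co x i a = co x i b → ∀ (j : Fin k) (c d : Fin (2 ^ m + 1)),
      (j = i → c ≠ a ∧ c ≠ b ∧ d ≠ a ∧ d ≠ b) → ∀ h ∈ H, ActS V H R co h 1 (tp j c d) → h • x + x ∈ S := by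
    intro x hx hxc j c d hcd h hh hht
    have h1 : ∀ w ∈ WW V H R, (g * h) • w = (h * g) • w := by
      apply smul_eq_of_actS K (H.mul_mem hg hh) (H.mul_mem hh hg) (actS_mul1 hh hgt hht)
      have e : tp i a b * tp j c d = tp j c d * tp i a b := by
        funext l
        rw [Pi.mul_apply, Pi.mul_apply]
        by_cases hji : j = i
        · obtain ⟨h2, h3, h4, h5⟩ := hcd hji
          subst hji
          by_cases hl : l = j
          · subst hl
            rw [tp_self, tp_self]
            ext z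
            rw [Equiv.Perm.mul_apply, Equiv.Perm.mul_apply]
            congr 1
            by_cases hzc : z = c
            · subst hzc
              rw [Equiv.swap_apply_left, Equiv.swap_apply_of_ne_of_ne h4 h5, Equiv.swap_apply_of_ne_of_ne h2 h3,
                Equiv.swap_apply_left]
            by_cases hzd : z = d
            · subst hzd
              rw [Equiv.swap_apply_right, Equiv.swap_apply_of_ne_of_ne h2 h3, Equiv.swap_apply_of_ne_of_ne h4 h5,
                Equiv.swap_apply_right]
            rw [Equiv.swap_apply_of_ne_of_ne hzc hzd]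
            by_cases hza : z = a
            · subst hza
              rw [Equiv.swap_apply_left, Equiv.swap_apply_of_ne_of_ne h3.symm h5.symm]
            by_cases hzb : z = b
            · subst hzb
              rw [Equiv.swap_apply_right, Equiv.swap_apply_of_ne_of_ne h2.symm h4.symm]
            rw [Equiv.swap_apply_of_ne_of_ne hza hzb, Equiv.swap_apply_of_ne_of_ne hzc hzd]
          · rw [tp_of_ne hl, tp_of_ne hl]
        · by_cases hl : l = j
          · rw [tp_of_ne (i := i) (fun h => hji (hl.symm.trans h)), one_mul, mul_one]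
          · rw [tp_of_ne hl, one_mul, mul_one]
      rw [e]
      exact actS_mul1 hg hht hgt
    -- `g x + x ∈ D₀`
    have hgx : g • x + x ∈ WW V H R := add_mem (smul_mem_WW hg hx) hx
    have h0 : co (g • x + x) = 0 := by
      rw [K.add _ (smul_mem_WW hg hx) x hx]
      have e : co (g • x) = co x := by
        funext l z
        have h2 := hgt x hx l (tp i a b l z)
        have e2 : tp i a b l (tp i a b l z) = z := by
          have := congrFun (tp_mul_self i a b) l
          rw [Pi.mul_apply] at this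
          exact Equiv.ext_iff.1 this z
        rw [e2] at h2
        refine h2.trans ?_
        by_cases hl : l = i
        · subst hl
          rw [tp_self]
          by_cases hza : z = a
          · subst hza; rw [Equiv.swap_apply_left]; exact hxc.symm
          by_cases hzb : z = b
          · subst hzb; rw [Equiv.swap_apply_right]; exact hxc
          rw [Equiv.swap_apply_of_ne_of_ne hza hzb]
        · rw [tp_of_ne hl]; rfl
      rw [e]
      funext i x
      exact CharTwo.add_self_eq_zero _
    have h3 : h • (g • x + x) = g • x + x := trD_of K hh hht _ hgx h0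
    rw [hS, smul_add, ← mul_smul, h1 x hx, mul_smul]
    rw [smul_add] at h3
    -- `h g x + h x = g x + x`
    have h4 : h • g • x = g • x + x + h • x := by
      have h5 : h • g • x + h • x + h • x = g • x + x + h • x := by rw [h3]
      rwa [add_assoc, two, add_zero] at h5
    rw [h4]
    have e3 : g • x + x + h • x + g • x = h • x + x + (g • x + g • x) := by abel
    rw [e3, two, add_zero]
  -- the vectors `{c, d}` outside `{a, b}`
  have far : ∀ (j : Fin k) (c d : Fin (2 ^ m + 1)), c ≠ d → (j = i → c ≠ a ∧ c ≠ b ∧ d ≠ a ∧ d ≠ b) →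
      ∀ v ∈ WW V H R, co v = dl j c d → v ∈ S := by
    intro j c d hcd hj v hv hco
    obtain ⟨e, he⟩ := exists_not K {a, b, c, d} (by
      have := Finset.card_le_four (a := a) (b := b) (c := c) (d := d); omega)
    simp only [Finset.mem_insert, Finset.mem_singleton, not_or] at he
    obtain ⟨hea, heb, hec, hed⟩ := he
    obtain ⟨x, hx, hxco⟩ := exists_dl K j e c
    obtain ⟨h, hh, hht, _⟩ := K.lift (tp j c d)
    have h1 : h • x + x ∈ S := by
      apply comm x hx _ j c d hj h hh hht
      rw [hxco, dl_apply, dl_apply]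
      by_cases hji : i = j
      · obtain ⟨h2, h3, h4, h5⟩ := hj hji.symm
        rw [if_pos hji, if_pos hji, if_neg (Ne.symm hea), if_neg (Ne.symm heb), if_neg h2.symm, if_neg h3.symm]
      · rw [if_neg hji, if_neg hji]
    refine same _ (add_mem (smul_mem_WW hh hx) hx) v hv ?_ h1
    rw [K.add _ (smul_mem_WW hh hx) x hx, hco, hxco]
    funext l z
    have h2 := hht x hx l (tp j c d l z)
    have e2 : tp j c d l (tp j c d l z) = z := by
      have := congrFun (tp_mul_self j c d) l
      rw [Pi.mul_apply] at this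
      exact Equiv.ext_iff.1 this z
    rw [e2, Equiv.Perm.one_apply, hxco] at h2
    rw [Pi.add_apply, Pi.add_apply, h2]
    simp only [dl_apply]
    by_cases hl : l = j
    · subst hl
      rw [if_pos rfl, if_pos rfl, if_pos rfl, tp_self]
      by_cases hzc : z = c
      · subst hzc
        rw [Equiv.swap_apply_left, if_neg (Ne.symm hed), if_neg (Ne.symm hcd), if_neg (Ne.symm hec), if_pos rfl, if_neg hcd]
        decide
      by_cases hzd : z = d
      · subst hzd
        rw [Equiv.swap_apply_right, if_neg (Ne.symm hec), if_pos rfl, if_neg (Ne.symm hed), if_neg hzc, if_pos rfl]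
        decide
      rw [Equiv.swap_apply_of_ne_of_ne hzc hzd, if_neg hzc, if_neg hzd, add_zero, add_zero]
      exact CharTwo.add_self_eq_zero _
    · rw [if_neg hl, if_neg hl, if_neg hl, add_zero]
  -- the vector `{a, b}`
  obtain ⟨o, ho⟩ := exists_not K {a, b} (by
    have := Finset.card_le_two (a := a) (b := b); omega)
  simp only [Finset.mem_insert, Finset.mem_singleton, not_or] at ho
  obtain ⟨z, hz, hzco⟩ := exists_dl K i a o
  have hgz : g • z + z ∈ S := by
    have h1 : ∀ w ∈ WW V H R, (g * g) • w = (1 : Y) • w := by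
      apply smul_eq_of_actS K (H.mul_mem hg hg) H.one_mem (actS_mul1 hg hgt hgt)
      rw [tp_mul_self]
      exact actS_one
    rw [hS, smul_add, ← mul_smul, h1 z hz, one_smul, add_comm]
  -- WLOG `co w i a = 0`
  have main : ∀ w ∈ WW V H R, co w i a = 0 → co w i b = 0 → w ∈ S := by
    intro w hw ha hb
    apply mem_of_dl K two hD o hw
    intro j c hjc hco
    obtain ⟨v, hv, hvco⟩ := exists_dl K j c o
    refine ⟨v, hv, ?_, hvco⟩
    apply far j c o hco _ v hv hvco
    rintro rfl
    refine ⟨?_, ?_, ho.1, ho.2⟩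
    · rintro rfl; exact hjc ha
    · rintro rfl; exact hjc hb
  by_cases h0 : co w i a = 0
  · exact main w hw h0 (hc ▸ h0)
  · have h1 : co w i a = 1 := by
      generalize co w i a = z at h0
      revert h0; revert z; decide
    have hgzW : g • z + z ∈ WW V H R := add_mem (smul_mem_WW hg hz) hz
    have hgza : co (g • z + z) i a = 1 := by
      rw [K.add _ (smul_mem_WW hg hz) z hz, Pi.add_apply, Pi.add_apply]
      have h2 := hgt z hz i b
      rw [tp_self, Equiv.swap_apply_right, Equiv.Perm.one_apply] at h2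
      rw [h2, hzco, dl_apply, dl_apply]
      simp [hab.symm, Ne.symm ho.1, Ne.symm ho.2]
    have hgzb : co (g • z + z) i b = 1 := by
      rw [K.add _ (smul_mem_WW hg hz) z hz, Pi.add_apply, Pi.add_apply]
      have h2 := hgt z hz i a
      rw [tp_self, Equiv.swap_apply_left, Equiv.Perm.one_apply] at h2
      rw [h2, hzco, dl_apply, dl_apply]
      simp [hab.symm, Ne.symm ho.1, Ne.symm ho.2]
    have h3 := main (w + (g • z + z)) (add_mem hw hgzW)
      (by rw [K.add w hw _ hgzW, Pi.add_apply, Pi.add_apply, h1, hgza]; decide)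
      (by rw [K.add w hw _ hgzW, Pi.add_apply, Pi.add_apply, ← hc, h1, hgzb]; decide)
    have h4 := S.add_mem h3 hgz
    rwa [add_assoc, two, add_zero] at h4

end act

section trans

variable {H R : Subgroup Y} {k m : ℕ} {co : V → Fin k → Fin (2 ^ m + 1) → ZMod 2} (K : KSym V H R k m co)
include K

/-- the permutation representation on the letters -/
theorem exists_perm : ∃ f : H →* Equiv.Perm (Fin k × Fin (2 ^ m + 1)), ∀ (g : H) (σ : Equiv.Perm (Fin k))
    (τ : Fin k → Equiv.Perm (Fin (2 ^ m + 1))), ActS V H R co (g : Y) σ τ → ∀ i x, f g (i, x) = (σ i, τ i x) := by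
  classical
  have h1 : ∀ g : H, ∃ σ τ, ActS V H R co (g : Y) σ τ := fun g => K.perm g g.2
  choose σ τ hστ using h1
  have hmul : ∀ g h : H, σ (g * h) = σ g * σ h ∧ τ (g * h) = fun i => τ g (σ h i) * τ h i := fun g h =>
    actS_unique K (g * h).2 (hστ (g * h)) (actS_mul K h.2 (hστ g) (hστ h))
  have hone : σ 1 = 1 ∧ τ 1 = 1 := actS_unique K H.one_mem (hστ 1) actS_one
  refine ⟨{ toFun := fun g => Equiv.prodShear (σ g) (τ g), map_one' := ?_, map_mul' := ?_ }, ?_⟩
  · ext p
    · change ((σ 1) p.1 : ℕ) = _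
      rw [hone.1]; rfl
    · change ((τ 1 p.1) p.2 : ℕ) = _
      rw [hone.2]; rfl
  · intro g h
    ext p
    · change ((σ (g * h)) p.1 : ℕ) = ((σ g) ((σ h) p.1) : ℕ)
      rw [(hmul g h).1]; rfl
    · change ((τ (g * h) p.1) p.2 : ℕ) = ((τ g ((σ h) p.1)) ((τ h p.1) p.2) : ℕ)
      rw [(hmul g h).2]; rfl
  · intro g σ' τ' hg i x
    obtain ⟨h2, h3⟩ := actS_unique K g.2 (hστ g) hg
    change ((σ g) i, (τ g i) x) = _
    rw [h2, h3]

/-- **`R` is transitive on the nonzero letters** -/
theorem trans_pt [Finite Y] (hRH : R ≤ H) (hS : ∃ P : Sylow 2 H, (P : Subgroup H) = R.subgroupOf H)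
    {i j : Fin k} {x y : Fin (2 ^ m + 1)} (hx : x ≠ 0) (hy : y ≠ 0) :
    ∃ r ∈ R, ∃ σ τ, ActS V H R co r σ τ ∧ σ i = j ∧ τ i x = y := by
  classical
  have : Fact (Nat.Prime 2) := ⟨Nat.prime_two⟩
  obtain ⟨P, hP⟩ := hS
  obtain ⟨f, hf⟩ := exists_perm K
  have hidx : Odd (((P : Subgroup H).map f.rangeRestrict).index) := by
    have h1 : ¬ 2 ∣ (P : Subgroup H).index := P.not_dvd_index
    have h2 := Subgroup.index_map_dvd (P : Subgroup H) f.rangeRestrict_surjective
    rw [← Nat.not_even_iff_odd, even_iff_two_dvd]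
    exact fun h3 => h1 (h3.trans h2)
  have hcard : Nat.card ((P : Subgroup H).map f) = Nat.card ((P : Subgroup H).map f.rangeRestrict) := by
    have h1 : ((P : Subgroup H).map f.rangeRestrict).map f.range.subtype = (P : Subgroup H).map f := by
      rw [Subgroup.map_map]; rfl
    rw [← h1]
    exact (Nat.card_congr (((P : Subgroup H).map f.rangeRestrict).equivMapOfInjective _
      f.range.subtype_injective).toEquiv).symm
  have hmemP : ∀ r (hr : r ∈ R), f ⟨r, hRH hr⟩ ∈ (P : Subgroup H).map f := by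
    intro r hr
    exact ⟨⟨r, hRH hr⟩, by rw [SetLike.mem_coe, hP]; exact hr, rfl⟩
  have hofP : ∀ p ∈ (P : Subgroup H).map f, ∃ r, ∃ hr : r ∈ R, f ⟨r, hRH hr⟩ = p := by
    rintro _ ⟨p, hp, rfl⟩
    rw [SetLike.mem_coe, hP] at hp
    exact ⟨p, hp, rfl⟩
  obtain ⟨g, hg, hgx⟩ := trans_points (G := f.range) (P := (P : Subgroup H).map f)
    (c := ((P : Subgroup H).map f.rangeRestrict).index) (i := i) (j := j) (x := x) (y := y)
    (by rintro _ ⟨p, _, rfl⟩; exact ⟨p, rfl⟩)
    (by rw [hcard, Subgroup.card_mul_index]) hidx (P.2.map f)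
    (by
      rintro _ ⟨g, rfl⟩ p q hpq
      obtain ⟨σ, τ, hg⟩ := K.perm g g.2
      have h1 := hf g σ τ hg p.1 p.2
      have h2 := hf g σ τ hg q.1 q.2
      rw [Prod.mk.eta] at h1 h2
      rw [h1, h2, hpq])
    (by
      intro τ
      obtain ⟨g, hg, hgt, _⟩ := K.lift τ
      exact ⟨_, ⟨⟨g, hg⟩, rfl⟩, hf ⟨g, hg⟩ 1 τ hgt⟩)
    (by
      intro i j
      obtain ⟨r, hr, σ, τ, h1, h2⟩ := K.trans i j
      exact ⟨_, hmemP r hr, by rw [hf _ _ _ h1]; exact h2⟩)
    (by
      intro g hg i
      obtain ⟨r, hr, rfl⟩ := hofP g hg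
      obtain ⟨σ, τ, h1⟩ := K.perm r (hRH hr)
      rw [hf _ _ _ h1]
      exact K.fix0 r hr σ τ h1 i) hx hy
  obtain ⟨r, hr, rfl⟩ := hofP g hg
  obtain ⟨σ, τ, h1⟩ := K.perm r (hRH hr)
  rw [hf _ _ _ h1] at hgx
  exact ⟨r, hr, σ, τ, h1, (Prod.ext_iff.1 hgx).1, (Prod.ext_iff.1 hgx).2⟩

end trans

section pairs

variable {H R : Subgroup Y} {k m : ℕ} {co : V → Fin k → Fin (2 ^ m + 1) → ZMod 2}

/-- the pairs of `R` -/
def PI (V : Type u) [AddCommGroup V] [DistribMulAction Y V] (H R : Subgroup Y) {k n : ℕ}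
    (co : V → Fin k → Fin n → ZMod 2) (i : Fin k) (a b : Fin n) : Prop :=
  a ≠ b ∧ ∃ r ∈ R, ActS V H R co r 1 (tp i a b)

theorem PI.symm {i : Fin k} {a b : Fin (2 ^ m + 1)} (h : PI V H R co i a b) : PI V H R co i b a := by
  obtain ⟨h1, r, hr, h2⟩ := h
  exact ⟨h1.symm, r, hr, by rwa [tp_comm]⟩

theorem PI.ne0 (K : KSym V H R k m co) {i : Fin k} {a b : Fin (2 ^ m + 1)} (h : PI V H R co i a b) : a ≠ 0 := by
  rintro rfl
  obtain ⟨h1, r, hr, h2⟩ := h
  have h3 := K.fix0 r hr _ _ h2 i
  rw [tp_self, Equiv.swap_apply_left] at h3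
  exact h1 h3.symm

/-- conjugates of transpositions -/
theorem actS_conj_tp {g r : Y} (hr : r ∈ H) (hg : g ∈ H) {σ : Equiv.Perm (Fin k)}
    {τ : Fin k → Equiv.Perm (Fin (2 ^ m + 1))} (hrt : ActS V H R co r σ τ) {i : Fin k} {a b : Fin (2 ^ m + 1)}
    (hgt : ActS V H R co g 1 (tp i a b)) : ActS V H R co (r * g * r⁻¹) 1 (tp (σ i) (τ i a) (τ i b)) := by
  intro v hv j y
  obtain ⟨w, rfl⟩ : ∃ w, v = r • w := ⟨r⁻¹ • v, by rw [smul_inv_smul]⟩
  have hw : w ∈ WW V H R := by
    have := smul_mem_WW (H.inv_mem hr) hv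
    rwa [inv_smul_smul] at this
  obtain ⟨j', rfl⟩ : ∃ j', j = σ j' := ⟨σ⁻¹ j, by rw [papp]⟩
  obtain ⟨y', rfl⟩ : ∃ y', y = τ j' y' := ⟨(τ j')⁻¹ y, by rw [papp]⟩
  rw [mul_smul, inv_smul_smul, mul_smul, Equiv.Perm.one_apply, hrt w hw]
  have hgw := smul_mem_WW hg hw
  have h1 := hgt w hw j' y'
  rw [Equiv.Perm.one_apply] at h1
  rw [← h1, ← hrt _ hgw]
  congr 1
  by_cases hj : j' = i
  · subst hj
    rw [tp_self, tp_self]
    exact (τ j').injective.swap_apply a b y'
  · rw [tp_of_ne hj, tp_of_ne (fun h => hj (σ.injective h))]; rfl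

end pairs

end Cfsg.Agent.Omega.NO1.TH.K.SI
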