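import Cfsg.Agent.Omega.NO1.TH.K.SPI
import Cfsg.Agent.Omega.NO1.TH.K.SPts

/-!
# N1, `S_n` type: opposite members exist (bb OMEGA 21465 (1), helper593's shift)

In every block the matching of `R` is `x ↦ -x` on `ZMod (2 ^ m + 1)` in suitable coordinates; the member `B` is
conjugated with `x ↦ x + 1`. The coordinates are chosen with `-1 = x₀`, a letter moved by `B` in one block, so that the
conjugate contains a transposition `(0 z)` of this block and is not in `M`.
-/

set_option autoImplicit false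
set_option linter.unusedSectionVars false
set_option linter.dupNamespace false

namespace Cfsg.Agent.Omega.NO1.TH.K

open Subgroup Cfsg.Agent.Omega.NO1.AB Cfsg.Agent.Omega.FFBr
open scoped Pointwise

universe u

section comb

open Equiv
/-- an involution of `Fin n` with one fixed point is conjugate to `neg` on `ZMod n` -/
theorem opp_exists_conj {n : ℕ} [NeZero n] (hn : Odd n) (π : Perm (ZMod n)) (h2 : π * π = 1)
    (hfix : ∃ a, ∀ x, π x = x ↔ x = a) : ∃ e : Perm (ZMod n), ∀ x, e (π x) = - e x := by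
  classical
  have key : ∀ σ : Perm (ZMod n), σ * σ = 1 → (∃ a, ∀ x, σ x = x ↔ x = a) →
      σ.cycleType = Multiset.replicate ((n - 1) / 2) 2 := by
    rintro σ hσ ⟨a, ha⟩
    have : Fact (Nat.Prime 2) := ⟨Nat.prime_two⟩
    have h1 : ∀ c ∈ σ.cycleType, c = 2 := (Perm.pow_prime_eq_one_iff (p := 2)).1 (by rw [pow_two, hσ])
    have h3 : σ.cycleType = Multiset.replicate (Multiset.card σ.cycleType) 2 := Multiset.eq_replicate_card.2 h1
    have h4 : σ.support = {a}ᶜ := by
      ext x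
      rw [Perm.mem_support, Finset.mem_compl, Finset.mem_singleton, Ne, ha]
    have h5 := Perm.sum_cycleType σ
    rw [h3, Multiset.sum_replicate, h4, Finset.card_compl, Finset.card_singleton, ZMod.card, smul_eq_mul] at h5
    rw [h3]
    congr 1
    omega
  have hneg : ∃ a : ZMod n, ∀ x, (Equiv.neg (ZMod n)) x = x ↔ x = a := by
    refine ⟨0, fun x => ?_⟩
    rw [Equiv.neg_apply]
    constructor
    · intro h
      have h3 : (2 : ZMod n) * x = 0 := by
        rw [two_mul]
        nth_rewrite 1 [← h]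
        exact neg_add_cancel x
      have h4 : IsUnit (2 : ZMod n) := by
        have := (ZMod.unitOfCoprime 2 (Nat.Coprime.symm (Nat.coprime_two_right.2 hn))).isUnit
        simpa using this
      exact (h4.mul_right_eq_zero).1 h3
    · rintro rfl
      exact neg_zero
  have h3 : IsConj π (Equiv.neg (ZMod n)) := by
    rw [Perm.isConj_iff_cycleType_eq, key π h2 hfix, key _ (by ext x; simp) hneg]
  obtain ⟨c, hc⟩ := isConj_iff.1 h3
  refine ⟨c, fun x => ?_⟩
  have h4 := congrArg (fun σ : Perm (ZMod n) => σ (c x)) hc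
  simpa using h4

theorem opp_comb {n : ℕ} [NeZero n] (hn : Odd n) (π : Perm (ZMod n)) (h2 : π * π = 1)
    (hfix : ∀ x, π x = x ↔ x = 0) {x₀ : ZMod n} (hx₀ : x₀ ≠ 0) :
    ∃ ρ : Perm (ZMod n), ρ x₀ = 0 ∧ ∀ f : ZMod n → ZMod 2, (∀ x, f (π x) = f x) →
      (∀ x, f (ρ (π x)) = f (ρ x)) → f (ρ 0) = 0 → f = 0 := by
  classical
  obtain ⟨c, hc⟩ := opp_exists_conj hn π h2 ⟨0, hfix⟩
  have h2u : IsUnit (2 : ZMod n) := by
    have := (ZMod.unitOfCoprime 2 (Nat.Coprime.symm (Nat.coprime_two_right.2 hn))).isUnit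
    simpa using this
  have hne : ∀ x : ZMod n, x = -x → x = 0 := by
    intro x h
    have h3 : (2 : ZMod n) * x = 0 := by
      rw [two_mul]
      nth_rewrite 1 [h]
      exact neg_add_cancel x
    exact (h2u.mul_right_eq_zero).1 h3
  have hc0 : c 0 = 0 := hne _ (by rw [← hc, (hfix 0).2 rfl])
  have hcx : c x₀ ≠ 0 := fun h => hx₀ (c.injective (h.trans hc0.symm))
  -- adjust
  obtain ⟨e, he, hex⟩ : ∃ e : Perm (ZMod n), (∀ x, e (π x) = - e x) ∧ e x₀ = -1 := by
    by_cases h1 : c x₀ = -1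
    · exact ⟨c, hc, h1⟩
    by_cases h1' : c x₀ = 1
    · refine ⟨(Equiv.neg (ZMod n)) * c, fun x => ?_, ?_⟩
      · simp [hc]
      · simp [h1']
    have h3 : (1 : ZMod n) ≠ -1 := fun h => by
      have h4 := hne _ h
      apply hcx
      have : c x₀ = c x₀ * 1 := (mul_one _).symm
      rw [this, h4, mul_zero]
    have h4 : c x₀ ≠ -c x₀ := fun h => hcx (hne _ h)
    set a := c x₀ with ha
    let s : Perm (ZMod n) := swap a (-1) * swap (-a) 1
    have hs : ∀ z, s (-z) = - s z := by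
      intro z
      change swap a (-1) (swap (-a) 1 (-z)) = - (swap a (-1) (swap (-a) 1 z))
      by_cases e1 : z = a
      · subst e1
        rw [swap_apply_left, swap_apply_of_ne_of_ne h4 h1', swap_apply_left,
          swap_apply_of_ne_of_ne (Ne.symm h1') h3, neg_neg]
      by_cases e2 : z = -a
      · subst e2
        rw [neg_neg, swap_apply_of_ne_of_ne h4 h1', swap_apply_left, swap_apply_left,
          swap_apply_of_ne_of_ne (Ne.symm h1') h3]
      by_cases e3 : z = 1
      · subst e3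
        rw [swap_apply_right, swap_apply_of_ne_of_ne (a := -a) (fun h => h1' (neg_injective h).symm) (Ne.symm h3),
          swap_apply_right, swap_apply_of_ne_of_ne (Ne.symm h4) (fun h => h1' (neg_injective h)), neg_neg]
      by_cases e4 : z = -1
      · subst e4
        rw [neg_neg, swap_apply_right, swap_apply_of_ne_of_ne (a := -a) (fun h => h1' (neg_injective h).symm)
          (Ne.symm h3), swap_apply_right, swap_apply_of_ne_of_ne (Ne.symm h4) (fun h => h1' (neg_injective h))]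
      have f1 : -z ≠ a := fun h => e2 (by rw [← h, neg_neg])
      have f2 : -z ≠ -a := fun h => e1 (neg_injective h)
      have f3 : -z ≠ 1 := fun h => e4 (by rw [← h, neg_neg])
      have f4 : -z ≠ -1 := fun h => e3 (neg_injective h)
      rw [swap_apply_of_ne_of_ne f2 f3, swap_apply_of_ne_of_ne f1 f4, swap_apply_of_ne_of_ne e2 e3,
        swap_apply_of_ne_of_ne e1 e4]
    refine ⟨s * c, fun x => ?_, ?_⟩
    · rw [Perm.mul_apply, Perm.mul_apply, hc]
      exact hs (c x)
    · rw [Perm.mul_apply, ← ha]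
      change swap a (-1) (swap (-a) 1 a) = -1
      rw [swap_apply_of_ne_of_ne h4 h1', swap_apply_left]
  have he0 : e 0 = 0 := hne _ (by rw [← he, (hfix 0).2 rfl])
  have hes0 : e.symm 0 = 0 := by rw [Equiv.symm_apply_eq, he0]
  refine ⟨(e.trans (Equiv.addRight 1)).trans e.symm, ?_, fun f h3 h4 h5 => ?_⟩
  · simp [hex, hes0]
  · have hf1 : ∀ z, f (e.symm (-z)) = f (e.symm z) := by
      intro z
      rw [← h3 (e.symm z)]
      congr 1
      rw [Equiv.symm_apply_eq, he, Equiv.apply_symm_apply]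
    have hf2 : ∀ z, f (e.symm (-z + 1)) = f (e.symm (z + 1)) := by
      intro z
      have h6 := h4 (e.symm z)
      simpa [he] using h6
    have hf3 : f (e.symm 1) = 0 := by simpa [he0] using h5
    have hf4 : ∀ j : ℕ, f (e.symm (1 + 2 * j)) = 0 := by
      intro j
      induction j with
      | zero => simpa using hf3
      | succ j ih =>
        have e1 : (1 + 2 * ((j + 1 : ℕ) : ZMod n)) = (1 + (1 + 2 * (j : ZMod n))) + 1 := by push_cast; ring
        rw [e1, ← hf2]
        have e2 : (-(1 + (1 + 2 * (j : ZMod n))) + 1) = -(1 + 2 * j) := by ring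
        rw [e2, hf1, ih]
    funext x
    obtain ⟨u, hu⟩ := h2u
    have h6 := hf4 ((↑u⁻¹ * (e x - 1) : ZMod n)).val
    rw [ZMod.natCast_val, ZMod.cast_id', id, ← hu, ← mul_assoc, Units.mul_inv, one_mul] at h6
    simpa using h6

theorem opp_combF {m : ℕ} (hm : 2 ≤ m) (π : Perm (Fin (2 ^ m + 1))) (h2 : π * π = 1)
    (hfix : ∀ x, π x = x ↔ x = 0) {x₀ : Fin (2 ^ m + 1)} (hx₀ : x₀ ≠ 0) :
    ∃ ρ : Perm (Fin (2 ^ m + 1)), ρ x₀ = 0 ∧ ∀ f : Fin (2 ^ m + 1) → ZMod 2, (∀ x, f (π x) = f x) →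
      (∀ x, f (ρ (π x)) = f (ρ x)) → f (ρ 0) = 0 → f = 0 :=
  opp_comb (n := 2 ^ m + 1) (Even.add_one ((Nat.even_pow' (by omega)).2 even_two)) π h2 hfix hx₀

end comb

variable {Y : Type u} [Group Y] {V : Type u} [AddCommGroup V] [DistribMulAction Y V]

section

variable {H R : Subgroup Y} {k m : ℕ} {co : V → Fin k → Fin (2 ^ m + 1) → ZMod 2}

theorem PI.ne_zero (K : KSym V H R k m co) {i : Fin k} {x y : Fin (2 ^ m + 1)} (h : PI V H R co i x y) : x ≠ 0 := by
  rintro rfl
  obtain ⟨h1, r, hr, h2, _⟩ := h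
  have h3 := K.fix0 r hr _ _ h2 i
  rw [Function.update_self, Equiv.swap_apply_left] at h3
  exact h1 h3.symm

/-- the matching of `R` -/
theorem exists_matching (K : KSym V H R k m co) (hP1 : ∀ i x, x ≠ 0 → ∃ y, PI V H R co i x y)
    (hP2 : ∀ i x y z, PI V H R co i x y → PI V H R co i x z → y = z) (i : Fin k) :
    ∃ π : Equiv.Perm (Fin (2 ^ m + 1)), π * π = 1 ∧ (∀ x, π x = x ↔ x = 0) ∧ (∀ x, x ≠ 0 → PI V H R co i x (π x)) := by
  classical
  choose! p hp using hP1 i
  let f : Fin (2 ^ m + 1) → Fin (2 ^ m + 1) := fun x => if x = 0 then 0 else p x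
  have f0 : f 0 = 0 := if_pos rfl
  have f1 : ∀ x, x ≠ 0 → PI V H R co i x (f x) := by
    intro x hx
    have : f x = p x := if_neg hx
    rw [this]
    exact hp x hx
  have finv : Function.Involutive f := by
    intro x
    by_cases hx : x = 0
    · rw [hx, f0, f0]
    · have h1 := f1 x hx
      have h2 := f1 (f x) (h1.symm.ne_zero K)
      exact hP2 i _ _ _ h2 h1.symm
  refine ⟨finv.toPerm f, ?_, fun x => ?_, fun x hx => f1 x hx⟩
  · ext x
    rw [Equiv.Perm.mul_apply, Function.Involutive.coe_toPerm, finv x]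
    rfl
  · rw [Function.Involutive.coe_toPerm]
    constructor
    · intro h1
      by_contra hx
      exact (f1 x hx).1 h1.symm
    · rintro rfl
      exact f0

/-- all permutations of the blocks are induced by `L`, if `L ≥ R` contains one transposition `(0 z)` -/
theorem lk_all (K : KSym V H R k m co) (hRH : R ≤ H)
    (hT : ∀ i x j y, x ≠ 0 → y ≠ 0 → ∃ r ∈ R, ∃ σ τ, ActS V H R co r σ τ ∧ σ i = j ∧ τ i x = y)
    {L : Subgroup Y} (hRL : R ≤ L) {g₀ : Y} (hg₀ : g₀ ∈ L) {i₀ : Fin k} {z₀ : Fin (2 ^ m + 1)} (hz₀ : z₀ ≠ 0)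
    (hL₀ : Lk V H R co g₀ (Pi.mulSingle i₀ (Equiv.swap 0 z₀))) (τ : Fin k → Equiv.Perm (Fin (2 ^ m + 1))) :
    ∃ g ∈ L, Lk V H R co g τ := by
  classical
  let S : Subgroup (Fin k → Equiv.Perm (Fin (2 ^ m + 1))) :=
    { carrier := {τ | ∃ g ∈ L, Lk V H R co g τ}
      one_mem' := ⟨1, L.one_mem, K.one⟩
      mul_mem' := by
        rintro τ τ' ⟨g, hg, h1⟩ ⟨g', hg', h2⟩
        exact ⟨g * g', L.mul_mem hg hg', h1.mul h2⟩
      inv_mem' := by
        rintro τ ⟨g, hg, h1⟩
        exact ⟨g⁻¹, L.inv_mem hg, h1.inv⟩ }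
  have h0 : ∀ (j : Fin k) (y : Fin (2 ^ m + 1)), Pi.mulSingle j (Equiv.swap 0 y) ∈ S := by
    intro j y
    by_cases hy : y = 0
    · rw [hy, Equiv.swap_self]
      have e : Pi.mulSingle (M := fun _ : Fin k => Equiv.Perm (Fin (2 ^ m + 1))) j (Equiv.refl (Fin (2 ^ m + 1))) = 1 :=
        Pi.mulSingle_one j
      rw [e]
      exact S.one_mem
    · obtain ⟨r, hr, σ, τ, h1, h2, h3⟩ := hT i₀ z₀ j y hz₀ hy
      have h4 := K.lk_conj (hRH hr) h1 hL₀
      rw [h2, h3, K.fix0 r hr σ τ h1] at h4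
      exact ⟨_, L.mul_mem (L.mul_mem (hRL hr) hg₀) (L.inv_mem (hRL hr)), h4⟩
  have h1 : ∀ (j : Fin k) (π : Equiv.Perm (Fin (2 ^ m + 1))), Pi.mulSingle j π ∈ S := by
    intro j π
    have h2 : (⊤ : Subgroup (Equiv.Perm (Fin (2 ^ m + 1)))) ≤
        S.comap (MonoidHom.mulSingle (fun _ => Equiv.Perm (Fin (2 ^ m + 1))) j) := by
      rw [← Equiv.Perm.closure_isSwap, closure_le]
      rintro _ ⟨x, y, hxy, rfl⟩
      change Pi.mulSingle j (Equiv.swap x y) ∈ S
      by_cases hx : x = 0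
      · subst hx
        exact h0 j y
      by_cases hy : y = 0
      · subst hy
        rw [Equiv.swap_comm]
        exact h0 j x
      have e : Equiv.swap x y = Equiv.swap 0 x * Equiv.swap 0 y * Equiv.swap 0 x := by
        rw [Equiv.swap_comm 0 x, Equiv.swap_comm 0 y, Equiv.swap_comm x y]
        rw [Equiv.swap_comm y 0, Equiv.swap_comm y x]
        have := Equiv.swap_mul_swap_mul_swap (x := y) (y := 0) (z := x) hy (Ne.symm hxy)
        rw [Equiv.swap_comm 0 x, Equiv.swap_comm y 0] at this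
        rw [this]
      rw [e, Pi.mulSingle_mul, Pi.mulSingle_mul]
      exact S.mul_mem (S.mul_mem (h0 j x) (h0 j y)) (h0 j x)
    exact h2 (mem_top π)
  exact Subgroup.pi_mem_of_mulSingle_mem (H := S) τ fun j => h1 j (τ j)

end

section members

variable [Finite Y] [Finite V] {U : Set (Subgroup Y)} {T : Sylow 2 Y} {M H R : Subgroup Y} {t : Y}
  {k m : ℕ} {co : V → Fin k → Fin (2 ^ m + 1) → ZMod 2}

/-- a subgroup of `H` which contains an element acting as a transposition `(0 z)` of one block is not in `M` -/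
theorem not_le_of_swap (K : KSym V H R k m co) (amb : Amb V U T M) (a : Amal U T M H R t)
    (hT : ∀ i x j y, x ≠ 0 → y ≠ 0 → ∃ r ∈ R, ∃ σ τ, ActS V H R co r σ τ ∧ σ i = j ∧ τ i x = y)
    {g₀ : Y} {i₀ : Fin k} {z₀ : Fin (2 ^ m + 1)} (hz₀ : z₀ ≠ 0)
    (hL₀ : Lk V H R co g₀ (Pi.mulSingle i₀ (Equiv.swap 0 z₀))) : g₀ ∉ M := by
  intro hgM
  have hRM : R ≤ M := a.RT.trans amb.TM
  have h1 := K.gen (M ⊓ H) (le_inf hRM a.RH) inf_le_right fun h hh τ h2 h3 => by
    obtain ⟨g, hg, h4⟩ := lk_all K a.RH hT (L := M ⊓ H) (le_inf hRM a.RH) (g₀ := g₀) ⟨hgM, hL₀.1⟩ hz₀ hL₀ τ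
    have h5 : ∀ w ∈ WW V H R, (g⁻¹ * h) • w = w := by
      intro w hw
      rw [mul_smul, inv_smul_eq_iff]
      exact K.lk_eq (τ := τ) ⟨hh, h2, h3⟩ h4 w hw
    have h6 : zpowers (g⁻¹ * h) ≤ M := Amal.ker_le_M a amb (by
      intro x hx v hv
      have h7 : zpowers (g⁻¹ * h) ≤ MulAction.stabilizer Y v := by
        rw [zpowers_le, MulAction.mem_stabilizer_iff]
        exact h5 v (fx_le_WW hv)
      exact h7 hx)
    have h7 := M.mul_mem hg.1 (h6 (mem_zpowers _))
    rw [mul_inv_cancel_left] at h7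
    exact ⟨h7, hh⟩
  apply Amal.H_not_le a amb
  rw [← h1]
  exact inf_le_left

/-- **opposite members exist** -/
theorem exists_oppS_aux (K : KSym V H R k m co) (amb : Amb V U T M) (a : Amal U T M H R t) (we : WE V U H R)
    (hP1 : ∀ i x, x ≠ 0 → ∃ y, PI V H R co i x y)
    (hP2 : ∀ i x y z, PI V H R co i x y → PI V H R co i x z → y = z)
    (hT : ∀ i x j y, x ≠ 0 → y ≠ 0 → ∃ r ∈ R, ∃ σ τ, ActS V H R co r σ τ ∧ σ i = j ∧ τ i x = y)
    {B : Subgroup Y} (hB : B ∈ U) (hBR : B ≤ R) (hBQ : ¬ B ≤ QQ H R) :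
    ∃ x ∈ H, OppS V M H R co (MulAut.conj x • B) := by
  classical
  have hBH : B ≤ H := hBR.trans a.RH
  obtain ⟨hTr, hoff⟩ := K.off B hBR (Mem.elAb (amb.cls.mem B hB)) hBQ (by
    rw [mul_comm, a.exact' amb we hB hBH, inf_comm])
  -- a letter moved by `B`
  obtain ⟨i₀, x₀, y₀, b₀, hb₀, hb₀s, hxy⟩ : ∃ i₀ x₀ y₀, ∃ b₀ ∈ B,
      ActS V H R co b₀ 1 (Function.update 1 i₀ (Equiv.swap x₀ y₀)) ∧ x₀ ≠ y₀ := by
    by_contra hcon
    push Not at hcon
    apply hBQ
    intro b hb
    obtain ⟨τ, h1, h2⟩ := hoff b hb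
    apply K.triv b (hBR hb)
    intro w hw
    rw [K.add _ (smul_mem_WW (hBH hb) hw) _ hw]
    funext i x
    have h3 : τ i x = x := by
      by_contra h3
      obtain ⟨_, b', hb', h4⟩ := h2 i x h3
      exact h3 (hcon i x _ b' hb' h4).symm
    have h4 := h1 w hw i x
    rw [h3, Equiv.Perm.one_apply] at h4
    rw [Pi.add_apply, Pi.add_apply, h4]
    have : ∀ c : ZMod 2, c + c = 0 := by decide
    exact this _
  have hPI₀ : PI V H R co i₀ x₀ y₀ := ⟨hxy, b₀, hBR hb₀, hb₀s, hTr b₀ hb₀⟩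
  have hx₀ : x₀ ≠ 0 := hPI₀.ne_zero K
  choose π hπ2 hπf hπP using exists_matching K hP1 hP2
  choose ρ hρ0 hρ using fun i => opp_combF K.two_le (π i) (hπ2 i) (hπf i) hx₀
  obtain ⟨h, hh⟩ := K.exists_lk ρ
  refine ⟨h, hh.1, ?_, ?_⟩
  · intro hle
    have h1 : Lk V H R co b₀ (Pi.mulSingle i₀ (Equiv.swap x₀ y₀)) := ⟨hBH hb₀, hb₀s, hTr b₀ hb₀⟩
    have h2 := K.lk_conj hh.1 hh.2.1 h1
    rw [Equiv.Perm.one_apply, hρ0] at h2
    have hz : ρ i₀ y₀ ≠ 0 := by
      rw [← hρ0 i₀]
      exact fun h3 => hxy ((ρ i₀).injective h3).symm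
    exact not_le_of_swap K amb a hT hz h2 (hle (conj_mem_conj hb₀))
  · intro v hv hvP
    have hz2 : ∀ c : ZMod 2, c + c = 0 := by decide
    have key : v ∈ WW V H R ∧ ∀ i, (∀ x, co v i (ρ i (π i x)) = co v i (ρ i x)) ∧ co v i (ρ i 0) = 0 := by
      clear hvP
      unfold brk at hv
      induction hv using AddSubgroup.closure_induction with
      | mem v hv =>
        obtain ⟨w, hw, p, hp, rfl⟩ := hv
        rw [mem_conj] at hp
        set b := h⁻¹ * p * h with hb
        have hpH : p ∈ H := by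
          have h1 := H.mul_mem (H.mul_mem hh.1 (hBH hp)) (H.inv_mem hh.1)
          have e : h * b * h⁻¹ = p := by rw [hb]; group
          rwa [e] at h1
        have hu : h⁻¹ • w ∈ WW V H R := smul_mem_WW (H.inv_mem hh.1) hw
        have hbu : b • h⁻¹ • w ∈ WW V H R := smul_mem_WW (hBH hp) hu
        have e : p • w + w = h • (b • h⁻¹ • w + h⁻¹ • w) := by
          rw [smul_add, smul_inv_smul, ← mul_smul, ← mul_smul]
          congr 2
          rw [hb]
          group
        have hz : b • h⁻¹ • w + h⁻¹ • w ∈ WW V H R := add_mem hbu hu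
        refine ⟨add_mem (smul_mem_WW hpH hw) hw, fun i => ?_⟩
        have h1 : ∀ x, co (p • w + w) i (ρ i x) = co (b • h⁻¹ • w + h⁻¹ • w) i x := by
          intro x
          rw [e]
          exact hh.2.1 _ hz i x
        obtain ⟨τ, h2, h3⟩ := hoff b hp
        have h2' : ∀ x, co (b • h⁻¹ • w) i (τ i x) = co (h⁻¹ • w) i x := fun x => h2 _ hu i x
        have h4 : ∀ x, co (b • h⁻¹ • w + h⁻¹ • w) i x = co (b • h⁻¹ • w) i x + co (h⁻¹ • w) i x := by
          intro x
          rw [K.add _ hbu _ hu]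
          rfl
        have hτP : ∀ x, τ i x ≠ x → PI V H R co i x (τ i x) := by
          intro x hx
          obtain ⟨_, b', hb', h5⟩ := h3 i x hx
          exact ⟨Ne.symm hx, b', hBR hb', h5, hTr b' hb'⟩
        refine ⟨fun x => ?_, ?_⟩
        · rw [h1, h1, h4, h4]
          by_cases hx : x = 0
          · rw [hx, (hπf i 0).2 rfl]
          by_cases hτ : τ i x = x
          · have h5 : τ i (π i x) = π i x := by
              by_contra h5
              have h6 := hP2 i _ _ _ (hτP _ h5) (hπP i x hx).symm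
              have h7 := (h3 i _ h5).1
              rw [h6, hτ] at h7
              exact (hπP i x hx).1 h7
            have h6 := h2' (π i x)
            rw [h5] at h6
            have h7 := h2' x
            rw [hτ] at h7
            rw [h6, h7, hz2, hz2]
          · have h5 : τ i x = π i x := hP2 i _ _ _ (hτP x hτ) (hπP i x hx)
            have h6 := h2' x
            have h7 := h2' (τ i x)
            rw [(h3 i x hτ).1] at h7
            rw [← h5, h6, h7, add_comm]
        · rw [h1, h4]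
          have h5 := h2' 0
          rw [K.fix0 b (hBR hp) _ _ h2] at h5
          rw [h5, hz2]
      | zero =>
        refine ⟨zero_mem _, fun i => ⟨fun x => ?_, ?_⟩⟩
        · rw [K.co_zero]; rfl
        · rw [K.co_zero]; rfl
      | add v w _ _ h1 h2 =>
        refine ⟨add_mem h1.1 h2.1, fun i => ?_⟩
        rw [K.add _ h1.1 _ h2.1]
        refine ⟨fun x => ?_, ?_⟩
        · change co v i _ + co w i _ = co v i _ + co w i _
          rw [(h1.2 i).1, (h2.2 i).1]
        · change co v i _ + co w i _ = 0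
          rw [(h1.2 i).2, (h2.2 i).2, add_zero]
      | neg v _ h1 =>
        have e : -v = v := neg_eq_of_add_eq_zero_left (amb.two v)
        rw [e]
        exact h1
    funext i
    exact hρ i (co v i) (fun x => by
      by_cases hx : x = 0
      · rw [hx, (hπf i 0).2 rfl]
      · exact (hvP i x _ (hπP i x hx)).symm) (key.2 i).1 (key.2 i).2

end members

end Cfsg.Agent.Omega.NO1.TH.K
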