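import Cfsg.Agent.Omega.NO1.TH.K.SDef
import Cfsg.Agent.Omega.NO1.TH.LOneDef

/-!
# N1, the amalgam `(H, H^t)`, `S_n` type: the pairs of `R`, opposite members (bb OMEGA 21203, 21465, 22346)

`PI V H R co i x y` : `R` contains the transposition `(x y)` of block `i`.
`OppS V M H R co A` : `A ≰ M` and `[W, A] ∩ W_J ≤ D₀`.
-/

set_option autoImplicit false
set_option linter.unusedSectionVars false
set_option linter.dupNamespace false

namespace Cfsg.Agent.Omega.NO1.TH.K

open Subgroup

universe u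

variable {Y : Type u} [Group Y]

/-- `R` contains the transposition `(x y)` of block `i`. -/
def PI (V : Type u) [AddCommGroup V] [DistribMulAction Y V] (H R : Subgroup Y) {k n : ℕ}
    (co : V → Fin k → Fin n → ZMod 2) (i : Fin k) (x y : Fin n) : Prop :=
  x ≠ y ∧ ∃ r ∈ R, ActS V H R co r 1 (Function.update 1 i (Equiv.swap x y)) ∧ TrD V H R co r

/-- opposite: `A ≰ M`, `[W, A] ∩ W_J ≤ D₀` -/
def OppS (V : Type u) [AddCommGroup V] [DistribMulAction Y V] (M H R : Subgroup Y) {k n : ℕ}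
    (co : V → Fin k → Fin n → ZMod 2) (A : Subgroup Y) : Prop :=
  ¬ A ≤ M ∧ ∀ v ∈ brk (WW V H R) A, (∀ i x y, PI V H R co i x y → co v i x = co v i y) → co v = 0

variable {V : Type u} [AddCommGroup V] [DistribMulAction Y V]

theorem PI.symm {H R : Subgroup Y} {k n : ℕ} {co : V → Fin k → Fin n → ZMod 2} {i : Fin k} {x y : Fin n}
    (h : PI V H R co i x y) : PI V H R co i y x := by
  obtain ⟨h1, r, hr, h2, h3⟩ := h
  exact ⟨h1.symm, r, hr, by rwa [Equiv.swap_comm], h3⟩

end Cfsg.Agent.Omega.NO1.TH.K
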