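import Cfsg.Agent.Omega.NO1.TH.KOneDef

/-!
# N1, BETA, `S_n` type: (z) of bb OMEGA 20646 / 21203 / 21465 (5) (helper247, helper864, helper593)

`Pts V H R P` : `P ⊆ W = WW V H R` is the set of the point vectors `{q, ∞}` of the blocks: `W` is generated by `V₀` and
`P`, `R` permutes `P`, and `p₁ + p₂ = p₃ + p₄` in `P` only trivially.
`Pts.zD` : `W' ≤ E_D` for all members `D ≤ H`; `Pts.zK` : `W^g ≤ E_A` for `g ∈ H'`.
-/

set_option autoImplicit false
set_option linter.unusedSectionVars false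
set_option linter.dupNamespace false

namespace Cfsg.Agent.Omega.NO1.TH.K

open Subgroup Cfsg.Agent.Omega.NO1.AB
open scoped Pointwise

universe u

variable {Y : Type u} [Group Y] {V : Type u} [AddCommGroup V] [DistribMulAction Y V]

/-- the point vectors `{q, ∞}` of the blocks of `W` -/
structure Pts (V : Type u) [AddCommGroup V] [DistribMulAction Y V] (H R : Subgroup Y) (P : Set V) : Prop where
  le : ∀ p ∈ P, p ∈ WW V H R
  gen : WW V H R ≤ fx V R ⊔ AddSubgroup.closure P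
  smul : ∀ r ∈ R, ∀ p ∈ P, r • p ∈ P
  ind : ∀ p₁ ∈ P, ∀ p₂ ∈ P, ∀ p₃ ∈ P, ∀ p₄ ∈ P, p₁ + p₂ = p₃ + p₄ → p₁ = p₂ ∨ p₁ = p₃ ∨ p₁ = p₄

/-- the two commuting elements `b`, `s` of a member with `[v, b, s] = 0` on a point vector `v ∉ E` -/
theorem two_of_ind {D Rr : Subgroup Y} {P : Set V} (hsm : ∀ r ∈ Rr, ∀ p ∈ P, r • p ∈ P)
    (ind : ∀ p₁ ∈ P, ∀ p₂ ∈ P, ∀ p₃ ∈ P, ∀ p₄ ∈ P, p₁ + p₂ = p₃ + p₄ → p₁ = p₂ ∨ p₁ = p₃ ∨ p₁ = p₄)
    (two : ∀ v : V, v + v = 0) (hm : Mem D (Ee V D) (fx V D)) {v : V} (hv : v ∈ P) (hvE : v ∉ Ee V D)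
    {b s : Y} (hb : b ∈ D) (hbR : b ∈ Rr) (hs : s ∈ D) (hsR : s ∈ Rr) {x : V} (hbx : b • x = x)
    (hsx : s • v + v + x ∈ fx V D) (hb1 : b ≠ 1) : s = 1 ∨ s = b := by
  have h1 := hsx b hb
  rw [smul_add, smul_add, hbx] at h1
  have h2 : b • s • v + b • v = s • v + v := add_right_cancel h1
  have h3 := ind _ (hsm b hbR _ (hsm s hsR _ hv)) _ (hsm b hbR _ hv) _ (hsm s hsR _ hv) _ hv h2
  have key : ∀ c ∈ D, c • v = v → c = 1 := fun c hc hcv => hm.inj v hvE c hc (by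
    rw [hcv, two]; exact zero_mem _)
  rcases h3 with h3 | h3 | h3
  · -- `b s v = b v`
    left
    exact key s hs (smul_left_cancel b h3)
  · -- `b s v = s v`
    exfalso
    apply hb1
    apply key b hb
    rw [← mul_smul, hm.comm b hb s hs, mul_smul] at h3
    exact smul_left_cancel s h3
  · -- `b s v = v`
    right
    have h4 := key (b * s) (D.mul_mem hb hs) (by rw [mul_smul]; exact h3)
    have h5 := hm.sq b hb
    rw [← h5] at h4
    exact mul_left_cancel h4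

theorem exists_pt {H R : Subgroup Y} {P : Set V} (hP : Pts V H R P) {E : AddSubgroup V} {g : Y}
    (hV : ∀ v ∈ fx V R, g • v ∈ E) {w : V} (hw : w ∈ WW V H R) (hwE : g • w ∉ E) : ∃ p ∈ P, g • p ∉ E := by
  by_contra hcon
  push Not at hcon
  apply hwE
  have h1 := hP.gen hw
  rw [AddSubgroup.mem_sup] at h1
  obtain ⟨x, hx, y, hy, rfl⟩ := h1
  rw [smul_add]
  refine E.add_mem (hV x hx) ?_
  clear hw hwE
  induction hy using AddSubgroup.closure_induction with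
  | mem v hv => exact hcon v hv
  | zero => rw [smul_zero]; exact zero_mem _
  | add a b _ _ h1 h2 => rw [smul_add]; exact add_mem h1 h2
  | neg a _ h1 => rw [smul_neg]; exact neg_mem h1

/-- transport with `t` -/
theorem Pts.conj_t {U : Set (Subgroup Y)} {T : Sylow 2 Y} {M H R : Subgroup Y} {t : Y} {P : Set V}
    (a : Amal U T M H R t) (hP : Pts V H R P) : Pts V (MulAut.conj t • H) R (t • P) := by
  have hW : WW V (MulAut.conj t • H) R = t • WW V H R := WW_conj (fun v => a.smul_V0) fun v => a.smul_V0'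
  refine ⟨?_, ?_, ?_, ?_⟩
  · rintro _ ⟨p, hp, rfl⟩
    rw [hW]
    exact smul_mem_smul_as (hP.le p hp)
  · rw [hW]
    intro v hv
    rw [mem_smul_as] at hv
    have h1 := hP.gen hv
    rw [AddSubgroup.mem_sup] at h1
    obtain ⟨x, hx, y, hy, hxy⟩ := h1
    have e : v = t • x + t • y := by rw [← smul_add, hxy, smul_inv_smul]
    rw [e]
    refine add_mem ((le_sup_left : fx V R ≤ _) (a.smul_V0 hx)) ?_
    apply (le_sup_right : AddSubgroup.closure (t • P) ≤ fx V R ⊔ AddSubgroup.closure (t • P))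
    clear hxy e
    induction hy using AddSubgroup.closure_induction with
    | mem v hv => exact AddSubgroup.subset_closure ⟨v, hv, rfl⟩
    | zero => rw [smul_zero]; exact zero_mem _
    | add a b _ _ h1 h2 => rw [smul_add]; exact add_mem h1 h2
    | neg a _ h1 => rw [smul_neg]; exact neg_mem h1
  · rintro r hr _ ⟨p, hp, rfl⟩
    refine ⟨(t⁻¹ * r * t) • p, hP.smul _ (a.symm_smul hr) _ hp, ?_⟩
    simp only
    rw [← mul_smul, ← mul_smul]
    congr 1
    group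
  · rintro _ ⟨p₁, h₁, rfl⟩ _ ⟨p₂, h₂, rfl⟩ _ ⟨p₃, h₃, rfl⟩ _ ⟨p₄, h₄, rfl⟩ h
    simp only [← smul_add, smul_left_cancel_iff] at h ⊢
    exact hP.ind _ h₁ _ h₂ _ h₃ _ h₄ h

section

variable [Finite Y] [Finite V] {U : Set (Subgroup Y)} {T : Sylow 2 Y} {M H H' R : Subgroup Y} {t : Y}

/-- (a) for all members `D ≤ H` from (a) for the members `D ≤ R` -/
theorem pre_of_R (amb : Amb V U T M) (a : Amal U T M H R t)
    (pre : ∀ D ∈ U, D ≤ R → ∀ w, w ∉ Ee V D → ∀ s ∈ D, s • w + w ∈ WW V H R ⊔ fx V D → s ∈ QQ H R) :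
    ∀ D ∈ U, D ≤ H → ∀ w, w ∉ Ee V D → ∀ s ∈ D, s • w + w ∈ WW V H R ⊔ fx V D → s ∈ QQ H R := by
  intro D hD hDH w hw s hs hsw
  obtain ⟨x, hx, hxU, hxR⟩ := Amal.exists_conj a amb hD hDH
  have h1 := pre _ hxU hxR (x • w) (fun h1 => hw (by
    rw [Ee_conj, mem_smul_as, inv_smul_smul] at h1; exact h1)) (x * s * x⁻¹) (conj_mem_conj hs) (by
      have e : (x * s * x⁻¹) • x • w + x • w = x • (s • w + w) := by
        rw [smul_add, ← mul_smul, ← mul_smul]
        congr 2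
        group
      rw [e]
      rw [AddSubgroup.mem_sup] at hsw
      obtain ⟨y, hy, z, hz, hyz⟩ := hsw
      rw [← hyz, smul_add]
      refine add_mem ((le_sup_left : WW V H R ≤ _) (smul_mem_WW hx hy)) ?_
      apply (le_sup_right : fx V (MulAut.conj x • D) ≤ WW V H R ⊔ fx V (MulAut.conj x • D))
      rw [fx_conj]
      exact smul_mem_smul_as hz)
  have h2 := conj_mem_QQ (H.inv_mem hx) h1
  have e : x⁻¹ * (x * s * x⁻¹) * x⁻¹⁻¹ = s := by group
  rwa [e] at h2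

/-- a vector of `W` moved by the member `D ≤ H`, `D ≰ Q` -/
theorem exists_W_notin (amb : Amb V U T M) (a : Amal U T M H R t) {D : Subgroup Y} (hD : D ∈ U) (hDH : D ≤ H)
    (hDQ : ¬ D ≤ QQ H R) : ∃ x ∈ WW V H R, x ∉ fx V D := by
  by_contra hcon
  push Not at hcon
  apply hDQ
  have h1 := Amal.inf_CW' a amb hD hDH
  intro d hd
  have h2 : d ∈ D ⊓ CW V H R := ⟨hd, fun w hw => hcon w hw d hd⟩
  rw [h1] at h2
  exact h2.2

/-- (z), the group `K`: `W^g ≤ E_A` for `g ∈ H'` -/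
theorem Pts.zK (amb : Amb V U T M) (a : Amal U T M H R t) (a' : Amal U T M H' R t) (we : WE V U H R) {P : Set V}
    (hP : Pts V H R P) {A : Subgroup Y} (hA : A ∈ U) (hAH : A ≤ H) (hAM : ¬ A ≤ M)
    (hW' : WW V H' R ≤ Ee V A)
    (preX : ∀ w, w ∉ Ee V A → ∀ s ∈ A, s • w + w ∈ WW V H R ⊔ WW V H' R ⊔ fx V A → s ∈ QQ H R ∧ s ∈ QQ H' R)
    (star : ∃ b ∈ A ⊓ QQ H R, b ∉ QQ H' R) :
    ∀ g ∈ H', ∀ w ∈ WW V H R, g • w ∈ Ee V A := by
  intro g hg w hw
  by_contra hcon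
  have hm := amb.cls.mem A hA
  have hWE := Amal.WW_le_Ee a amb we hA hAH
  obtain ⟨p, hp, hpE⟩ := exists_pt hP (E := Ee V A) (g := g) (fun v hv => hW' (smul_mem_WW hg (fx_le_WW hv))) hw hcon
  -- `s_x`
  have hs : ∀ x ∈ WW V H R ⊔ WW V H' R, ∃ s ∈ A, s ∈ QQ H R ∧ s ∈ QQ H' R ∧ s • g • p + g • p + x ∈ fx V A := by
    intro x hx
    obtain ⟨s, hs, h1⟩ := hm.surj (g • p) hpE x (sup_le hWE hW' hx)
    have h2 : s • g • p + g • p ∈ WW V H R ⊔ WW V H' R ⊔ fx V A := by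
      have e : s • g • p + g • p = x + (s • g • p + g • p + x) := by
        have : x + (s • g • p + g • p + x) = s • g • p + g • p + (x + x) := by abel
        rw [this, amb.two, add_zero]
      rw [e]
      exact add_mem ((le_sup_left : WW V H R ⊔ WW V H' R ≤ _) hx)
        ((le_sup_right : fx V A ≤ WW V H R ⊔ WW V H' R ⊔ fx V A) h1)
    have h3 := preX _ hpE s hs h2
    exact ⟨s, hs, h3.1, h3.2, h1⟩
  -- the fixed vectors of `K`
  have hfix : ∀ b ∈ QQ H R, b ∈ QQ H' R → ∀ x ∈ WW V H R ⊔ WW V H' R, b • x = x := by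
    intro b hb hb' x hx
    rw [AddSubgroup.mem_sup] at hx
    obtain ⟨y, hy, z, hz, rfl⟩ := hx
    rw [smul_add, Amal.QQ_fix a amb hb hy, Amal.QQ_fix a' amb hb' hz]
  -- two elements of `W`, `W'`
  obtain ⟨b₀, ⟨hb₀A, hb₀Q⟩, hb₀'⟩ := star
  obtain ⟨x, hx, hxF⟩ := exists_W_notin amb a hA hAH (fun h => hAM (h.trans (QQ_le.trans (a.RT.trans amb.TM))))
  obtain ⟨y, hy, hyb⟩ : ∃ y ∈ WW V H' R, b₀ • y ≠ y := by
    by_contra h1
    push Not at h1
    exact hb₀' ((Amal.mem_QQ_iff a' amb (QQ_le hb₀Q)).2 h1)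
  obtain ⟨s, hsA, hsQ, hsQ', hsx⟩ := hs x ((le_sup_left : WW V H R ≤ _) hx)
  obtain ⟨b, hbA, hbQ, hbQ', hby⟩ := hs y ((le_sup_right : WW V H' R ≤ WW V H R ⊔ WW V H' R) hy)
  have hb1 : b ≠ 1 := by
    rintro rfl
    rw [one_smul, amb.two, zero_add] at hby
    exact hyb (hby b₀ hb₀A)
  have hs1 : s ≠ 1 := by
    rintro rfl
    rw [one_smul, amb.two, zero_add] at hsx
    exact hxF hsx
  -- `R^g`, `P^g`
  have h1 := two_of_ind (D := A) (Rr := MulAut.conj g • R) (P := (fun v => g • v) '' P) (by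
      rintro r hr _ ⟨q, hq, rfl⟩
      rw [mem_conj] at hr
      refine ⟨(g⁻¹ * r * g) • q, hP.smul _ hr _ hq, ?_⟩
      simp only
      rw [← mul_smul, ← mul_smul]
      congr 1
      group) (by
      rintro _ ⟨p₁, h₁, rfl⟩ _ ⟨p₂, h₂, rfl⟩ _ ⟨p₃, h₃, rfl⟩ _ ⟨p₄, h₄, rfl⟩ h
      simp only [← smul_add, smul_left_cancel_iff] at h ⊢
      exact hP.ind _ h₁ _ h₂ _ h₃ _ h₄ h) amb.two hm (v := g • p) ⟨p, hp, rfl⟩ hpE hbA (by
      rw [mem_conj]
      have := QQ_le (conj_mem_QQ (H'.inv_mem hg) hbQ')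
      rwa [inv_inv] at this) hsA (by
      rw [mem_conj]
      have := QQ_le (conj_mem_QQ (H'.inv_mem hg) hsQ')
      rwa [inv_inv] at this) (hfix b hbQ hbQ' x ((le_sup_left : WW V H R ≤ _) hx)) hsx hb1
  rcases h1 with h1 | h1
  · exact hs1 h1
  · subst h1
    -- `x + y ∈ F_A`
    have h2 : x + y ∈ fx V A := by
      have h3 := (fx V A).add_mem hsx hby
      have e : s • g • p + g • p + x + (s • g • p + g • p + y) = (s • g • p + g • p) + (s • g • p + g • p) + (x + y) := by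
        abel
      rwa [e, amb.two, zero_add] at h3
    apply hyb
    have h3 := h2 b₀ hb₀A
    rw [smul_add, Amal.QQ_fix a amb hb₀Q hx] at h3
    exact add_left_cancel h3

/-- the order of a member: `|D| ≤ 4` if `|D ∩ Q| ≤ 2` and `|W : W ∩ F_D| ≤ 2` -/
theorem card_le_four (amb : Amb V U T M) (a : Amal U T M H R t) (we : WE V U H R) {D : Subgroup Y} (hD : D ∈ U)
    (hDH : D ≤ H) (h1 : Nat.card ↥(D ⊓ QQ H R) ≤ 2) (h2 : Nat.card ↥(WW V H R) ≤ 2 * Nat.card ↥(WW V H R ⊓ fx V D)) :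
    Nat.card D ≤ 4 := by
  have h3 := Amal.exact' a amb we hD hDH
  have h4 : 0 < Nat.card ↥(WW V H R ⊓ fx V D) := Nat.card_pos
  apply Nat.le_of_mul_le_mul_right _ h4
  rw [← h3]
  calc Nat.card ↥(WW V H R) * Nat.card ↥(D ⊓ QQ H R) ≤ 2 * Nat.card ↥(WW V H R ⊓ fx V D) * 2 :=
        Nat.mul_le_mul h2 h1
    _ = 4 * Nat.card ↥(WW V H R ⊓ fx V D) := by ring

/-- (z), the group `D ∩ Q`: `W' ≤ E_D` for the members `D ≤ H` -/
theorem Pts.zD (amb : Amb V U T M) (a : Amal U T M H R t) (we : WE V U H R) (hH' : H' = MulAut.conj t • H)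
    {P : Set V} (hP : Pts V H' R P) {D : Subgroup Y} (hD : D ∈ U) (hDH : D ≤ H)
    (pre : ∀ w, w ∉ Ee V D → ∀ s ∈ D, s • w + w ∈ WW V H R ⊔ fx V D → s ∈ QQ H R) (h4 : 4 < Nat.card D) :
    WW V H' R ≤ Ee V D := by
  classical
  intro w hw
  by_contra hcon
  have hm := amb.cls.mem D hD
  have hWE := Amal.WW_le_Ee a amb we hD hDH
  have hWc : WW V H' R = t • WW V H R := by
    rw [hH']
    exact WW_conj (fun v => a.smul_V0) fun v => a.smul_V0'
  have hDQ : ¬ D ≤ QQ H R := by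
    intro h1
    apply hcon
    rw [hWc] at hw
    exact Amal.tW_le_Ee a amb we hD (h1.trans QQ_le) hw
  obtain ⟨v, hv, hvE⟩ := exists_pt hP (E := Ee V D) (g := 1) (fun v hv => by
    rw [one_smul]; exact hWE (fx_le_WW hv)) hw (by rwa [one_smul])
  rw [one_smul] at hvE
  have hs : ∀ x ∈ WW V H R, ∃ s ∈ D, s ∈ QQ H R ∧ s • v + v + x ∈ fx V D := by
    intro x hx
    obtain ⟨s, hs, h1⟩ := hm.surj v hvE x (hWE hx)
    have h2 : s • v + v ∈ WW V H R ⊔ fx V D := by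
      have e : s • v + v = x + (s • v + v + x) := by
        have : x + (s • v + v + x) = s • v + v + (x + x) := by abel
        rw [this, amb.two, add_zero]
      rw [e]
      exact add_mem ((le_sup_left : WW V H R ≤ _) hx) ((le_sup_right : fx V D ≤ WW V H R ⊔ fx V D) h1)
    exact ⟨s, hs, pre _ hvE s hs h2, h1⟩
  have key : ∀ b ∈ D ⊓ QQ H R, b ≠ 1 → ∀ x ∈ WW V H R, ∀ s ∈ D, s ∈ QQ H R → s • v + v + x ∈ fx V D →
      s = 1 ∨ s = b := by
    intro b hb hb1 x hx s hs hsQ hsx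
    exact two_of_ind (Rr := R) hP.smul hP.ind amb.two hm hv hvE hb.1 (QQ_le hb.2) hs (QQ_le hsQ)
      (Amal.QQ_fix a amb hb.2 hx) hsx hb1
  obtain ⟨x₀, hx₀, hx₀F⟩ := exists_W_notin amb a hD hDH hDQ
  obtain ⟨s₀, hs₀, hs₀Q, hs₀x⟩ := hs x₀ hx₀
  have hs₀1 : s₀ ≠ 1 := by
    rintro rfl
    rw [one_smul, amb.two, zero_add] at hs₀x
    exact hx₀F hs₀x
  -- `D ∩ Q = {1, s₀}`
  have hB : ∀ b ∈ D ⊓ QQ H R, b = 1 ∨ b = s₀ := by
    intro b hb
    by_cases hb1 : b = 1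
    · exact Or.inl hb1
    · rcases key b hb hb1 x₀ hx₀ s₀ hs₀ hs₀Q hs₀x with h1 | h1
      · exact absurd h1 hs₀1
      · exact Or.inr h1.symm
  -- `|W : W ∩ F_D| ≤ 2`
  have hW2 : ∀ x ∈ WW V H R, x ∈ fx V D ∨ x + x₀ ∈ fx V D := by
    intro x hx
    obtain ⟨s, hs', hsQ, hsx⟩ := hs x hx
    rcases hB s ⟨hs', hsQ⟩ with h1 | h1
    · subst h1
      rw [one_smul, amb.two, zero_add] at hsx
      exact Or.inl hsx
    · subst h1
      right
      have h3 := (fx V D).add_mem hsx hs₀x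
      have e : s • v + v + x + (s • v + v + x₀) = (s • v + v) + (s • v + v) + (x + x₀) := by abel
      rwa [e, amb.two, zero_add] at h3
  have h5 := card_le_four amb a we hD hDH (by
    have h6 : Nat.card ↥(D ⊓ QQ H R) ≤ Nat.card ({1, s₀} : Set Y) := by
      apply Nat.card_mono (Set.toFinite _)
      intro b hb
      rcases hB b hb with h1 | h1
      · exact Or.inl h1
      · exact Or.inr h1
    refine h6.trans ?_
    rw [Nat.card_coe_set_eq]
    exact (Set.ncard_insert_le _ _).trans (by rw [Set.ncard_singleton])) (by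
    let f : ↥(WW V H R) → Bool × ↥(WW V H R ⊓ fx V D) := fun x =>
      if h : (x : V) ∈ fx V D then (true, ⟨x, x.2, h⟩) else (false, ⟨x + x₀, add_mem x.2 hx₀, (hW2 x x.2).resolve_left h⟩)
    have hf : Function.Injective f := by
      intro x y hxy
      by_cases h6 : (x : V) ∈ fx V D
      · by_cases h7 : (y : V) ∈ fx V D
        · simp only [f, dif_pos h6, dif_pos h7, Prod.mk.injEq, true_and] at hxy
          have h8 := congrArg (fun z : ↥(WW V H R ⊓ fx V D) => (z : V)) hxy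
          exact Subtype.ext h8
        · simp only [f, dif_pos h6, dif_neg h7, Prod.mk.injEq] at hxy
          exact absurd hxy.1 (by decide)
      · by_cases h7 : (y : V) ∈ fx V D
        · simp only [f, dif_neg h6, dif_pos h7, Prod.mk.injEq] at hxy
          exact absurd hxy.1 (by decide)
        · simp only [f, dif_neg h6, dif_neg h7, Prod.mk.injEq, true_and] at hxy
          have h8 := congrArg (fun z : ↥(WW V H R ⊓ fx V D) => (z : V)) hxy
          exact Subtype.ext (add_right_cancel h8)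
    have h6 := Nat.card_le_card_of_injective f hf
    have h7 : Nat.card Bool = 2 := by rw [Nat.card_eq_fintype_card, Fintype.card_bool]
    rwa [Nat.card_prod, h7] at h6)
  omega

end

end Cfsg.Agent.Omega.NO1.TH.K
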