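import Cfsg.Agent.Omega.NO1.TH.K.SDef
import Cfsg.Agent.Omega.NO1.TH.K.Four

/-!
# N1, `S_n` type: transpositions (bb OMEGA 21636, helper593)

`Sw V H R co g i x y` : `g` acts on the coordinates of `W` as the transposition `(x y)` of block `i`.
`Sw.smul_eq` (same action on `W`), `Sw.conj`, `sw_disjD` (transpositions in `R` are disjoint), `exists_moveD` (`H` is
transitive on the ordered pairs of letters), `stab0` (the elements of `H` which fix the letters `0` are in `M`).
-/

set_option autoImplicit false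
set_option linter.unusedSectionVars false
set_option linter.dupNamespace false

namespace Cfsg.Agent.Omega.NO1.TH.K

open Subgroup Cfsg.Agent.Omega.NO1.AB Cfsg.Agent.Omega.FFBr
open scoped Pointwise

universe u

variable {Y : Type u} [Group Y]

/-- `g` acts on `W` as the transposition `(x y)` of block `i` -/
structure Sw (V : Type u) [AddCommGroup V] [DistribMulAction Y V] (H R : Subgroup Y) {k n : ℕ}
    (co : V → Fin k → Fin n → ZMod 2) (g : Y) (i : Fin k) (x y : Fin n) : Prop where
  ne : x ≠ y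
  act : ActS V H R co g 1 (Function.update 1 i (Equiv.swap x y))

/-- the coordinates of the vector of the pair `{x, y}` of block `i` -/
def indi {k n : ℕ} (i : Fin k) (x y : Fin n) (j : Fin k) (z : Fin n) : ZMod 2 :=
  if j = i ∧ (z = x ∨ z = y) then 1 else 0

theorem indi_comm {k n : ℕ} (i : Fin k) (x y : Fin n) : indi i x y = indi i y x := by
  funext j z
  unfold indi
  congr 1
  rw [or_comm]

theorem indi_ne {k n : ℕ} (i : Fin k) (x y : Fin n) : indi i x y ≠ 0 := by
  intro h
  have h1 := congrFun (congrFun h i) x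
  unfold indi at h1
  rw [if_pos ⟨rfl, Or.inl rfl⟩] at h1
  exact one_ne_zero h1

theorem zmodD_self (a : ZMod 2) : a + a = 0 := CharTwo.add_self_eq_zero a

theorem zmodD_ne {a b : ZMod 2} (h : a ≠ b) : a + b = 1 := by
  revert a b; decide

/-- a permutation with two prescribed values -/
theorem exists_permD {n : ℕ} {a b a' b' : Fin n} (h : a ≠ b) (h' : a' ≠ b') :
    ∃ p : Equiv.Perm (Fin n), p a = a' ∧ p b = b' := by
  refine ⟨Equiv.swap (Equiv.swap a a' b) b' * Equiv.swap a a', ?_, ?_⟩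
  · rw [Equiv.Perm.mul_apply, Equiv.swap_apply_left, Equiv.swap_apply_of_ne_of_ne _ h']
    intro h1
    have h2 : Equiv.swap a a' b = Equiv.swap a a' a := by rw [← h1, Equiv.swap_apply_left]
    exact h ((Equiv.swap a a').injective h2).symm
  · rw [Equiv.Perm.mul_apply, Equiv.swap_apply_left]

variable {V : Type u} [AddCommGroup V] [DistribMulAction Y V]

section

variable {H R : Subgroup Y} {k n : ℕ} {co : V → Fin k → Fin n → ZMod 2}

theorem ActS.mulD {g h : Y} {σ σ' : Equiv.Perm (Fin k)} {τ τ' : Fin k → Equiv.Perm (Fin n)} (hh : h ∈ H)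
    (h1 : ActS V H R co g σ τ) (h2 : ActS V H R co h σ' τ') :
    ActS V H R co (g * h) (σ * σ') fun i => τ (σ' i) * τ' i := by
  intro v hv i x
  rw [mul_smul, Equiv.Perm.mul_apply, Equiv.Perm.mul_apply, h1 _ (smul_mem_WW hh hv), h2 v hv]

theorem Sw.symm {g : Y} {i : Fin k} {x y : Fin n} (h : Sw V H R co g i x y) : Sw V H R co g i y x :=
  ⟨h.ne.symm, by rw [Equiv.swap_comm]; exact h.act⟩

theorem Sw.co_eq {g : Y} {i : Fin k} {x y : Fin n} (h : Sw V H R co g i x y) {v : V} (hv : v ∈ WW V H R)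
    (j : Fin k) (z : Fin n) :
    co (g • v) j z = co v j ((Function.update (1 : Fin k → Equiv.Perm (Fin n)) i (Equiv.swap x y)) j z) := by
  have h1 := h.act v hv j ((Function.update (1 : Fin k → Equiv.Perm (Fin n)) i (Equiv.swap x y)) j z)
  rw [← h1, Equiv.Perm.one_apply]
  congr 1
  by_cases hj : j = i
  · subst hj
    rw [Function.update_self, Equiv.swap_apply_self]
  · rw [Function.update_of_ne hj]
    rfl

theorem Sw.co_i {g : Y} {i : Fin k} {x y : Fin n} (h : Sw V H R co g i x y) {v : V} (hv : v ∈ WW V H R)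
    (z : Fin n) : co (g • v) i z = co v i (Equiv.swap x y z) := by
  rw [h.co_eq hv, Function.update_self]

theorem Sw.co_j {g : Y} {i : Fin k} {x y : Fin n} (h : Sw V H R co g i x y) {v : V} (hv : v ∈ WW V H R)
    {j : Fin k} (hj : j ≠ i) (z : Fin n) : co (g • v) j z = co v j z := by
  rw [h.co_eq hv, Function.update_of_ne hj]
  rfl

theorem Sw.co_same {g : Y} {i : Fin k} {x y : Fin n} (h : Sw V H R co g i x y) {v : V} (hv : v ∈ WW V H R)
    (h1 : co v i x = co v i y) : co (g • v) = co v := by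
  funext j z
  by_cases hj : j = i
  · subst hj
    rw [h.co_i hv]
    by_cases hx : z = x
    · rw [hx, Equiv.swap_apply_left, h1]
    · by_cases hy : z = y
      · rw [hy, Equiv.swap_apply_right, h1]
      · rw [Equiv.swap_apply_of_ne_of_ne hx hy]
  · exact h.co_j hv hj z

theorem Sw.co_of_fix {g : Y} {i : Fin k} {x y : Fin n} (h : Sw V H R co g i x y) {v : V} (hv : v ∈ WW V H R)
    (h1 : co (g • v) = co v) : co v i x = co v i y := by
  have h2 := h.co_i hv x
  rw [h1, Equiv.swap_apply_left] at h2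
  exact h2

/-- conjugation -/
theorem Sw.conj {g : Y} {i : Fin k} {x y : Fin n} (h : Sw V H R co g i x y) (hg : g ∈ H) {l : Y} (hl : l ∈ H)
    {σ : Equiv.Perm (Fin k)} {τ : Fin k → Equiv.Perm (Fin n)} (hlσ : ActS V H R co l σ τ) :
    Sw V H R co (l * g * l⁻¹) (σ i) (τ i x) (τ i y) := by
  refine ⟨fun h1 => h.ne ((τ i).injective h1), ?_⟩
  intro v hv j z
  obtain ⟨j', rfl⟩ := σ.surjective j
  obtain ⟨z', rfl⟩ := (τ j').surjective z
  have hu : l⁻¹ • v ∈ WW V H R := smul_mem_WW (H.inv_mem hl) hv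
  have e1 : co v (σ j') (τ j' z') = co (l⁻¹ • v) j' z' := by
    rw [← hlσ _ hu, smul_inv_smul]
  have e2 : (l * g * l⁻¹) • v = l • (g • (l⁻¹ • v)) := by rw [mul_smul, mul_smul]
  rw [e1, e2, Equiv.Perm.one_apply]
  by_cases hj : j' = i
  · subst hj
    rw [Function.update_self, ← h.act _ hu j' z', Function.update_self, Equiv.Perm.one_apply,
      ← hlσ _ (smul_mem_WW hg hu)]
    congr 1
    by_cases hx : z' = x
    · rw [hx, Equiv.swap_apply_left, Equiv.swap_apply_left]
    · by_cases hy : z' = y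
      · rw [hy, Equiv.swap_apply_right, Equiv.swap_apply_right]
      · rw [Equiv.swap_apply_of_ne_of_ne hx hy,
          Equiv.swap_apply_of_ne_of_ne (fun h1 => hx ((τ j').injective h1)) fun h1 => hy ((τ j').injective h1)]
  · have hj' : σ j' ≠ σ i := fun h1 => hj (σ.injective h1)
    rw [Function.update_of_ne hj', Pi.one_apply, Equiv.Perm.one_apply, hlσ _ (smul_mem_WW hg hu),
      h.co_j hu hj]

theorem Sw.of_smul {g g' : Y} {i : Fin k} {x y : Fin n} (h : Sw V H R co g i x y)
    (he : ∀ w ∈ WW V H R, g' • w = g • w) : Sw V H R co g' i x y :=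
  ⟨h.ne, fun v hv j z => by rw [he v hv]; exact h.act v hv j z⟩

end

section ksym

variable {H R : Subgroup Y} {k m : ℕ} {co : V → Fin k → Fin (2 ^ m + 1) → ZMod 2}
variable (K : KSym V H R k m co)
include K

namespace KSym

theorem zeroD : co 0 = 0 := by
  have h := K.add 0 (zero_mem _) 0 (zero_mem _)
  rw [add_zero] at h
  exact left_eq_add.1 h

theorem five_leD : 5 ≤ 2 ^ m + 1 := by
  have h1 : 2 ^ 2 ≤ 2 ^ m := Nat.pow_le_pow_right (by norm_num) K.two_le
  omega

/-- a letter different from three given ones -/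
theorem exists_letterD (a b c : Fin (2 ^ m + 1)) : ∃ z, z ≠ a ∧ z ≠ b ∧ z ≠ c := by
  by_contra hcon
  push Not at hcon
  have h1 : (Finset.univ : Finset (Fin (2 ^ m + 1))) ⊆ {a, b, c} := by
    intro z _
    simp only [Finset.mem_insert, Finset.mem_singleton]
    by_cases h2 : z = a
    · exact Or.inl h2
    · by_cases h3 : z = b
      · exact Or.inr (Or.inl h3)
      · exact Or.inr (Or.inr (hcon z h2 h3))
  have h2 := Finset.card_le_card h1
  rw [Finset.card_univ, Fintype.card_fin] at h2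
  have h3 := (Finset.card_le_three (a := a) (b := b) (c := c))
  have h4 := K.five_leD
  omega

/-- the vector of a pair -/
theorem exists_vecD (i : Fin k) {x y : Fin (2 ^ m + 1)} (h : x ≠ y) : ∃ v ∈ WW V H R, co v = indi i x y := by
  apply K.surj
  intro j
  unfold indi
  by_cases hj : j = i
  · have e : ∀ z : Fin (2 ^ m + 1), (if j = i ∧ (z = x ∨ z = y) then (1 : ZMod 2) else 0) =
        (if z = x then 1 else 0) + (if z = y then 1 else 0) := by
      intro z
      by_cases h1 : z = x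
      · rw [if_pos ⟨hj, Or.inl h1⟩, if_pos h1, if_neg (fun h2 => h (h1.symm.trans h2)), add_zero]
      · by_cases h2 : z = y
        · rw [if_pos ⟨hj, Or.inr h2⟩, if_neg h1, if_pos h2, zero_add]
        · rw [if_neg (fun h3 => h3.2.elim h1 h2), if_neg h1, if_neg h2, add_zero]
    rw [Finset.sum_congr rfl fun z _ => e z, Finset.sum_add_distrib, Finset.sum_ite_eq' Finset.univ x,
      Finset.sum_ite_eq' Finset.univ y, if_pos (Finset.mem_univ _), if_pos (Finset.mem_univ _)]
    exact zmodD_self 1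
  · apply Finset.sum_eq_zero
    intro z _
    rw [if_neg fun h3 => hj h3.1]

/-- a vector which is moved by the transposition `(x y)` of block `i` -/
theorem exists_sepD (i : Fin k) {x y : Fin (2 ^ m + 1)} (h : x ≠ y) : ∃ v ∈ WW V H R, co v i x ≠ co v i y := by
  obtain ⟨z, hz1, hz2, _⟩ := K.exists_letterD x y y
  obtain ⟨v, hv, hco⟩ := K.exists_vecD i hz1.symm
  refine ⟨v, hv, ?_⟩
  rw [hco]
  unfold indi
  rw [if_pos ⟨rfl, Or.inl rfl⟩, if_neg (fun h3 => h3.2.elim (fun h4 => h h4.symm) fun h4 => hz2 h4.symm)]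
  exact one_ne_zero

/-- `co (g w + w)` -/
theorem co_swD {g : Y} {i : Fin k} {x y : Fin (2 ^ m + 1)} (h : Sw V H R co g i x y) (hg : g ∈ H) {v : V}
    (hv : v ∈ WW V H R) (h1 : co v i x ≠ co v i y) : co (g • v + v) = indi i x y := by
  rw [K.add _ (smul_mem_WW hg hv) _ hv]
  funext j z
  rw [Pi.add_apply, Pi.add_apply]
  unfold indi
  by_cases hj : j = i
  · subst hj
    rw [h.co_i hv]
    by_cases hx : z = x
    · rw [if_pos ⟨rfl, Or.inl hx⟩, hx, Equiv.swap_apply_left]
      exact zmodD_ne h1.symm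
    · by_cases hy : z = y
      · rw [if_pos ⟨rfl, Or.inr hy⟩, hy, Equiv.swap_apply_right]
        exact zmodD_ne h1
      · rw [if_neg (fun h3 => h3.2.elim hx hy), Equiv.swap_apply_of_ne_of_ne hx hy]
        exact zmodD_self _
  · rw [if_neg (fun h3 => hj h3.1), h.co_j hv hj]
    exact zmodD_self _

/-- the action on `W` is determined by the coordinates -/
theorem smul_eq_ofD {g g' : Y} (hg : g ∈ H) (hg' : g' ∈ H) {σ : Equiv.Perm (Fin k)}
    {τ : Fin k → Equiv.Perm (Fin (2 ^ m + 1))} (h : ActS V H R co g σ τ) (h' : ActS V H R co g' σ τ) {w : V}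
    (hw : w ∈ WW V H R) : g • w = g' • w := by
  have h1 := K.trivH (g⁻¹ * g') (H.mul_mem (H.inv_mem hg) hg') (fun w hw => by
    funext i x
    have hu : (g⁻¹ * g') • w ∈ WW V H R := smul_mem_WW (H.mul_mem (H.inv_mem hg) hg') hw
    have h2 := h _ hu i x
    rw [← mul_smul, mul_inv_cancel_left, h' w hw i x] at h2
    exact h2.symm) w hw
  rw [mul_smul, inv_smul_eq_iff] at h1
  exact h1.symm

theorem sw_smulD {g g' : Y} (hg : g ∈ H) (hg' : g' ∈ H) {i : Fin k} {x y : Fin (2 ^ m + 1)}
    (h : Sw V H R co g i x y) (h' : Sw V H R co g' i x y) {w : V} (hw : w ∈ WW V H R) : g • w = g' • w :=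
  K.smul_eq_ofD hg hg' h.act h'.act hw

/-- `H` is transitive on the ordered pairs of letters -/
theorem exists_moveD (hRH : R ≤ H) (i j : Fin k) {x y x' y' : Fin (2 ^ m + 1)} (h : x ≠ y) (h' : x' ≠ y') :
    ∃ l ∈ H, ∃ σ τ, ActS V H R co l σ τ ∧ σ i = j ∧ τ i x = x' ∧ τ i y = y' := by
  obtain ⟨r, hr, σ, τ, hrs, hij⟩ := K.trans i j
  obtain ⟨p, hp1, hp2⟩ := exists_permD (a := τ i x) (b := τ i y) (fun h1 => h ((τ i).injective h1)) h'
  obtain ⟨g, hg, hgτ, _⟩ := K.lift (fun _ => p)
  refine ⟨g * r, H.mul_mem hg (hRH hr), _, _, hgτ.mulD (hRH hr) hrs, ?_, ?_, ?_⟩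
  · rw [Equiv.Perm.mul_apply, hij]; rfl
  · rw [Equiv.Perm.mul_apply]; exact hp1
  · rw [Equiv.Perm.mul_apply]; exact hp2

/-- **two transpositions in `R` which share a letter coincide** -/
theorem sw_disjD (hRH : R ≤ H) (hR : IsPGroup 2 R)
    (hQ : ∀ q ∈ QQ H R, ∀ w ∈ WW V H R, q • w = w) {r s : Y} (hr : r ∈ R) (hs : s ∈ R) {i : Fin k}
    {x y z : Fin (2 ^ m + 1)} (h : Sw V H R co r i x y) (h' : Sw V H R co s i x z) : y = z := by
  by_contra hyz
  set c : Equiv.Perm (Fin (2 ^ m + 1)) := Equiv.swap x y * Equiv.swap x z with hc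
  have hc3 : c ^ 3 = 1 := by
    have h1 := Equiv.Perm.isThreeCycle_swap_mul_swap_same h.ne h'.ne hyz
    rw [← hc] at h1
    rw [← h1.orderOf]
    exact pow_orderOf_eq_one c
  set g := r * s with hgdef
  have hg : g ∈ R := R.mul_mem hr hs
  have hgc : ActS V H R co g 1 (Function.update 1 i c) := by
    have h1 := h.act.mulD (hRH hs) h'.act
    rw [mul_one] at h1
    have e : (fun j => (Function.update (1 : Fin k → Equiv.Perm (Fin (2 ^ m + 1))) i (Equiv.swap x y))
        ((1 : Equiv.Perm (Fin k)) j) * (Function.update (1 : Fin k → Equiv.Perm (Fin (2 ^ m + 1))) i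
        (Equiv.swap x z)) j) = Function.update (1 : Fin k → Equiv.Perm (Fin (2 ^ m + 1))) i c := by
      funext j
      rw [Equiv.Perm.one_apply]
      by_cases hj : j = i
      · subst hj
        rw [Function.update_self, Function.update_self, Function.update_self]
      · rw [Function.update_of_ne hj, Function.update_of_ne hj, Function.update_of_ne hj, Pi.one_apply, mul_one]
    rwa [e] at h1
  -- `g³ ∈ Q`
  have h3 : g ^ 3 ∈ QQ H R := by
    apply K.triv _ (R.pow_mem hg 3)
    intro w hw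
    have hg1 := hRH hg
    have key : ∀ w ∈ WW V H R, ∀ j z, co (g • w) j ((Function.update (1 : Fin k → Equiv.Perm (Fin (2 ^ m + 1))) i c) j z) =
        co w j z := fun w hw j z => hgc w hw j z
    have h4 : co (g ^ 3 • w) = co w := by
      funext j z
      have e : g ^ 3 • w = g • g • g • w := by rw [pow_succ, pow_two, mul_smul, mul_smul]
      have h5 := key _ (smul_mem_WW hg1 (smul_mem_WW hg1 hw)) j
        ((Function.update (1 : Fin k → Equiv.Perm (Fin (2 ^ m + 1))) i c) j ((Function.update (1 : Fin k → Equiv.Perm (Fin (2 ^ m + 1))) i c) j z))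
      rw [key _ (smul_mem_WW hg1 hw), key _ hw] at h5
      rw [e, ← h5]
      congr 1
      by_cases hj : j = i
      · subst hj
        rw [Function.update_self]
        have : c (c (c z)) = (c ^ 3) z := by rw [pow_succ, pow_two]; rfl
        rw [this, hc3]; rfl
      · rw [Function.update_of_ne hj]; rfl
    rw [K.add _ (smul_mem_WW (H.pow_mem hg1 3) hw) _ hw, h4]
    funext j z
    exact zmodD_self _
  -- so `g ∈ Q`
  have h4 : g ∈ QQ H R := by
    obtain ⟨a, ha⟩ := hR ⟨g, hg⟩
    have ha' : g ^ 2 ^ a = 1 := congrArg Subtype.val ha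
    have hcop : Nat.Coprime 3 (2 ^ a) := Nat.Coprime.pow_right a (by norm_num)
    have h5 := (QQ H R).zpow_mem h3 (Nat.gcdA 3 (2 ^ a))
    have h6 := Nat.gcd_eq_gcd_ab 3 (2 ^ a)
    rw [hcop.gcd_eq_one] at h6
    have h7 : g = (g ^ 3) ^ (Nat.gcdA 3 (2 ^ a)) := by
      have h8 : g ^ (((3 : ℕ) : ℤ) * Nat.gcdA 3 (2 ^ a) + ((2 ^ a : ℕ) : ℤ) * Nat.gcdB 3 (2 ^ a)) = g := by
        rw [← h6, Nat.cast_one, zpow_one]
      rw [zpow_add, zpow_mul, zpow_mul, zpow_natCast, zpow_natCast, ha', one_zpow, mul_one] at h8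
      exact h8.symm
    rw [h7]
    exact h5
  -- but `g` moves a vector
  obtain ⟨w, hw, hwx⟩ := K.exists_sepD i h'.ne
  have h5 := hQ g h4 w hw
  have h6 := hgc w hw i z
  rw [h5, Equiv.Perm.one_apply, Function.update_self, hc, Equiv.Perm.mul_apply, Equiv.swap_apply_right,
    Equiv.swap_apply_left] at h6
  have h7 := hgc w hw i x
  rw [h5, Equiv.Perm.one_apply, Function.update_self, hc, Equiv.Perm.mul_apply, Equiv.swap_apply_left,
    Equiv.swap_apply_of_ne_of_ne h'.ne.symm (Ne.symm hyz)] at h7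
  exact hwx h7.symm

end KSym

end ksym

end Cfsg.Agent.Omega.NO1.TH.K
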