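import Cfsg.Agent.Omega.NatPair.Semi
import Cfsg.Agent.LieRecognition.FieldSemilinear

/-!
# N1, (z) of bb OMEGA 20646: elementary abelian 2-groups of semilinear maps of `F²` preserving a line

`SLin F N L` : `N` acts on `F²` by the semilinear maps `L`, faithfully, and preserves the line `{x | x 1 = 0}`.
* `SLin.card_le` : `|N| ≤ |F|`;
* `SLin.card_stab` : the stabiliser of a vector outside the line has order `≤ 2`, `< |F|`;
* `zcount` : the count of (z).
-/

set_option autoImplicit false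
set_option linter.unusedSectionVars false
set_option linter.dupNamespace false

namespace Cfsg.Agent.Omega.NO1.TH.K.Z

universe u

variable {Y : Type u} [Group Y]

/-- `N` acts semilinearly on `F²` -/
structure SLin (F : Type) [Field F] (N : Subgroup Y) (L : Y → (Fin 2 → F) → Fin 2 → F) : Prop where
  comm : ∀ a ∈ N, ∀ b ∈ N, a * b = b * a
  sq : ∀ a ∈ N, a * a = 1
  two : ∀ x : F, x + x = 0
  mul : ∀ a ∈ N, ∀ b ∈ N, ∀ x, L (a * b) x = L a (L b x)
  one : ∀ x, L 1 x = x
  add : ∀ a ∈ N, ∀ x y, L a (x + y) = L a x + L a y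
  semi : ∀ a ∈ N, ∃ τ : F ≃+* F, ∀ (c : F) x, L a (c • x) = τ c • L a x
  line : ∀ a ∈ N, ∀ x, x 1 = 0 → L a x 1 = 0
  faith : ∀ a ∈ N, (∀ x, L a x = x) → a = 1

namespace SLin

variable {F : Type} [Field F] {N : Subgroup Y} {L : Y → (Fin 2 → F) → Fin 2 → F}

/-- linear elements -/
def Lin (L : Y → (Fin 2 → F) → Fin 2 → F) (g : Y) : Prop := ∀ (c : F) x, L g (c • x) = c • L g x

theorem sq_one (h2 : ∀ x : F, x + x = 0) {a : F} (ha : a * a = 1) : a = 1 := by
  have h3 : (a + 1) * (a + 1) = 0 := by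
    have : (a + 1) * (a + 1) = (a * a + 1) + (a + a) := by ring
    rw [this, h2, ha, h2, add_zero]
  have h4 : a + 1 = 0 := by
    rcases mul_eq_zero.1 h3 with h | h <;> exact h
  have h5 : a + 1 + 1 = 1 := by rw [h4, zero_add]
  rwa [add_assoc, h2, add_zero] at h5

theorem dec (x : Fin 2 → F) : x = x 0 • ![1, 0] + x 1 • ![0, 1] := by
  apply NatPair.ext2 <;> simp

variable (h : SLin F N L)
include h

theorem lin_mul {a b : Y} (ha : a ∈ N) (hb : b ∈ N) (h1 : Lin L a) (h2 : Lin L b) : Lin L (a * b) := by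
  intro c x
  rw [h.mul a ha b hb, h.mul a ha b hb, h2, h1]

theorem app {g : Y} (hg : g ∈ N) {τ : F ≃+* F} (hτ : ∀ (c : F) x, L g (c • x) = τ c • L g x) (x : Fin 2 → F) :
    L g x = τ (x 0) • L g ![1, 0] + τ (x 1) • L g ![0, 1] := by
  nth_rewrite 1 [dec x]
  rw [h.add g hg, hτ, hτ]

theorem app_lin {g : Y} (hg : g ∈ N) (hl : Lin L g) (x : Fin 2 → F) :
    L g x = x 0 • L g ![1, 0] + x 1 • L g ![0, 1] := by
  nth_rewrite 1 [dec x]
  rw [h.add g hg, hl, hl]

theorem inv_app {g : Y} (hg : g ∈ N) (x : Fin 2 → F) : L g (L g x) = x := by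
  rw [← h.mul g hg g hg, h.sq g hg, h.one]

/-- linear elements are `(x₀, x₁) ↦ (x₀ + β x₁, x₁)` -/
theorem lin_form {g : Y} (hg : g ∈ N) (hl : Lin L g) (x : Fin 2 → F) :
    L g x = ![x 0 + L g ![0, 1] 0 * x 1, x 1] := by
  have e0 : (L g ![1, 0]) 1 = 0 := h.line g hg _ rfl
  have f0 : L g ![1, 0] = (L g ![1, 0]) 0 • ![1, 0] := by
    apply NatPair.ext2
    · simp
    · rw [e0]; simp
  have h1 := h.inv_app hg ![1, 0]
  have h1' : (L g ![1, 0]) 0 * (L g ![1, 0]) 0 = 1 := by
    have h3 : L g (L g ![1, 0]) = L g ((L g ![1, 0]) 0 • ![1, 0]) := by rw [← f0]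
    rw [h1, hl] at h3
    have h4 := congrFun h3 0
    simpa using h4.symm
  have a1 := sq_one h.two h1'
  rw [a1, one_smul] at f0
  have h2 := h.inv_app hg ![0, 1]
  have h2' : (L g ![0, 1]) 1 * (L g ![0, 1]) 1 = 1 := by
    have h3 := h.app_lin hg hl (L g ![0, 1])
    rw [h2, f0] at h3
    have h4 := congrFun h3 1
    simpa using h4.symm
  have b1 := sq_one h.two h2'
  rw [h.app_lin hg hl x, f0]
  apply NatPair.ext2
  · simp [mul_comm]
  · simp [b1]

theorem lin_eq_one {g : Y} (hg : g ∈ N) (hl : Lin L g) (hb : L g ![0, 1] 0 = 0) : g = 1 := by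
  apply h.faith g hg
  intro x
  rw [h.lin_form hg hl, hb, zero_mul, add_zero]
  apply NatPair.ext2 <;> rfl

theorem lin_inj {g k : Y} (hg : g ∈ N) (hk : k ∈ N) (hl : Lin L g) (hm : Lin L k)
    (hb : L g ![0, 1] 0 = L k ![0, 1] 0) : g = k := by
  have h1 : g * k = 1 := by
    apply h.lin_eq_one (mul_mem hg hk) (h.lin_mul hg hk hl hm)
    rw [h.mul g hg k hk, h.lin_form hg hl, h.lin_form hk hm]
    simp [hb, h.two]
  have h2 : g * k * k = k := by rw [h1, one_mul]
  rwa [mul_assoc, h.sq k hk, mul_one] at h2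

omit h in
theorem two_invol {C : Type*} [Group C] [Finite C] [IsCyclic C] {x y : C} (hx : x * x = 1) (hy : y * y = 1)
    (hx1 : x ≠ 1) (hy1 : y ≠ 1) : x = y := by
  classical
  have : Fintype C := Fintype.ofFinite C
  by_contra hxy
  have h1 := IsCyclic.card_pow_eq_one_le (α := C) (n := 2) (by norm_num)
  have h2 : ({1, x, y} : Finset C) ⊆ Finset.univ.filter fun a : C => a ^ 2 = 1 := by
    intro z hz
    rw [Finset.mem_filter]
    refine ⟨Finset.mem_univ _, ?_⟩
    simp only [Finset.mem_insert, Finset.mem_singleton] at hz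
    rcases hz with rfl | rfl | rfl
    · simp
    · rw [pow_two, hx]
    · rw [pow_two, hy]
  have h3 := Finset.card_le_card h2
  have h4 : ({1, x, y} : Finset C).card = 3 := by
    rw [Finset.card_eq_three]
    exact ⟨1, x, y, fun h => hx1 h.symm, fun h => hy1 h.symm, hxy, rfl⟩
  omega

omit h in
theorem smul_inj {a b : F} {x : Fin 2 → F} (hx : x ≠ 0) (h : a • x = b • x) : a = b := smul_left_injective F hx h

theorem invol {g : Y} (hg : g ∈ N) (hl : ¬ Lin L g) {τ : F ≃+* F} (hτ : ∀ (c : F) x, L g (c • x) = τ c • L g x) :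
    τ * τ = 1 ∧ τ ≠ 1 := by
  constructor
  · ext c
    have h1 := h.inv_app hg (c • ![1, 0])
    rw [hτ, hτ, h.inv_app hg] at h1
    exact smul_inj (by
      intro h0
      have := congrFun h0 0
      simp at this) h1
  · rintro rfl
    exact hl hτ

variable [Finite F]

theorem mul_lin {g k : Y} (hg : g ∈ N) (hk : k ∈ N) (hl : ¬ Lin L g) (hm : ¬ Lin L k) : Lin L (g * k) := by
  have : IsCyclic (F ≃+* F) := Cfsg.Agent.LieRecognition.FieldSemilinear.isCyclic_ringAut F
  obtain ⟨τ, hτ⟩ := h.semi g hg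
  obtain ⟨μ, hμ⟩ := h.semi k hk
  obtain ⟨h1, h2⟩ := h.invol hg hl hτ
  obtain ⟨h3, h4⟩ := h.invol hk hm hμ
  have : Finite (F ≃+* F) := Finite.of_injective (fun e : F ≃+* F => (e : F → F)) DFunLike.coe_injective
  have h5 : τ = μ := two_invol h1 h3 h2 h4
  subst h5
  intro c x
  rw [h.mul g hg k hk, h.mul g hg k hk, hμ, hτ]
  have h6 : τ (τ c) = c := congrArg (fun e : F ≃+* F => e c) h1
  rw [h6]

/-- **`|N| ≤ |F|`** -/
theorem card_le : Nat.card N ≤ Nat.card F := by
  classical
  by_cases hN : ∀ g ∈ N, Lin L g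
  · apply Nat.card_le_card_of_injective (fun g : N => L g ![0, 1] 0)
    intro g k hgk
    exact Subtype.ext (h.lin_inj g.2 k.2 (hN g g.2) (hN k k.2) hgk)
  · push Not at hN
    obtain ⟨n, hn, hnl⟩ := hN
    obtain ⟨τ, hτ⟩ := h.semi n hn
    -- the relation
    have key : ∀ g ∈ N, Lin L g →
        τ (L g ![0, 1] 0) * L n ![1, 0] 0 = L n ![0, 1] 1 * L g ![0, 1] 0 := by
      intro g hg hl
      have h1 : L n (L g ![0, 1]) = L g (L n ![0, 1]) := by
        rw [← h.mul n hn g hg, ← h.mul g hg n hn, h.comm n hn g hg]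
      rw [h.lin_form hg hl (L n ![0, 1]), h.app hn hτ (L g ![0, 1])] at h1
      have h2 : L g ![0, 1] 1 = 1 := by rw [h.lin_form hg hl]; simp
      have h3 := congrFun h1 0
      rw [h2] at h3
      simp only [map_one, one_smul, Pi.add_apply, Pi.smul_apply, smul_eq_mul, Matrix.cons_val_zero] at h3
      rw [add_comm] at h3
      have h4 := add_left_cancel h3
      rw [h4]; ring
    have hα : L n ![1, 0] 0 ≠ 0 := by
      intro h0
      have e0 : (L n ![1, 0]) 1 = 0 := h.line n hn _ rfl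
      have h1 : L n ![1, 0] = 0 := NatPair.ext2 h0 e0
      have h2 := h.inv_app hn ![1, 0]
      have h3 : L n 0 = 0 := by
        have := h.add n hn 0 0
        rw [add_zero] at this
        exact left_eq_add.1 this
      rw [h1, h3] at h2
      have := congrFun h2 0
      simp at this
    have hne : ∃ f : F, τ f * L n ![1, 0] 0 ≠ L n ![0, 1] 1 * f := by
      by_contra hall
      push Not at hall
      have h1 := hall 1
      rw [map_one, one_mul, mul_one] at h1
      apply (h.invol hn hnl hτ).2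
      ext c
      have h2 := hall c
      rw [← h1, mul_comm] at h2
      exact mul_left_cancel₀ hα h2
    obtain ⟨f, hf⟩ := hne
    apply Nat.card_le_card_of_injective
      (fun g : N => if Lin L (g : Y) then L g ![0, 1] 0 else L (n * g) ![0, 1] 0 + f)
    have hng : ∀ g : N, ¬ Lin L (g : Y) → Lin L (n * g) := fun g hg => h.mul_lin hn g.2 hnl hg
    have hbad : ∀ g k : N, Lin L (g : Y) → ¬ Lin L (k : Y) → L g ![0, 1] 0 ≠ L (n * k) ![0, 1] 0 + f := by
      intro g k hg hk he
      apply hf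
      have h1 := key g g.2 hg
      have h2 := key (n * k) (mul_mem hn k.2) (hng k hk)
      rw [he, map_add, add_mul, mul_add, h2] at h1
      exact add_left_cancel h1
    intro g k hgk
    simp only at hgk
    by_cases hg : Lin L (g : Y)
    · by_cases hk : Lin L (k : Y)
      · rw [if_pos hg, if_pos hk] at hgk
        exact Subtype.ext (h.lin_inj g.2 k.2 hg hk hgk)
      · rw [if_pos hg, if_neg hk] at hgk
        exact absurd hgk (hbad g k hg hk)
    · by_cases hk : Lin L (k : Y)
      · rw [if_neg hg, if_pos hk] at hgk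
        exact absurd hgk.symm (hbad k g hk hg)
      · rw [if_neg hg, if_neg hk] at hgk
        have h1 := h.lin_inj (mul_mem hn g.2) (mul_mem hn k.2) (hng g hg) (hng k hk) (add_right_cancel hgk)
        exact Subtype.ext (mul_left_cancel h1)

/-- at most one nontrivial element fixes `x`, `x 1 ≠ 0` -/
theorem stab_uniq {x : Fin 2 → F} (hx : x 1 ≠ 0) {g k : Y} (hg : g ∈ N) (hk : k ∈ N) (hgx : L g x = x)
    (hkx : L k x = x) (hg1 : g ≠ 1) (hk1 : k ≠ 1) : g = k := by
  have hlin : ∀ g ∈ N, L g x = x → Lin L g → g = 1 := by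
    intro g hg hgx hl
    apply h.lin_eq_one hg hl
    rw [h.lin_form hg hl] at hgx
    have h1 := congrFun hgx 0
    simp only [Matrix.cons_val_zero] at h1
    rcases mul_eq_zero.1 (add_eq_left.1 h1) with h2 | h2
    · exact h2
    · exact absurd h2 hx
  have h1 : ¬ Lin L g := fun hl => hg1 (hlin g hg hgx hl)
  have h2 : ¬ Lin L k := fun hl => hk1 (hlin k hk hkx hl)
  have h3 := hlin (g * k) (mul_mem hg hk) (by rw [h.mul g hg k hk, hkx, hgx]) (h.mul_lin hg hk h1 h2)
  have h4 : g * k * k = k := by rw [h3, one_mul]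
  rwa [mul_assoc, h.sq k hk, mul_one] at h4

theorem three_le {g : Y} (hg : g ∈ N) (hl : ¬ Lin L g) : 3 ≤ Nat.card F := by
  classical
  obtain ⟨τ, hτ⟩ := h.semi g hg
  obtain ⟨_, h2⟩ := h.invol hg hl hτ
  by_contra h3
  apply h2
  have : Fintype F := Fintype.ofFinite F
  rw [Nat.card_eq_fintype_card] at h3
  ext a
  change τ a = a
  by_contra h4
  apply h3
  have h5 : a ≠ 0 := by
    rintro rfl
    exact h4 (map_zero τ)
  have h6 : a ≠ 1 := by
    rintro rfl
    exact h4 (map_one τ)
  have h7 : ({0, 1, a} : Finset F).card = 3 := by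
    rw [Finset.card_eq_three]
    exact ⟨0, 1, a, zero_ne_one, h5.symm, h6.symm, rfl⟩
  rw [← h7]
  exact Finset.card_le_univ _

/-- **the stabiliser of `x`, `x 1 ≠ 0`** -/
theorem card_stab {x : Fin 2 → F} (hx : x 1 ≠ 0) {S : Set Y} (hS : ∀ s ∈ S, s ∈ N ∧ L s x = x) :
    Nat.card S ≤ 2 ∧ Nat.card S < Nat.card F := by
  classical
  have hF2 : 2 ≤ Nat.card F := by
    have h1 : Nontrivial F := inferInstance
    exact Finite.one_lt_card
  by_cases hall : ∀ s ∈ S, s = 1
  · have h1 : Nat.card S ≤ 1 := by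
      have : Subsingleton S := ⟨fun a b => Subtype.ext ((hall a a.2).trans (hall b b.2).symm)⟩
      exact Finite.card_le_one_iff_subsingleton.2 this
    omega
  · push Not at hall
    obtain ⟨s, hs, hs1⟩ := hall
    have h1 : S ⊆ ({1, s} : Set Y) := by
      intro r hr
      by_cases hr1 : r = 1
      · left; exact hr1
      · right
        exact h.stab_uniq hx (hS r hr).1 (hS s hs).1 (hS r hr).2 (hS s hs).2 hr1 hs1
    have h2 : Nat.card S ≤ 2 := by
      have h3 := Set.ncard_le_ncard h1 (Set.toFinite _)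
      rw [Set.ncard_pair hs1.symm] at h3
      exact h3
    have h3 : 3 ≤ Nat.card F := by
      apply h.three_le (hS s hs).1
      intro hl
      apply hs1
      apply h.lin_eq_one (hS s hs).1 hl
      have hgx := (hS s hs).2
      rw [h.lin_form (hS s hs).1 hl] at hgx
      have h1 := congrFun hgx 0
      simp only [Matrix.cons_val_zero] at h1
      rcases mul_eq_zero.1 (add_eq_left.1 h1) with h2 | h2
      · exact h2
      · exact absurd h2 hx
    omega

end SLin

theorem arith_z {c σ β ν ρ : ℕ} (hc : 2 ≤ c) (hν : ν ≤ c) (hρ : ρ ≤ 2) (hρ' : ρ < c) (hσ : σ ≤ ρ + ν)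
    (hβ : β ≤ 2 * ν) : σ * β < c ^ 4 ∧ σ < c ^ 2 := by
  have h1 : σ ≤ ρ + c := by omega
  have h2 : β ≤ 2 * c := by omega
  have h3 : σ * β ≤ (ρ + c) * (2 * c) := Nat.mul_le_mul h1 h2
  rcases Nat.lt_or_ge c 3 with h4 | h4
  · have h5 : c = 2 := by omega
    subst h5
    have h6 : ρ ≤ 1 := by omega
    constructor
    · have : (ρ + 2) * (2 * 2) ≤ 3 * 4 := Nat.mul_le_mul (by omega) (by omega)
      omega
    · omega
  · have h5 : σ ≤ c + 2 := by omega
    constructor
    · have h6 : (ρ + c) * (2 * c) ≤ (c + 2) * (2 * c) := Nat.mul_le_mul_right _ (by omega)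
      have h7 : (c + 2) * (2 * c) < c ^ 4 := by
        have h8 : 2 * (c + 2) < c ^ 3 := by
          have : 3 * 3 * c ≤ c * c * c := Nat.mul_le_mul_right _ (Nat.mul_le_mul h4 h4)
          have e : c ^ 3 = c * c * c := by ring
          rw [e]; omega
        calc (c + 2) * (2 * c) = (2 * (c + 2)) * c := by ring
          _ < c ^ 3 * c := Nat.mul_lt_mul_of_pos_right h8 (by omega)
          _ = c ^ 4 := by ring
      omega
    · have : 3 * c ≤ c * c := Nat.mul_le_mul_right _ h4
      have e : c ^ 2 = c * c := by ring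
      rw [e]; omega

/-- **the count of (z)** -/
theorem zcount [Finite Y] {B N : Subgroup Y} (hsq : ∀ b ∈ B, b * b = 1) {S : Set Y}
    (hSB : ∀ s ∈ S, s ∈ B) {c : ℕ} (hc : 2 ≤ c) (hN : Nat.card N ≤ c)
    (h1 : ∀ b ∈ B, b ∉ N → Nat.card ↥(S ∩ (N : Set Y)) ≤ 2 ∧ Nat.card ↥(S ∩ (N : Set Y)) < c)
    (h2 : ∀ b ∈ B, b ∉ N → ∀ s ∈ S, s ∉ N → s * b ∈ N) :
    Nat.card S < c ∨ Nat.card S * Nat.card B < c ^ 4 ∧ Nat.card S < c ^ 2 := by
  classical
  by_cases hBN : ∀ b ∈ B, b ∈ N
  · right
    have h3 : Nat.card B ≤ c :=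
      (Nat.card_le_card_of_injective (fun b : B => (⟨b, hBN b b.2⟩ : N)) fun a b hab =>
        Subtype.ext (congrArg (fun z : N => (z : Y)) hab)).trans hN
    have h4 : Nat.card S ≤ Nat.card B :=
      Nat.card_le_card_of_injective (fun s : S => (⟨s, hSB s s.2⟩ : B)) fun a b hab =>
        Subtype.ext (congrArg (fun z : B => (z : Y)) hab)
    have h5 : Nat.card S ≤ c := h4.trans h3
    constructor
    · calc Nat.card S * Nat.card B ≤ c * c := Nat.mul_le_mul h5 h3
        _ < c ^ 4 := by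
          have e : c ^ 4 = c * c * (c * c) := by ring
          rw [e]
          have h6 : 0 < c * c := Nat.mul_pos (by omega) (by omega)
          have h7 : 1 < c * c := by
            calc 1 < 2 * 2 := by norm_num
              _ ≤ c * c := Nat.mul_le_mul hc hc
          nlinarith
    · calc Nat.card S ≤ c := h5
        _ < c ^ 2 := by rw [pow_two]; nlinarith
  · push Not at hBN
    obtain ⟨b, hb, hbN⟩ := hBN
    obtain ⟨h3, h4⟩ := h1 b hb hbN
    by_cases hSN : ∀ s ∈ S, s ∈ N
    · left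
      have h5 : S ∩ (N : Set Y) = S := Set.inter_eq_left.2 hSN
      rwa [h5] at h4
    · right
      push Not at hSN
      obtain ⟨s₀, hs₀, hs₀N⟩ := hSN
      have hB : Nat.card B ≤ 2 * Nat.card N := by
        -- `B = N ∪ s₀ N`
        have h5 : (B : Set Y) ⊆ (N : Set Y) ∪ (fun x => s₀ * x) '' (N : Set Y) := by
          intro x hx
          by_cases hxN : x ∈ N
          · left; exact hxN
          · right
            refine ⟨s₀ * x, h2 x hx hxN s₀ hs₀ hs₀N, ?_⟩
            change s₀ * (s₀ * x) = x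
            rw [← mul_assoc, hsq s₀ (hSB s₀ hs₀), one_mul]
        have h6 := Set.ncard_le_ncard h5 (Set.toFinite _)
        have h7 := Set.ncard_union_le (N : Set Y) ((fun x => s₀ * x) '' (N : Set Y))
        have h8 := Set.ncard_image_le (f := fun x => s₀ * x) (s := (N : Set Y)) (Set.toFinite _)
        change (B : Set Y).ncard ≤ 2 * (N : Set Y).ncard
        omega
      have hS : Nat.card S ≤ Nat.card ↥(S ∩ (N : Set Y)) + Nat.card N := by
        have h5 : S ⊆ (S ∩ (N : Set Y)) ∪ (fun x => x * b) '' (N : Set Y) := by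
          intro x hx
          by_cases hxN : x ∈ N
          · left; exact ⟨hx, hxN⟩
          · right
            refine ⟨x * b, h2 b hb hbN x hx hxN, ?_⟩
            change x * b * b = x
            rw [mul_assoc, hsq b hb, mul_one]
        have h6 := Set.ncard_le_ncard h5 (Set.toFinite _)
        have h7 := Set.ncard_union_le (S ∩ (N : Set Y)) ((fun x => x * b) '' (N : Set Y))
        have h8 := Set.ncard_image_le (f := fun x => x * b) (s := (N : Set Y)) (Set.toFinite _)
        change S.ncard ≤ (S ∩ (N : Set Y)).ncard + (N : Set Y).ncard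
        omega
      exact arith_z hc hN h3 h4 hS hB

end Cfsg.Agent.Omega.NO1.TH.K.Z
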