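import Cfsg.Agent.Omega.NO1.TH.K.Base
import Cfsg.Agent.Omega.NO1.TH.K.ZCore

/-!
# N1, (z) of bb OMEGA 20646: the blocks of the natural module

* `Wpp V H R co j` : `[W_j, L_j]`, `W_j` the vectors with coordinates only at `j`, `L_j` the lifts of `SL₂(F)` at `j`;
* `WW_le_Wpp` : `W ≤ C_V(R) + Σ Wpp j`;
* `fix_Wpp` : an element of `H` which is trivial on the `j`-th coordinate centralises `Wpp j`;
* `slin` : the stabiliser of the block `j` in `B ≤ R` acts semilinearly on the `j`-th coordinate.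
* `zed` : the general lemma of (z).
-/

set_option autoImplicit false
set_option linter.unusedSectionVars false
set_option linter.dupNamespace false

namespace Cfsg.Agent.Omega.NO1.TH.K.Z

open Subgroup Cfsg.Agent.Omega.NO1.AB Cfsg.Agent.Omega.FFBr Cfsg.Agent.Lib.SL2Mat
open Cfsg.Agent.Omega.NatPair (ap)
open scoped Pointwise

universe u

variable {Y : Type u} [Group Y] {V : Type u} [AddCommGroup V] [DistribMulAction Y V]
variable {H R : Subgroup Y} {F : Type} [Field F] {k : ℕ} {co : V → Fin k → Fin 2 → F}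

/-- `g` permutes the blocks by `σ` -/
def Mv (V : Type u) [AddCommGroup V] [DistribMulAction Y V] (H R : Subgroup Y) {F : Type} [Field F] {k : ℕ}
    (co : V → Fin k → Fin 2 → F) (g : Y) (σ : Equiv.Perm (Fin k)) : Prop :=
  ∀ v ∈ WW V H R, ∀ i, co (g • v) (σ i) = 0 ↔ co v i = 0

/-- `g` fixes the block `j` -/
def St (V : Type u) [AddCommGroup V] [DistribMulAction Y V] (H R : Subgroup Y) {F : Type} [Field F] {k : ℕ}
    (co : V → Fin k → Fin 2 → F) (j : Fin k) (g : Y) : Prop :=
  ∀ v ∈ WW V H R, co (g • v) j = 0 ↔ co v j = 0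

/-- coordinates only at `j` -/
def At (V : Type u) [AddCommGroup V] [DistribMulAction Y V] (H R : Subgroup Y) {F : Type} [Field F] {k : ℕ}
    (co : V → Fin k → Fin 2 → F) (j : Fin k) (v : V) : Prop :=
  v ∈ WW V H R ∧ ∀ i, i ≠ j → co v i = 0

/-- `g` acts as an element of `SL₂(F)` on the block `j`, trivially on the others and on `D₀` -/
def LA (V : Type u) [AddCommGroup V] [DistribMulAction Y V] (H R : Subgroup Y) {F : Type} [Field F] {k : ℕ}
    (co : V → Fin k → Fin 2 → F) (j : Fin k) (g : Y) : Prop :=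
  g ∈ H ∧ ∃ A : Matrix.SpecialLinearGroup (Fin 2) F, Acts V H R co g (Function.update 1 j A)

/-- `[W_j, L_j]` -/
def Wpp (V : Type u) [AddCommGroup V] [DistribMulAction Y V] (H R : Subgroup Y) {F : Type} [Field F] {k : ℕ}
    (co : V → Fin k → Fin 2 → F) (j : Fin k) : AddSubgroup V :=
  AddSubgroup.closure {v | ∃ w l, At V H R co j w ∧ LA V H R co j l ∧ v = l • w + w}

theorem ap_zero_vec (A : Matrix.SpecialLinearGroup (Fin 2) F) : ap A 0 = 0 := by
  apply NatPair.ext2
  · rw [NatPair.ap_zero']; simp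
  · rw [NatPair.ap_one']; simp

section

variable (K : KNat V H R F k co) (two : ∀ v : V, v + v = 0)
include K two

theorem ffv (i : Fin k) (x : Fin 2 → F) : x + x = 0 := by
  funext j
  exact K.ff two i _

theorem At.add {j : Fin k} {v w : V} (hv : At V H R co j v) (hw : At V H R co j w) : At V H R co j (v + w) :=
  ⟨add_mem hv.1 hw.1, fun i hi => by rw [K.add v hv.1 w hw.1, Pi.add_apply, hv.2 i hi, hw.2 i hi, add_zero]⟩

/-- an element acting in the block `j` only: `l v + v` has coordinates only at `j` -/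
theorem LA.comm {j : Fin k} {l : Y} (hl : LA V H R co j l) {v : V} (hv : v ∈ WW V H R) :
    At V H R co j (l • v + v) := by
  obtain ⟨hlH, A, hA⟩ := hl
  refine ⟨add_mem (smul_mem_WW hlH hv) hv, fun i hi => ?_⟩
  rw [K.add _ (smul_mem_WW hlH hv) _ hv, Pi.add_apply, hA.1 v hv i, Function.update_of_ne hi, Pi.one_apply,
    NatPair.ap_one]
  exact ffv K two i _

theorem Wpp_at {j : Fin k} {v : V} (hv : v ∈ Wpp V H R co j) : At V H R co j v := by
  induction hv using AddSubgroup.closure_induction with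
  | mem v hv =>
    obtain ⟨w, l, hw, hl, rfl⟩ := hv
    exact hl.comm K two hw.1
  | zero => exact ⟨zero_mem _, fun i _ => by rw [K.zero]; rfl⟩
  | add a b _ _ h1 h2 => exact h1.add K two h2
  | neg a _ h1 => exact ⟨neg_mem h1.1, fun i hi => by rw [K.neg h1.1, Pi.neg_apply, h1.2 i hi, neg_zero]⟩

theorem Mv.at {g : Y} (hg : g ∈ H) {σ : Equiv.Perm (Fin k)} (hσ : Mv V H R co g σ) {j : Fin k} {v : V}
    (hv : At V H R co j v) : At V H R co (σ j) (g • v) := by
  refine ⟨smul_mem_WW hg hv.1, fun i hi => ?_⟩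
  have h1 := (hσ v hv.1 (σ.symm i)).2 (hv.2 _ fun h => hi (by rw [← h, Equiv.apply_symm_apply]))
  rwa [Equiv.apply_symm_apply] at h1

theorem Mv.zero {g : Y} {σ : Equiv.Perm (Fin k)} (hσ : Mv V H R co g σ) {v : V}
    (hv : v ∈ WW V H R) (h0 : co (g • v) = 0) : co v = 0 := by
  funext i
  exact (hσ v hv i).1 (by rw [h0]; rfl)

/-- conjugates of `L_j` -/
theorem LA.conj {j : Fin k} {l : Y} (hl : LA V H R co j l) {g : Y} (hg : g ∈ H) {σ : Equiv.Perm (Fin k)}
    (hσ : Mv V H R co g σ) : LA V H R co (σ j) (g * l * g⁻¹) := by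
  have hl' := hl
  obtain ⟨hlH, A, hA⟩ := hl
  obtain ⟨B, hB⟩ := K.norm g hg l hlH _ hA.1
  refine ⟨H.mul_mem (H.mul_mem hg hlH) (H.inv_mem hg), B (σ j), fun v hv i => ?_, fun d hd h0 => ?_⟩
  · rw [hB v hv i]
    by_cases hi : i = σ j
    · subst hi
      rw [Function.update_self]
    · rw [Function.update_of_ne hi, Pi.one_apply, NatPair.ap_one, ← hB v hv i]
      have hu : g⁻¹ • v ∈ WW V H R := smul_mem_WW (H.inv_mem hg) hv
      have h1 := (hσ.at K two hg (hl'.comm K two hu)).2 i hi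
      rw [smul_add, smul_inv_smul, ← mul_smul, ← mul_smul] at h1
      have h2 : (g * l * g⁻¹) • v ∈ WW V H R := smul_mem_WW (H.mul_mem (H.mul_mem hg hlH) (H.inv_mem hg)) hv
      rw [K.add _ h2 _ hv, Pi.add_apply] at h1
      have h3 : co ((g * l * g⁻¹) • v) i + co v i + co v i = co v i := by rw [h1, zero_add]
      rwa [add_assoc, ffv K two i, add_zero] at h3
  · have h1 : co (g⁻¹ • d) = 0 := hσ.zero K two (smul_mem_WW (H.inv_mem hg) hd) (by rw [smul_inv_smul]; exact h0)
    have h2 := hA.2 _ (smul_mem_WW (H.inv_mem hg) hd) h1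
    rw [mul_smul, mul_smul, h2, smul_inv_smul]

theorem Wpp_smul {g : Y} (hg : g ∈ H) {σ : Equiv.Perm (Fin k)} (hσ : Mv V H R co g σ) {j : Fin k} {v : V}
    (hv : v ∈ Wpp V H R co j) : g • v ∈ Wpp V H R co (σ j) := by
  induction hv using AddSubgroup.closure_induction with
  | mem v hv =>
    obtain ⟨w, l, hw, hl, rfl⟩ := hv
    refine AddSubgroup.subset_closure ⟨g • w, g * l * g⁻¹, hσ.at K two hg hw, hl.conj K two hg hσ, ?_⟩
    rw [smul_add, ← mul_smul, ← mul_smul]
    congr 2
    group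
  | zero => rw [smul_zero]; exact zero_mem _
  | add a b _ _ h1 h2 => rw [smul_add]; exact add_mem h1 h2
  | neg a _ h1 => rw [smul_neg]; exact neg_mem h1

/-! ### `W ≤ C_V(R) + Σ Wpp j` -/

/-- the matrix `[[0, 1], [1, 1]]` (characteristic 2) -/
theorem exists_three (i : Fin k) : ∃ d : Matrix.SpecialLinearGroup (Fin 2) F,
    (∀ x, ap d (ap d x) + ap d x + x = 0) ∧ d * up 1 = wm 1 one_ne_zero := by
  have h2 : ∀ x : F, x + x = 0 := K.ff two i
  refine ⟨mk 0 1 1 1 ?_, fun x => ?_, ?_⟩
  · have := h2 1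
    linear_combination -this
  · apply NatPair.ext2
    · simp only [Pi.add_apply, NatPair.ap_zero', NatPair.ap_one', mk_00, mk_01, mk_10, mk_11, Pi.zero_apply]
      linear_combination h2 (x 0) + h2 (x 1)
    · simp only [Pi.add_apply, NatPair.ap_zero', NatPair.ap_one', mk_00, mk_01, mk_10, mk_11, Pi.zero_apply]
      linear_combination h2 (x 0) + h2 (x 1) + h2 (x 1)
  · apply ext_ent
    · rw [ent_mul]; simp
    · rw [ent_mul]; simp
    · rw [ent_mul]; simp
      linear_combination h2 1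
    · rw [ent_mul]; simp [h2]

end

/-- the elements of `H` mapping `C_V(R) + Σ Wpp j` into itself -/
def PP (V : Type u) [AddCommGroup V] [DistribMulAction Y V] (H R : Subgroup Y) {F : Type} [Field F] {k : ℕ}
    (co : V → Fin k → Fin 2 → F) : AddSubgroup V := fx V R ⊔ ⨆ j, Wpp V H R co j

section gen

variable (K : KNat V H R F k co) (two : ∀ v : V, v + v = 0)

/-- `[W_j, L_j] ∋ [W, d]`, `d` of order 3 -/
theorem three_comm (K : KNat V H R F k co) (two : ∀ v : V, v + v = 0) {j : Fin k} {l : Y} (hlH : l ∈ H)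
    {d : Matrix.SpecialLinearGroup (Fin 2) F} (hd : ∀ x, ap d (ap d x) + ap d x + x = 0)
    (hl : Acts V H R co l (Function.update 1 j d)) {u : V} (hu : u ∈ WW V H R) :
    l • u + u ∈ Wpp V H R co j := by
  have hla : LA V H R co j l := ⟨hlH, d, hl⟩
  have hll : LA V H R co j (l * l) := ⟨H.mul_mem hlH hlH, d * d, by
    have h1 := hl.mul hlH hl
    have e : (Function.update (1 : Fin k → Matrix.SpecialLinearGroup (Fin 2) F) j d) *
        (Function.update (1 : Fin k → Matrix.SpecialLinearGroup (Fin 2) F) j d) =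
        (Function.update (1 : Fin k → Matrix.SpecialLinearGroup (Fin 2) F) j (d * d)) := by
      funext i
      by_cases hi : i = j
      · subst hi; simp
      · simp [Function.update_of_ne hi]
    rwa [e] at h1⟩
  have hw := hla.comm K two hu
  -- `l³ u = u`
  have h3 : (l * l * l) • u = u := by
    apply K.trivH (l * l * l) (H.mul_mem (H.mul_mem hlH hlH) hlH) _ u hu
    intro w hw
    funext i
    have hw1 := smul_mem_WW hlH hw
    have hw2 := smul_mem_WW hlH hw1
    rw [mul_smul, mul_smul, hl.1 _ hw2 i, hl.1 _ hw1 i, hl.1 _ hw i]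
    by_cases hi : i = j
    · subst hi
      rw [Function.update_self]
      have h4 := hd (ap d (co w i))
      have h5 := hd (co w i)
      have h6 : ap d (ap d (ap d (co w i))) + (ap d (ap d (co w i)) + ap d (co w i) + co w i) = co w i := by
        calc _ = (ap d (ap d (ap d (co w i))) + ap d (ap d (co w i)) + ap d (co w i)) + co w i := by abel
          _ = _ := by rw [h4, zero_add]
      rwa [h5, add_zero] at h6
    · simp only [Function.update_of_ne hi, Pi.one_apply, NatPair.ap_one]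
  have h4 : l • u + u = (l • (l • u + u) + (l • u + u)) + ((l * l) • (l • u + u) + (l • u + u)) := by
    have e1 : (l * l) • (l • u + u) = u + (l * l) • u := by
      rw [smul_add, ← mul_smul, h3]
    have e2 : l • (l • u + u) = (l * l) • u + l • u := by
      rw [smul_add, ← mul_smul]
    rw [e1, e2]
    have e3 : (l * l) • u + l • u + (l • u + u) + (u + (l * l) • u + (l • u + u)) =
        ((l * l) • u + (l * l) • u) + (l • u + l • u) + (u + u) + (l • u + u) := by abel
    rw [e3]
    simp only [two, zero_add]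
  rw [h4]
  exact add_mem (AddSubgroup.subset_closure ⟨_, _, hw, hla, rfl⟩) (AddSubgroup.subset_closure ⟨_, _, hw, hll, rfl⟩)

/-- the subgroup of `H` which preserves `PP` -/
def KP (V : Type u) [AddCommGroup V] [DistribMulAction Y V] (H R : Subgroup Y) {F : Type} [Field F] {k : ℕ}
    (co : V → Fin k → Fin 2 → F) : Subgroup Y where
  carrier := {h | h ∈ H ∧ (∀ v ∈ PP V H R co, h • v ∈ PP V H R co) ∧ ∀ v ∈ PP V H R co, h⁻¹ • v ∈ PP V H R co}
  one_mem' := ⟨H.one_mem, fun v hv => by rwa [one_smul], fun v hv => by rwa [inv_one, one_smul]⟩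
  mul_mem' := fun {a b} ha hb => ⟨H.mul_mem ha.1 hb.1, fun v hv => by
    rw [mul_smul]; exact ha.2.1 _ (hb.2.1 v hv), fun v hv => by
    rw [mul_inv_rev, mul_smul]; exact hb.2.2 _ (ha.2.2 v hv)⟩
  inv_mem' := fun {a} ha => ⟨H.inv_mem ha.1, ha.2.2, fun v hv => by rw [inv_inv]; exact ha.2.1 v hv⟩

theorem mem_KP {h : Y} : h ∈ KP V H R co ↔ h ∈ H ∧ (∀ v ∈ PP V H R co, h • v ∈ PP V H R co) ∧
    ∀ v ∈ PP V H R co, h⁻¹ • v ∈ PP V H R co := Iff.rfl

include K two

theorem PP_le : PP V H R co ≤ WW V H R :=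
  sup_le fx_le_WW (iSup_le fun _ _ hv => (Wpp_at K two hv).1)

theorem smul_PP {g : Y} (hg : g ∈ H) (h1 : ∀ v ∈ fx V R, g • v ∈ PP V H R co) {v : V} (hv : v ∈ PP V H R co) :
    g • v ∈ PP V H R co := by
  obtain ⟨σ, hσ⟩ := K.perm g hg
  have h2 : PP V H R co ≤ (PP V H R co).comap (DistribSMul.toAddMonoidHom V g) := by
    refine sup_le (fun v hv => h1 v hv) (iSup_le fun j v hv => ?_)
    have h3 := Wpp_smul K two hg hσ hv
    exact (le_sup_right.trans' (le_iSup (fun j => Wpp V H R co j) (σ j))) h3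
  exact h2 hv

theorem R_le_KP (hRH : R ≤ H) : R ≤ KP V H R co := by
  have key : ∀ r ∈ R, ∀ v ∈ PP V H R co, r • v ∈ PP V H R co := fun r hr v hv =>
    smul_PP K two (hRH hr) (fun v hv => by rw [hv r hr]; exact (le_sup_left : fx V R ≤ _) hv) hv
  exact fun r hr => ⟨hRH hr, key r hr, key r⁻¹ (R.inv_mem hr)⟩

/-- elements with the action of an element of `KP` -/
theorem KP_of {g l : Y} (hg : g ∈ H) (hl : l ∈ KP V H R co) {A : Fin k → Matrix.SpecialLinearGroup (Fin 2) F}
    (h1 : Acts V H R co g A) (h2 : Acts V H R co l A) : g ∈ KP V H R co := by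
  have h3 : ∀ w ∈ WW V H R, (l⁻¹ * g) • w = w := by
    apply K.trivH _ (H.mul_mem (H.inv_mem hl.1) hg)
    intro w hw
    funext i
    rw [mul_smul, (h2.inv hl.1).1 _ (smul_mem_WW hg hw) i, h1.1 w hw i, NatPair.ap_inv_ap]
  have h4 : ∀ w ∈ WW V H R, g • w = l • w := by
    intro w hw
    have := h3 w hw
    rwa [mul_smul, inv_smul_eq_iff] at this
  have h5 : ∀ w ∈ WW V H R, g⁻¹ • w = l⁻¹ • w := by
    intro w hw
    rw [inv_smul_eq_iff, h4 _ (smul_mem_WW (H.inv_mem hl.1) hw), smul_inv_smul]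
  exact ⟨hg, fun v hv => by rw [h4 v (PP_le K two hv)]; exact hl.2.1 v hv,
    fun v hv => by rw [h5 v (PP_le K two hv)]; exact hl.2.2 v hv⟩

theorem three_mem [Finite Y] {j : Fin k} {l : Y} (hlH : l ∈ H) {d : Matrix.SpecialLinearGroup (Fin 2) F}
    (hd : ∀ x, ap d (ap d x) + ap d x + x = 0) (hl : Acts V H R co l (Function.update 1 j d)) :
    l ∈ KP V H R co := by
  have h1 : ∀ v ∈ PP V H R co, l • v ∈ PP V H R co := by
    intro v hv
    apply smul_PP K two hlH _ hv
    intro u hu
    have h2 := three_comm K two hlH hd hl (fx_le_WW hu)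
    have h3 : l • u = (l • u + u) + u := by rw [add_assoc, two, add_zero]
    rw [h3]
    exact add_mem ((le_sup_right.trans' (le_iSup (fun j => Wpp V H R co j) j)) h2) ((le_sup_left : fx V R ≤ _) hu)
  have h2 : ∀ n : ℕ, ∀ v ∈ PP V H R co, l ^ n • v ∈ PP V H R co := by
    intro n
    induction n with
    | zero => intro v hv; rwa [pow_zero, one_smul]
    | succ n ih => intro v hv; rw [pow_succ, mul_smul]; exact ih _ (h1 v hv)
  refine ⟨hlH, h1, ?_⟩
  obtain ⟨n, hn⟩ : ∃ n : ℕ, l ^ n = l⁻¹ := by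
    have h3 : l⁻¹ ∈ Submonoid.powers l := by
      rw [← mem_powers_iff_mem_zpowers.symm.eq]
      · exact inv_mem (mem_zpowers l)
    exact h3
  rw [← hn]
  exact h2 n

omit K two in
/-- `SL₂(F)` (characteristic 2) is generated by `up` and `d` -/
theorem closure_up_three {d : Matrix.SpecialLinearGroup (Fin 2) F} (hd : d * up 1 = wm 1 one_ne_zero)
    {S : Subgroup (Matrix.SpecialLinearGroup (Fin 2) F)} (h1 : ∀ b, up b ∈ S) (h2 : d ∈ S) : ∀ A, A ∈ S := by
  have hw : wm (1 : F) one_ne_zero ∈ S := by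
    rw [← hd]; exact S.mul_mem h2 (h1 1)
  have hlo : ∀ b, lo b ∈ S := by
    intro b
    rw [← wm_up_wm b]
    exact S.mul_mem (S.mul_mem hw (h1 _)) (S.inv_mem hw)
  intro A
  obtain ⟨a, b, c, e, hA⟩ := exists_up_lo A
  rw [hA]
  exact S.mul_mem (S.mul_mem (S.mul_mem (h1 _) (hlo _)) (h1 _)) (hlo _)

/-- single lifts preserve `PP` -/
theorem single_mem [Finite Y] (hRH : R ≤ H) (j : Fin k) (A : Matrix.SpecialLinearGroup (Fin 2) F) {l : Y}
    (hlH : l ∈ H) (hl : Acts V H R co l (Function.update 1 j A)) : l ∈ KP V H R co := by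
  obtain ⟨d, hd, hd'⟩ := exists_three K two j
  have hup : ∀ A B : Matrix.SpecialLinearGroup (Fin 2) F,
      (Function.update (1 : Fin k → Matrix.SpecialLinearGroup (Fin 2) F) j A) *
        (Function.update (1 : Fin k → Matrix.SpecialLinearGroup (Fin 2) F) j B) =
        (Function.update (1 : Fin k → Matrix.SpecialLinearGroup (Fin 2) F) j (A * B)) := by
    intro A B
    funext i
    by_cases hi : i = j
    · subst hi; simp
    · simp [Function.update_of_ne hi]
  let S : Subgroup (Matrix.SpecialLinearGroup (Fin 2) F) :=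
    { carrier := {A | ∃ l ∈ KP V H R co, Acts V H R co l (Function.update 1 j A)}
      one_mem' := ⟨1, one_mem _, by rw [Function.update_one]; exact Acts.one⟩
      mul_mem' := fun {A B} ⟨a, ha, ha'⟩ ⟨b, hb, hb'⟩ => ⟨a * b, mul_mem ha hb, by
        rw [← hup]; exact ha'.mul hb.1 hb'⟩
      inv_mem' := fun {A} ⟨a, ha, ha'⟩ => ⟨a⁻¹, inv_mem ha, by
        have h1 := ha'.inv ha.1
        have e : (fun i => (Function.update (1 : Fin k → Matrix.SpecialLinearGroup (Fin 2) F) j A i)⁻¹) =
              (Function.update (1 : Fin k → Matrix.SpecialLinearGroup (Fin 2) F) j A⁻¹) := by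
          funext i
          by_cases hi : i = j
          · subst hi; simp
          · simp [Function.update_of_ne hi]
        rwa [e] at h1⟩ }
  have hS : ∀ A, A ∈ S := by
    apply closure_up_three hd'
    · intro b
      obtain ⟨r, hr, hrb⟩ := K.unip (Function.update 0 j b)
      refine ⟨r, R_le_KP K two hRH hr, ?_⟩
      have e : (fun i => up (Function.update (0 : Fin k → F) j b i)) =
          Function.update (1 : Fin k → Matrix.SpecialLinearGroup (Fin 2) F) j (up b) := by
        funext i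
        by_cases hi : i = j
        · subst hi; simp
        · simp only [Function.update_of_ne hi, Pi.zero_apply, Pi.one_apply, up_zero]
      rwa [e] at hrb
    · obtain ⟨l, hl, hl'⟩ := K.lift (Function.update 1 j d)
      exact ⟨l, three_mem K two hl hd hl', hl'⟩
  obtain ⟨m, hm, hm'⟩ := hS A
  exact KP_of K two hlH hm hl hm'

/-- all lifts preserve `PP` -/
theorem lift_mem [Finite Y] (hRH : R ≤ H) {A : Fin k → Matrix.SpecialLinearGroup (Fin 2) F} {l : Y}
    (hlH : l ∈ H) (hl : Acts V H R co l A) : l ∈ KP V H R co := by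
  classical
  have key : ∀ s : Finset (Fin k), ∀ A : Fin k → Matrix.SpecialLinearGroup (Fin 2) F, (∀ i, i ∉ s → A i = 1) →
      ∀ l ∈ H, Acts V H R co l A → l ∈ KP V H R co := by
    intro s
    induction s using Finset.induction_on with
    | empty =>
      intro A hA l hlH hl
      have e : A = 1 := by
        funext i
        exact hA i (Finset.notMem_empty i)
      subst e
      exact KP_of K two hlH (one_mem _) hl Acts.one
    | insert j s hjs ih =>
      intro A hA l hlH hl
      obtain ⟨m, hm, hm'⟩ := K.lift (Function.update 1 j (A j))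
      obtain ⟨n, hn, hn'⟩ := K.lift (Function.update A j 1)
      have h1 := single_mem K two hRH j (A j) hm hm'
      have h2 := ih (Function.update A j 1) (fun i hi => by
        by_cases hij : i = j
        · subst hij; rw [Function.update_self]
        · rw [Function.update_of_ne hij]
          exact hA i fun h3 => (Finset.mem_insert.1 h3).elim hij hi) n hn hn'
      have h3 := hm'.mul hn hn'
      have e : (Function.update (1 : Fin k → Matrix.SpecialLinearGroup (Fin 2) F) j (A j)) *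
          (Function.update A j 1) = A := by
        funext i
        by_cases hi : i = j
        · subst hi; simp
        · simp [Function.update_of_ne hi]
      rw [e] at h3
      exact KP_of K two hlH (mul_mem h1 h2) hl h3
  exact key Finset.univ A (fun i hi => absurd (Finset.mem_univ i) hi) l hlH hl

/-- **`W ≤ C_V(R) + Σ Wpp j`** -/
theorem WW_le_PP [Finite Y] (hRH : R ≤ H) : WW V H R ≤ PP V H R co := by
  have h1 := K.gen (KP V H R co) (R_le_KP K two hRH) (fun _ hx => hx.1)
    fun h hh A hA => lift_mem K two hRH hh hA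
  apply WW_le
  intro x hx w hw
  rw [← h1] at hx
  exact hx.2.1 w ((le_sup_left : fx V R ≤ _) hw)

/-- `Wpp j` is not in the line -/
theorem exists_Wpp_one (j : Fin k) : ∃ v ∈ Wpp V H R co j, co v j 1 ≠ 0 := by
  obtain ⟨w, hw, hwj, hw'⟩ := K.exists_at j ![1, 0]
  obtain ⟨l, hl, hl'⟩ := K.lift (Function.update 1 j (lo 1))
  refine ⟨l • w + w, AddSubgroup.subset_closure ⟨w, l, ⟨hw, hw'⟩, ⟨hl, _, hl'⟩, rfl⟩, ?_⟩
  rw [K.add_apply (smul_mem_WW hl hw) hw, hl'.1 w hw j, Function.update_self, hwj, ap_lo]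
  simp

omit two in
/-- a vector of some `Wpp j` outside `E` and outside the line -/
theorem exists_Wpp_out [Finite Y] (two : ∀ v : V, v + v = 0) (hRH : R ≤ H) {E : AddSubgroup V} (hRE : fx V R ≤ E)
    (hWE : ¬ WW V H R ≤ E) : ∃ j, ∃ v ∈ Wpp V H R co j, v ∉ E ∧ co v j 1 ≠ 0 := by
  have h1 : ∃ j, ¬ Wpp V H R co j ≤ E := by
    by_contra h1
    push Not at h1
    exact hWE ((WW_le_PP K two hRH).trans (sup_le hRE (iSup_le h1)))
  obtain ⟨j, hj⟩ := h1
  obtain ⟨a, ha, haE⟩ := SetLike.not_le_iff_exists.1 hj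
  obtain ⟨b, hb, hb1⟩ := exists_Wpp_one K two j
  refine ⟨j, ?_⟩
  by_cases ha1 : co a j 1 = 0
  · by_cases hbE : b ∈ E
    · refine ⟨a + b, add_mem ha hb, fun h2 => haE ?_, ?_⟩
      · have h3 := E.sub_mem h2 hbE
        rwa [add_sub_cancel_right] at h3
      · rw [K.add_apply (Wpp_at K two ha).1 (Wpp_at K two hb).1, ha1, zero_add]
        exact hb1
    · exact ⟨b, hb, hbE, hb1⟩
  · exact ⟨a, ha, haE, ha1⟩

/-! ### Elements trivial on the `j`-th coordinate -/

theorem fix_Wpp {b : Y} (hb : b ∈ H) {σ : Equiv.Perm (Fin k)} (hσ : Mv V H R co b σ) {j : Fin k} (hj : σ j = j)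
    (htr : ∀ w ∈ WW V H R, co (b • w) j = co w j) {v : V} (hv : v ∈ Wpp V H R co j) : b • v = v := by
  induction hv using AddSubgroup.closure_induction with
  | mem v hv =>
    obtain ⟨w, l, hw, hla, rfl⟩ := hv
    have hla' := hla
    obtain ⟨hl, A, hA⟩ := hla
    -- `b` keeps the coordinates of the vectors of `At j`
    have hat : ∀ y, At V H R co j y → co (b • y) = co y := by
      intro y hy
      funext i
      by_cases hi : i = j
      · rw [hi]; exact htr y hy.1
      · have h1 := (hσ.at K two hb hy).2 i (by rw [hj]; exact hi)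
        rw [h1, hy.2 i hi]
    have hc : b * l * b⁻¹ ∈ H := H.mul_mem (H.mul_mem hb hl) (H.inv_mem hb)
    -- `b l b⁻¹` and `l` agree on the coordinates
    have h1 : ∀ w ∈ WW V H R, co ((b * l * b⁻¹) • w) = co (l • w) := by
      intro w hw
      have hu : b⁻¹ • w ∈ WW V H R := smul_mem_WW (H.inv_mem hb) hw
      have hy := hla'.comm K two hu
      have hy' := hla'.comm K two hw
      have e1 : (b * l * b⁻¹) • w = b • (l • b⁻¹ • w + b⁻¹ • w) + w := by
        rw [smul_add, smul_inv_smul, add_assoc, two, add_zero, mul_smul, mul_smul]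
      have e2 : l • w = (l • w + w) + w := by rw [add_assoc, two, add_zero]
      have h3 : co (b⁻¹ • w) j = co w j := by
        have := htr _ hu
        rw [smul_inv_smul] at this
        exact this.symm
      have h4 : co (l • b⁻¹ • w + b⁻¹ • w) = co (l • w + w) := by
        funext i
        by_cases hi : i = j
        · rw [hi, K.add _ (smul_mem_WW hl hu) _ hu, K.add _ (smul_mem_WW hl hw) _ hw, Pi.add_apply, Pi.add_apply,
            hA.1 _ hu, hA.1 _ hw, h3]
        · rw [hy.2 i hi, hy'.2 i hi]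
      rw [e1, K.add _ (smul_mem_WW hb hy.1) _ hw, hat _ hy, h4, ← K.add _ hy'.1 _ hw, ← e2]
    have h2 : ∀ w ∈ WW V H R, (l⁻¹ * (b * l * b⁻¹)) • w = w := by
      apply K.trivH _ (H.mul_mem (H.inv_mem hl) hc)
      intro w hw
      funext i
      rw [mul_smul, (hA.inv hl).1 _ (smul_mem_WW hc hw) i, h1 w hw, hA.1 w hw i, NatPair.ap_inv_ap]
    have h3 : ∀ w ∈ WW V H R, (b * l * b⁻¹) • w = l • w := by
      intro w hw
      have := h2 w hw
      rwa [mul_smul, inv_smul_eq_iff] at this
    have hbw : b • w ∈ WW V H R := smul_mem_WW hb hw.1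
    have h4 := h3 _ hbw
    rw [mul_smul, inv_smul_smul, mul_smul] at h4
    have h5 : co (b • w + w) = 0 := K.co_add_self two hbw hw.1 (hat w hw)
    have h6 := hA.2 _ (add_mem hbw hw.1) h5
    rw [smul_add] at h6 ⊢
    rw [h4]
    -- `l b w + l w = b w + w`
    have e3 : l • b • w = (b • w + w) + l • w := by
      rw [← h6, add_assoc, two, add_zero]
    rw [e3]
    have e4 : b • w + w + l • w + b • w = (b • w + b • w) + (l • w + w) := by abel
    rw [e4, two, zero_add]
  | zero => rw [smul_zero]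
  | add a b _ _ h1 h2 => rw [smul_add, h1, h2]
  | neg a _ h1 => rw [smul_neg, h1]

end gen

/-! ### The action on the `j`-th coordinate -/

/-- the element of `W` with coordinate `x` at `j` and `0` elsewhere -/
noncomputable def em (K : KNat V H R F k co) (j : Fin k) (x : Fin 2 → F) : V := (K.exists_at j x).choose

theorem em_at (K : KNat V H R F k co) (j : Fin k) (x : Fin 2 → F) : At V H R co j (em K j x) :=
  ⟨(K.exists_at j x).choose_spec.1, (K.exists_at j x).choose_spec.2.2⟩

theorem em_self (K : KNat V H R F k co) (j : Fin k) (x : Fin 2 → F) : co (em K j x) j = x :=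
  (K.exists_at j x).choose_spec.2.1

/-- `g` on the `j`-th coordinate -/
noncomputable def ph (K : KNat V H R F k co) (j : Fin k) (g : Y) (x : Fin 2 → F) : Fin 2 → F := co (g • em K j x) j

section act

variable (K : KNat V H R F k co) (two : ∀ v : V, v + v = 0)
include K two

/-- the index of the only nonzero block is unique -/
theorem eq_of_at {i j : Fin k} {v : V} (hv : At V H R co i v) (h0 : co v j ≠ 0) : j = i := by
  by_contra h1
  exact h0 (hv.2 j h1)

theorem St.of_Mv {g : Y} {σ : Equiv.Perm (Fin k)} (hσ : Mv V H R co g σ) {j : Fin k} (hj : σ j = j) :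
    St V H R co j g := by
  intro v hv
  have := hσ v hv j
  rwa [hj] at this

theorem St.fix {g : Y} (hg : g ∈ H) {σ : Equiv.Perm (Fin k)} (hσ : Mv V H R co g σ) {j : Fin k}
    (hs : St V H R co j g) : σ j = j := by
  have h1 := em_at K j ![1, 0]
  have h2 : co (em K j ![1, 0]) j ≠ 0 := by
    rw [em_self K]
    intro h
    have := congrFun h 0
    simp at this
  have h3 : co (g • em K j ![1, 0]) j ≠ 0 := fun h => h2 ((hs _ h1.1).1 h)
  exact (eq_of_at K two (hσ.at K two hg h1) h3).symm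

theorem ph_eq {g : Y} (hg : g ∈ H) {j : Fin k} (hs : St V H R co j g) {w : V} (hw : w ∈ WW V H R) :
    co (g • w) j = ph K j g (co w j) := by
  have he := em_at K j (co w j)
  have h1 : co (w + em K j (co w j)) j = 0 := by
    rw [K.add w hw _ he.1, Pi.add_apply, em_self K]
    exact ffv K two j _
  have h2 := (hs _ (add_mem hw he.1)).2 h1
  rw [smul_add, K.add _ (smul_mem_WW hg hw) _ (smul_mem_WW hg he.1), Pi.add_apply] at h2
  have h3 : co (g • w) j + co (g • em K j (co w j)) j + co (g • em K j (co w j)) j = ph K j g (co w j) := by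
    rw [h2, zero_add]; rfl
  rwa [add_assoc, ffv K two j, add_zero] at h3

theorem ph_mul {g h : Y} (hg : g ∈ H) (hh : h ∈ H) {j : Fin k} (hs : St V H R co j g) (x : Fin 2 → F) :
    ph K j (g * h) x = ph K j g (ph K j h x) := by
  have h1 := ph_eq K two hg hs (smul_mem_WW hh (em_at K j x).1)
  rw [← mul_smul] at h1
  exact h1

theorem ph_one (j : Fin k) (x : Fin 2 → F) : ph K j (1 : Y) x = x := by
  unfold ph
  rw [one_smul, em_self K]

theorem ph_add {g : Y} (hg : g ∈ H) {j : Fin k} (hs : St V H R co j g) (x y : Fin 2 → F) :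
    ph K j g (x + y) = ph K j g x + ph K j g y := by
  have hx := (em_at K j x).1
  have hy := (em_at K j y).1
  have h1 := ph_eq K two hg hs (add_mem hx hy)
  rw [K.add _ hx _ hy, Pi.add_apply, em_self K, em_self K, smul_add,
    K.add _ (smul_mem_WW hg hx) _ (smul_mem_WW hg hy), Pi.add_apply] at h1
  exact h1.symm

theorem St.inv {g : Y} (hg : g ∈ H) {j : Fin k} (hs : St V H R co j g) : St V H R co j g⁻¹ := by
  intro v hv
  have h1 := hs _ (smul_mem_WW (H.inv_mem hg) hv)
  rw [smul_inv_smul] at h1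
  exact h1.symm

theorem St.mul {g h : Y} (hh : h ∈ H) {j : Fin k} (hs : St V H R co j g) (ht : St V H R co j h) :
    St V H R co j (g * h) := by
  intro v hv
  rw [mul_smul, hs _ (smul_mem_WW hh hv), ht v hv]

theorem ph_semi [Finite F] {g : Y} (hg : g ∈ H) {j : Fin k} (hs : St V H R co j g) :
    ∃ τ : F ≃+* F, ∀ (c : F) x, ph K j g (c • x) = τ c • ph K j g x := by
  have h1 : ∀ x, ph K j g⁻¹ (ph K j g x) = x := fun x => by
    rw [← ph_mul K two (H.inv_mem hg) hg (hs.inv K two hg), inv_mul_cancel, ph_one K two]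
  have h2 : ∀ x, ph K j g (ph K j g⁻¹ x) = x := fun x => by
    rw [← ph_mul K two hg (H.inv_mem hg) hs, mul_inv_cancel, ph_one K two]
  obtain ⟨σ', hσ'⟩ := NatPair.exists_semi (ph K j g) (ph K j g⁻¹) (ph_add K two hg hs) h1 h2 (by
    intro A
    obtain ⟨h0, hh0, hA0⟩ := K.lift (Function.update 1 j A)
    obtain ⟨B, hB⟩ := K.norm g⁻¹ (H.inv_mem hg) h0 hh0 _ hA0.1
    refine ⟨B j, fun x => ?_⟩
    have h3 := hB _ (em_at K j x).1 j
    have h4 := smul_mem_WW hg (em_at K j x).1
    rw [em_self K, inv_inv, mul_smul, mul_smul, ph_eq K two (H.inv_mem hg) (hs.inv K two hg) (smul_mem_WW hh0 h4),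
      hA0.1 _ h4 j, Function.update_self] at h3
    exact h3)
  exact NatPair.exists_ringEquiv _ _ (ph_add K two hg hs) h1 σ' hσ'

theorem ph_line (hRH : R ≤ H) {g : Y} (hg : g ∈ R) {j : Fin k} (hs : St V H R co j g) (x : Fin 2 → F)
    (hx : x 1 = 0) : ph K j g x 1 = 0 := by
  obtain ⟨σ, hσ⟩ := K.line g hg
  obtain ⟨σ', hσ'⟩ := K.perm g (hRH hg)
  have h1 := em_at K j ![0, 1]
  have h2 : co (em K j ![0, 1]) j 1 ≠ 0 := by
    rw [em_self K]
    simp
  have h3 : co (g • em K j ![0, 1]) (σ j) 1 ≠ 0 := fun h => h2 ((hσ _ h1.1 j).1 h)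
  have h4 : σ j = σ' j := eq_of_at K two (Mv.at K two (hRH hg) hσ' h1) fun h => h3 (by rw [h]; rfl)
  have h5 : σ' j = j := hs.fix K two (hRH hg) hσ'
  have h6 := (hσ _ (em_at K j x).1 j).2 (by rw [em_self K]; exact hx)
  rw [h4, h5] at h6
  exact h6

/-- the stabiliser of the block `j` in `B` -/
def stab (K : KNat V H R F k co) (two : ∀ v : V, v + v = 0) (B : Subgroup Y) (hB : B ≤ H) (j : Fin k) :
    Subgroup Y where
  carrier := {b | b ∈ B ∧ St V H R co j b}
  one_mem' := ⟨B.one_mem, fun v _ => by rw [one_smul]⟩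
  mul_mem' := fun {a b} ha hb => ⟨B.mul_mem ha.1 hb.1, ha.2.mul K two (hB hb.1) hb.2⟩
  inv_mem' := fun {a} ha => ⟨B.inv_mem ha.1, ha.2.inv K two (hB ha.1)⟩

omit two in
theorem slin [Finite F] (two : ∀ v : V, v + v = 0) (hRH : R ≤ H) {D B : Subgroup Y} {E F₁ : AddSubgroup V}
    (hm : Mem D E F₁) (hBD : B ≤ D) (hBR : B ≤ R) {j : Fin k} {v : V} (hv : v ∈ Wpp V H R co j) (hvE : v ∉ E) :
    SLin F (stab K two B (hBR.trans hRH) j) (ph K j) where
  comm := fun a ha b hb => hm.comm a (hBD ha.1) b (hBD hb.1)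
  sq := fun a ha => hm.sq a (hBD ha.1)
  two := K.ff two j
  mul := fun a ha b hb x => ph_mul K two (hRH (hBR ha.1)) (hRH (hBR hb.1)) ha.2 x
  one := ph_one K two j
  add := fun a ha => ph_add K two (hRH (hBR ha.1)) ha.2
  semi := fun a ha => ph_semi K two (hRH (hBR ha.1)) ha.2
  line := fun a ha => ph_line K two hRH (hBR ha.1) ha.2
  faith := fun a ha h1 => by
    have haH := hRH (hBR ha.1)
    obtain ⟨σ, hσ⟩ := K.perm a haH
    apply hm.inj v hvE a (hBD ha.1)
    rw [fix_Wpp K two haH hσ (ha.2.fix K two haH hσ) (fun w hw => by rw [ph_eq K two haH ha.2 hw, h1]) hv, two]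
    exact F₁.zero_mem

omit two in
/-- **the general lemma of (z)** -/
theorem zed [Finite Y] [Finite F] (two : ∀ v : V, v + v = 0) (hRH : R ≤ H) {D B : Subgroup Y}
    {E F₁ : AddSubgroup V} (hm : Mem D E F₁) (hBD : B ≤ D) (hBR : B ≤ R) (hRE : fx V R ≤ E) (hWE : ¬ WW V H R ≤ E)
    {n : ℕ} (hS : ∀ v ∈ WW V H R, v ∉ E → ∃ S : Set Y, Nat.card S = n ∧ (∀ s ∈ S, s ∈ B) ∧
      ∀ s ∈ S, ∀ b ∈ B, s • b • v + b • v + (s • v + v) = 0) :
    n < Nat.card F ∨ n * Nat.card B < Nat.card F ^ 4 ∧ n < Nat.card F ^ 2 := by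
  obtain ⟨j, v, hv, hvE, hv1⟩ := exists_Wpp_out K two hRH hRE hWE
  have hat := Wpp_at K two hv
  obtain ⟨S, hSn, hSB, hSv⟩ := hS v hat.1 hvE
  have hsl := slin K two hRH hm hBD hBR hv hvE
  have hBH : B ≤ H := hBR.trans hRH
  have hv0 : co v j ≠ 0 := fun h => hv1 (by rw [h]; rfl)
  have hF2 : 2 ≤ Nat.card F := Finite.one_lt_card
  rw [← hSn]
  -- elements outside the stabiliser
  have hout : ∀ b ∈ B, b ∉ stab K two B (hBR.trans hRH) j → co (b • v) j = 0 := by
    intro b hb hbN
    by_contra h1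
    obtain ⟨σ, hσ⟩ := K.perm b (hBH hb)
    have h2 := eq_of_at K two (Mv.at K two (hBH hb) hσ hat) h1
    exact hbN ⟨hb, St.of_Mv K two hσ h2.symm⟩
  have hsum : ∀ s ∈ S, ∀ b ∈ B, co (s • b • v) j + co (b • v) j + (co (s • v) j + co v j) = 0 := by
    intro s hs b hb
    have h1 : co (s • b • v + b • v + (s • v + v)) j = co 0 j := by rw [hSv s hs b hb]
    have hsH := hBH (hSB s hs)
    have m1 := smul_mem_WW (hBH hb) hat.1
    have m2 := smul_mem_WW hsH m1
    have m3 := smul_mem_WW hsH hat.1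
    rw [K.add _ (add_mem m2 m1) _ (add_mem m3 hat.1), K.add _ m2 _ m1, K.add _ m3 _ hat.1, K.zero] at h1
    exact h1
  apply zcount (N := stab K two B (hBR.trans hRH) j) (fun b hb => hm.sq b (hBD hb)) hSB hF2 hsl.card_le
  · intro b hb hbN
    apply hsl.card_stab hv1
    rintro s ⟨hs, hsN⟩
    refine ⟨hsN, ?_⟩
    have h1 := hsum s hs b hb
    have h2 := hout b hb hbN
    have h3 := (hsN.2 _ (smul_mem_WW (hBH hb) hat.1)).2 h2
    rw [h2, h3, zero_add, zero_add] at h1
    rw [← ph_eq K two (hBH hsN.1) hsN.2 hat.1]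
    have h4 : co (s • v) j + co v j + co v j = co v j := by rw [h1, zero_add]
    rwa [add_assoc, ffv K two j, add_zero] at h4
  · intro b hb hbN s hs hsN
    have h1 := hsum s hs b hb
    rw [hout b hb hbN, hout s (hSB s hs) hsN, add_zero, zero_add] at h1
    refine ⟨B.mul_mem (hSB s hs) hb, ?_⟩
    have hsbH := H.mul_mem (hBH (hSB s hs)) (hBH hb)
    obtain ⟨σ, hσ⟩ := K.perm (s * b) hsbH
    apply St.of_Mv K two hσ
    have h2 : co ((s * b) • v) j ≠ 0 := by
      intro h3
      rw [mul_smul] at h3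
      rw [h3, zero_add] at h1
      exact hv0 h1
    exact (eq_of_at K two (Mv.at K two hsbH hσ hat) h2).symm

end act

end Cfsg.Agent.Omega.NO1.TH.K.Z
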