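import Cfsg.Agent.Omega.NO1.TH.K.ZMod
import Cfsg.Agent.Omega.NO1.TH.K.EOne

/-!
# N1, (z) of bb OMEGA 20646, natural type, `k` factors

`TwoN V U T M H H' R F k co co' t`, `A ≤ H` a member with `W' ≤ E_A`, `A ≰ Q`, `A ∩ Q ≰ Q'` and `S_X ≤ K = A ∩ Q ∩ Q'`
(the conclusions of (e), (g)).  Then
* `card_ge`, `card_ge'`, `card_SX_ge`, `card_A_ge` : `|A : A ∩ Q|, |A ∩ Q : K| ≥ c`, `|S_X| ≥ c²`, `|A| ≥ c⁴`;
* `le₁` : `x • w ∈ E_A` for `x ∈ H`, `w ∈ W'`;  `le_D` : `W' ≤ E_D` for every member `D ≤ H` with `|D| ≥ c⁴`;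
* `le₂` : `x • w ∈ E_A` for `x ∈ H'`, `w ∈ W`.
-/

set_option autoImplicit false
set_option linter.unusedSectionVars false
set_option linter.dupNamespace false

namespace Cfsg.Agent.Omega.NO1.TH.K.Zed

open Subgroup Cfsg.Agent.Omega.NO1.AB Cfsg.Agent.Omega.FFBr Cfsg.Agent.Lib.SL2Mat
open scoped Pointwise

universe u

variable {Y : Type u} [Group Y] {V : Type u} [AddCommGroup V] [DistribMulAction Y V]
variable {U : Set (Subgroup Y)} {T : Sylow 2 Y} {M H H' R : Subgroup Y} {F : Type} [Field F] {k : ℕ}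
  {co co' : V → Fin k → Fin 2 → F} {t : Y}

theorem card_fun_ge [Finite F] {k : ℕ} {I : Set (Fin k)} (hI : I.Nonempty) : Nat.card F ≤ Nat.card (I → F) := by
  have : Nonempty I := hI.to_subtype
  have : Finite (I → F) := Pi.finite
  exact Nat.card_le_card_of_injective (Function.const I) Function.const_injective

theorem commutes {a b : Y} {v x : V} (two : ∀ v : V, v + v = 0) (hab : a * b = b * a) (hx : a • v + v = x)
    (hb : b • x = x) : a • b • v + b • v + (a • v + v) = 0 := by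
  have h1 : a • b • v = b • a • v := by rw [← mul_smul, hab, mul_smul]
  rw [h1, ← smul_add, hx, hb, two]

variable [Finite Y] [Finite V] [Finite F] (h : TwoN V U T M H H' R F k co co' t)
include h

/-- `|D : D ∩ Q| ≥ c` -/
theorem card_ge {D : Subgroup Y} (hD : D ∈ U) (hDH : D ≤ H) (hDQ : ¬ D ≤ QQ H R) :
    Nat.card F * Nat.card ↥(D ⊓ QQ H R) ≤ Nat.card D := by
  obtain ⟨y, hy, hyU, hyR⟩ := Amal.exists_conj h.a h.amb hD hDH
  have hQ : MulAut.conj y • QQ H R = QQ H R := conj_of_mem fun x hx => conj_mem_QQ hy hx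
  have hQy : ¬ MulAut.conj y • D ≤ QQ H R := by
    intro h1
    apply hDQ
    intro b hb
    have h5 := conj_mem_QQ (H.inv_mem hy) (h1 (conj_mem_conj hb))
    have e : y⁻¹ * (y * b * y⁻¹) * y⁻¹⁻¹ = b := by group
    rwa [e] at h5
  obtain ⟨I, hI, hS⟩ := exists_supp h.K h.amb h.a h.we hyU hyR hQy
  have h1 := member_card h.K h.amb h.a hyR hS
  have h2 : Nat.card ↥(MulAut.conj y • D ⊓ QQ H R) = Nat.card ↥(D ⊓ QQ H R) := by
    have h3 : MulAut.conj y • D ⊓ QQ H R = MulAut.conj y • (D ⊓ QQ H R) := by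
      rw [conj_inf, hQ]
    rw [h3, conj_card]
  rw [conj_card, h2] at h1
  rw [h1, mul_comm]
  exact Nat.mul_le_mul_left _ (card_fun_ge hI)

/-- `|A ∩ Q : K| ≥ c` -/
theorem card_ge' {A : Subgroup Y} (hA : A ∈ U) (hAH : A ≤ H) (hE : WW V H' R ≤ Ee V A)
    (hBQ : ¬ A ⊓ QQ H R ≤ QQ H' R) :
    Nat.card F * Nat.card ↥(A ⊓ QQ H R ⊓ QQ H' R) ≤ Nat.card ↥(A ⊓ QQ H R) := by
  have h1 := (Amal.e_one h.a h.a' h.amb h.we h.we' hA hAH hE).1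
  have hR : A ⊓ QQ H R ≤ R := inf_le_right.trans QQ_le
  obtain ⟨I, hI, hS⟩ := h.K'.exists_supp_of h.amb.two h.a'.RH hR
    (ElAb.mono (Mem.elAb (h.amb.cls.mem A hA)) inf_le_left) hBQ h1.le
  have h2 := hS.card h.K' h.amb.two h.a'.RH (Q_fix h.amb h.a') hR
  rw [h2, mul_comm]
  exact Nat.mul_le_mul_left _ (card_fun_ge hI)

/-- `|S_X| ≥ c²` -/
theorem card_SX_ge {A : Subgroup Y} (hA : A ∈ U) (hAH : A ≤ H) (hE : WW V H' R ≤ Ee V A) (hAQ : ¬ A ≤ QQ H R)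
    (hBQ : ¬ A ⊓ QQ H R ≤ QQ H' R) {w : V} (hw : w ∉ Ee V A) :
    Nat.card F ^ 2 ≤ Nat.card {s : Y // s ∈ A ∧ s • w + w ∈ WW V H R ⊔ WW V H' R ⊔ fx V A} := by
  have h1 := Amal.e_S h.a h.a' h.amb h.we h.we' hA hAH hE hw
  have h2 := card_ge h hA hAH hAQ
  have h3 := card_ge' h hA hAH hE hBQ
  have h4 : 0 < Nat.card ↥(A ⊓ QQ H R ⊓ QQ H' R) := Nat.card_pos
  apply Nat.le_of_mul_le_mul_left _ h4
  rw [h1]
  calc _ = Nat.card F * (Nat.card F * Nat.card ↥(A ⊓ QQ H R ⊓ QQ H' R)) := by ring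
    _ ≤ Nat.card F * Nat.card ↥(A ⊓ QQ H R) := Nat.mul_le_mul_left _ h3
    _ ≤ _ := h2

/-- `|A| ≥ c⁴` -/
theorem card_A_ge {A : Subgroup Y} (hA : A ∈ U) (hAH : A ≤ H) (hE : WW V H' R ≤ Ee V A) (hAQ : ¬ A ≤ QQ H R)
    (hBQ : ¬ A ⊓ QQ H R ≤ QQ H' R) (hS : ∀ w, w ∉ Ee V A → ∀ s ∈ A,
      s • w + w ∈ WW V H R ⊔ WW V H' R ⊔ fx V A → s ∈ QQ H R ∧ s ∈ QQ H' R) :
    Nat.card F ^ 4 ≤ Nat.card A := by
  obtain ⟨w, hw⟩ := (h.amb.cls.mem A hA).ne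
  have h1 := Amal.e_S h.a h.a' h.amb h.we h.we' hA hAH hE hw
  have h2 := card_SX_ge h hA hAH hE hAQ hBQ hw
  have h3 : Nat.card {s : Y // s ∈ A ∧ s • w + w ∈ WW V H R ⊔ WW V H' R ⊔ fx V A} ≤
      Nat.card ↥(A ⊓ QQ H R ⊓ QQ H' R) := by
    apply Nat.card_le_card_of_injective
      (fun s : {s : Y // s ∈ A ∧ s • w + w ∈ WW V H R ⊔ WW V H' R ⊔ fx V A} =>
        (⟨s, ⟨s.2.1, (hS w hw s s.2.1 s.2.2).1⟩, (hS w hw s s.2.1 s.2.2).2⟩ : ↥(A ⊓ QQ H R ⊓ QQ H' R)))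
    intro s r hsr
    exact Subtype.ext (congrArg (fun z : ↥(A ⊓ QQ H R ⊓ QQ H' R) => (z : Y)) hsr)
  rw [← h1]
  calc Nat.card F ^ 4 = Nat.card F ^ 2 * Nat.card F ^ 2 := by ring
    _ ≤ _ := Nat.mul_le_mul (h2.trans h3) h2

/-- **(z) (1)**: `W' ≤ E_D` for every member `D ≤ H` with `|D| ≥ c⁴` -/
theorem le_D {D : Subgroup Y} (hD : D ∈ U) (hDH : D ≤ H) (hc : Nat.card F ^ 4 ≤ Nat.card D) :
    WW V H' R ≤ Ee V D := by
  by_cases hDQ : D ≤ QQ H R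
  · exact h.we' D hD (hDQ.trans QQ_le)
  by_contra hWE
  have hm := h.amb.cls.mem D hD
  have hWD : WW V H R ≤ Ee V D := h.a.WW_le_Ee h.amb h.we hD hDH
  have h1 := Z.zed (R := R) (B := D ⊓ QQ H R) (n := Nat.card D / Nat.card ↥(D ⊓ QQ H R)) h.K' h.amb.two h.a'.RH hm
    inf_le_left (inf_le_right.trans QQ_le) (fx_le_WW.trans hWD) hWE (by
    intro v _ hvE
    refine ⟨{s : Y | s ∈ D ∧ s • v + v ∈ WW V H R ⊔ fx V D}, ?_, ?_, ?_⟩
    · have h2 := card_SX h.amb.two hm hvE (X := WW V H R ⊔ fx V D) le_sup_right (sup_le hWD hm.FE)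
      have h3 := card_sup_as (WW V H R) (fx V D)
      have h4 := h.a.exact' h.amb h.we hD hDH
      have h5 : 0 < Nat.card ↥(D ⊓ QQ H R) := Nat.card_pos
      have h6 : 0 < Nat.card ↥(fx V D) := Nat.card_pos
      have h7 : 0 < Nat.card ↥(WW V H R ⊓ fx V D) := Nat.card_pos
      symm
      apply Nat.div_eq_of_eq_mul_left h5
      -- `|D| = |S| |D ∩ Q|`
      change Nat.card D = Nat.card {s : Y // s ∈ D ∧ s • v + v ∈ WW V H R ⊔ fx V D} * _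
      apply Nat.eq_of_mul_eq_mul_right (Nat.mul_pos h6 h7)
      calc Nat.card D * (Nat.card ↥(fx V D) * Nat.card ↥(WW V H R ⊓ fx V D)) =
            (Nat.card D * Nat.card ↥(WW V H R ⊓ fx V D)) * Nat.card ↥(fx V D) := by ring
        _ = (Nat.card ↥(WW V H R) * Nat.card ↥(D ⊓ QQ H R)) * Nat.card ↥(fx V D) := by rw [h4]
        _ = (Nat.card ↥(WW V H R) * Nat.card ↥(fx V D)) * Nat.card ↥(D ⊓ QQ H R) := by ring
        _ = (Nat.card ↥(WW V H R ⊔ fx V D) * Nat.card ↥(WW V H R ⊓ fx V D)) * Nat.card ↥(D ⊓ QQ H R) := by rw [h3]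
        _ = _ := by rw [h2]; ring
    · rintro s ⟨hs, hsv⟩
      refine ⟨hs, ?_⟩
      obtain ⟨x, hx, f, hf, hxf⟩ := AddSubgroup.mem_sup.1 hsv
      apply mem_Q_of_shift h.K h.amb h.a h.we hD hDH hvE hx hs
      have e : s • v + v + x = f := by
        rw [← hxf]
        have e1 : x + f + x = (x + x) + f := by abel
        rw [e1, h.amb.two, zero_add]
      rw [e]
      exact hf
    · rintro s ⟨hs, hsv⟩ b ⟨hb, hbQ⟩
      obtain ⟨x, hx, f, hf, hxf⟩ := AddSubgroup.mem_sup.1 hsv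
      apply commutes h.amb.two (hm.comm s hs b hb) hxf.symm
      rw [smul_add, Q_fix h.amb h.a b hbQ x hx, hf b hb])
  have h2 := card_ge h hD hDH hDQ
  have h5 : 0 < Nat.card ↥(D ⊓ QQ H R) := Nat.card_pos
  rcases h1 with h1 | ⟨h1, _⟩
  · have h3 : Nat.card F ≤ Nat.card D / Nat.card ↥(D ⊓ QQ H R) := (Nat.le_div_iff_mul_le h5).2 h2
    omega
  · have h3 : Nat.card D / Nat.card ↥(D ⊓ QQ H R) * Nat.card ↥(D ⊓ QQ H R) = Nat.card D := by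
      apply Nat.div_mul_cancel
      exact card_dvd_of_le inf_le_left
    rw [h3] at h1
    omega

/-- **(z) (1)** -/
theorem le₁ {A : Subgroup Y} (hA : A ∈ U) (hAH : A ≤ H) (hc : Nat.card F ^ 4 ≤ Nat.card A) :
    ∀ x ∈ H, ∀ w ∈ WW V H' R, x • w ∈ Ee V A := by
  intro x hx w hw
  have hD : MulAut.conj x⁻¹ • A ≤ H := by
    intro a ha
    rw [mem_conj, inv_inv] at ha
    have h1 := H.mul_mem (H.mul_mem (H.inv_mem hx) (hAH ha)) hx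
    have e : x⁻¹ * (x * a * x⁻¹) * x = a := by group
    rwa [e] at h1
  have h1 := le_D h (h.amb.cls.conj A hA x⁻¹) hD (by rw [conj_card]; exact hc) hw
  rw [Ee_conj, mem_smul_as, inv_inv] at h1
  exact h1

/-- **(z) (2)** -/
theorem le₂ {A : Subgroup Y} (hA : A ∈ U) (hAH : A ≤ H) (hE : WW V H' R ≤ Ee V A) (hAQ : ¬ A ≤ QQ H R)
    (hBQ : ¬ A ⊓ QQ H R ≤ QQ H' R) (hS : ∀ w, w ∉ Ee V A → ∀ s ∈ A,
      s • w + w ∈ WW V H R ⊔ WW V H' R ⊔ fx V A → s ∈ QQ H R ∧ s ∈ QQ H' R) :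
    ∀ x ∈ H', ∀ w ∈ WW V H R, x • w ∈ Ee V A := by
  intro g hg w hw
  have hm := h.amb.cls.mem A hA
  suffices h1 : WW V (MulAut.conj g • H) (MulAut.conj g • R) ≤ Ee V A by
    apply h1
    rw [WW_conj']
    exact smul_mem_smul_as hw
  by_contra hWE
  obtain ⟨w₀, hw₀⟩ := hm.ne
  have h1 := Z.zed (B := A ⊓ QQ H R ⊓ QQ H' R) (n := Nat.card A / Nat.card ↥(A ⊓ QQ H R ⊓ QQ H' R)) (h.K.conj g)
    h.amb.two (conj_le_conj g h.a.RH) hm
    (inf_le_left.trans inf_le_left) (by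
      intro q hq
      rw [mem_conj]
      have h2 := hq.2 g⁻¹ (H'.inv_mem hg)
      rwa [inv_inv] at h2) (by
      rw [fx_conj]
      intro v hv
      rw [mem_smul_as] at hv
      apply hE
      have h2 := smul_mem_WW hg (fx_le_WW (H := H') hv)
      rwa [smul_inv_smul] at h2) hWE (by
    intro v _ hvE
    refine ⟨{s : Y | s ∈ A ∧ s • v + v ∈ WW V H R ⊔ WW V H' R ⊔ fx V A}, ?_, ?_, ?_⟩
    · have h2 := Amal.e_S h.a h.a' h.amb h.we h.we' hA hAH hE hvE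
      symm
      apply Nat.div_eq_of_eq_mul_left Nat.card_pos
      rw [← h2, mul_comm]
      rfl
    · rintro s ⟨hs, hsv⟩
      exact ⟨⟨hs, (hS v hvE s hs hsv).1⟩, (hS v hvE s hs hsv).2⟩
    · rintro s ⟨hs, hsv⟩ b ⟨⟨hb, hbQ⟩, hbQ'⟩
      obtain ⟨y, hy, f, hf, hxf⟩ := AddSubgroup.mem_sup.1 hsv
      obtain ⟨x, hx, x', hx', rfl⟩ := AddSubgroup.mem_sup.1 hy
      apply commutes h.amb.two (hm.comm s hs b hb) hxf.symm
      rw [smul_add, smul_add, Q_fix h.amb h.a b hbQ x hx, Q_fix h.amb h.a' b hbQ' x' hx', hf b hb])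
  have h2 := card_SX_ge h hA hAH hE hAQ hBQ hw₀
  have h3 := Amal.e_S h.a h.a' h.amb h.we h.we' hA hAH hE hw₀
  have h4 : Nat.card A / Nat.card ↥(A ⊓ QQ H R ⊓ QQ H' R) =
      Nat.card {s : Y // s ∈ A ∧ s • w₀ + w₀ ∈ WW V H R ⊔ WW V H' R ⊔ fx V A} := by
    apply Nat.div_eq_of_eq_mul_left Nat.card_pos
    rw [← h3, mul_comm]
  rw [h4] at h1
  have h5 : 2 ≤ Nat.card F := Finite.one_lt_card
  rcases h1 with h1 | ⟨_, h1⟩
  · have h6 : Nat.card F ≤ Nat.card F ^ 2 := by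
      rw [pow_two]
      exact Nat.le_mul_of_pos_left _ (by omega)
    omega
  · omega

/-- **(z), both parts, from the conclusions of (e) and (g)** -/
theorem le_le {A : Subgroup Y} (hA : A ∈ U) (hAH : A ≤ H) (hE : WW V H' R ≤ Ee V A) (hAQ : ¬ A ≤ QQ H R)
    (hBQ : ¬ A ⊓ QQ H R ≤ QQ H' R) (hS : ∀ w, w ∉ Ee V A → ∀ s ∈ A,
      s • w + w ∈ WW V H R ⊔ WW V H' R ⊔ fx V A → s ∈ QQ H R ∧ s ∈ QQ H' R) :
    (∀ x ∈ H, ∀ w ∈ WW V H' R, x • w ∈ Ee V A) ∧ ∀ x ∈ H', ∀ w ∈ WW V H R, x • w ∈ Ee V A :=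
  ⟨le₁ h hA hAH (card_A_ge h hA hAH hE hAQ hBQ hS), le₂ h hA hAH hE hAQ hBQ hS⟩

end Cfsg.Agent.Omega.NO1.TH.K.Zed
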